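import Cfsg.Agent.SmallExtra438.Frame
import Cfsg.Agent.LargeExtra.W2.ThreeA
import Cfsg.Agent.LargeExtra.W2.ThreeLocal
import Mathlib
import Cfsg.Agent.Characters.ExceptionalIsometry
import Cfsg.Agent.GTwoThree.Pattern_m3
import Cfsg.Agent.S0157
import Cfsg.Agent.S0145
import Cfsg.Agent.S0135
import Cfsg.Agent.CharactersDeep.FeitOddAux
import Cfsg.Agent.FastGrp
import Cfsg.Agent.Prune
set_option linter.all false

section
prune_inst 0x7ffefefbadecaddfffff7e3fff71dffe33c1cfffffdff94bffe9ebbfffbf23e52bc5fba78de4d0ffcef6e2b410b87853fb7eceffe86bdc7ffffd5ff41ffbee0ff7ff378d51d4b8341ffe6fff93f27fae7f3fffffffffffffffffffffffffffffffffffffffff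

-- part: LargeExtra/W2/ThreeG/Two_mg
section
set_option linter.all false
open scoped Cfsg.Agent.FastGrp

-- part: LargeExtra/W2/ThreeG/Model
section
/-!
# A decidable model of `C_G(z)` in the case `9c` of S1759, `y² = 1` (helper865, after helper438)

Elements of `C_G(z)` (order 576) are coded by `m < 576`, `m = q + 32 k`, `q < 32` an element of `Q`
(bits `0..3` = `i, j, k, l`, bit `4` = `z`), `k = a + 3 b + 9 e` the element `x₁ ^ a x₂ ^ b y ^ e`; `mm` is the
multiplication.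
-/

set_option autoImplicit false

namespace Cfsg.Agent.LargeExtra.W2.ThreeG.Model

open Cfsg.Agent.LargeExtra.Model Cfsg.Agent.LargeExtra.Pres Cfsg.Agent.LargeExtra.Models
open Cfsg.Agent.LargeExtra.W2 Cfsg.Agent.SmallExtra438.Model Cfsg.Agent.SmallExtra438.Frame

def Ty : ℕ := 582580717714439745947200

def TC : ℕ := 9842874765088941116655327286299190451675651752524254327859740305809752799276404406471038253877699478705413197752756131374785023098163816156693533134675726127589898291462798222430359328098446847336859130357489470203220116770885338146241602787151147057044344231771974776855206430816309741629276059178147447767667953391787390394260046623056087767958677742958324732760118607926039307078094477264358940904517035317209239057476137894643744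

/-- the action of `x₁ ^ a x₂ ^ b y ^ e` on `Q` -/
def act (k x : ℕ) : ℕ := ((TC >>> (80 * k + 5 * (x % 16))) % 32) ^^^ (x &&& 16)

/-- multiplication of the `x₁ ^ a x₂ ^ b y ^ e` -/
def km (k k' : ℕ) : ℕ :=
  if k < 9 then (k % 3 + k' % 3) % 3 + 3 * ((k / 3 % 3 + k' / 3 % 3) % 3) + 9 * (k' / 9)
  else (k % 3 + 2 * (k' % 3)) % 3 + 3 * ((k / 3 % 3 + 2 * (k' / 3 % 3)) % 3) + 9 * ((1 + k' / 9) % 2)

/-- multiplication of the model -/
def mm (m m' : ℕ) : ℕ := qm (m % 32) (act (m / 32) (m' % 32)) + 32 * km (m / 32) (m' / 32)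

theorem act_lt : ∀ k < 18, ∀ x < 32, act k x < 32 := by decide +kernel

theorem act_eq : ∀ k < 18, ∀ x < 32,
    act k x = (_root_.Cfsg.Agent.SmallExtra438.Model.app T1)^[k % 3] ((_root_.Cfsg.Agent.SmallExtra438.Model.app T2)^[k / 3 % 3] ((_root_.Cfsg.Agent.SmallExtra438.Model.app Ty)^[k / 9] x)) := by decide +kernel

theorem app_lt' : ∀ x < 32, _root_.Cfsg.Agent.SmallExtra438.Model.app Ty x < 32 := by decide +kernel

/-- images of the generators -/
def Iy : ℕ → XG rP4 4 := fun n => toX ([18, 17, 24, 20].getD n 0)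

theorem goody : Good rP4 4 Iy := by decide +kernel

theorem lifty : ∀ x < 32, lift goody.rels tri_P4 (toX x) = toX (_root_.Cfsg.Agent.SmallExtra438.Model.app Ty x) := by decide +kernel

theorem km_lt : ∀ n < 18, ∀ n' < 18, km n n' < 18 := by decide +kernel

section

variable {G : Type*} [Group G] {Q : Subgroup G} {z i j k l x₁ x₂ y : G}

/-- the element of `C_G(z)` with code `m` -/
def F (z i j k l x₁ x₂ y : G) (m : ℕ) : G := L z i j k l (m % 32) * kap x₁ x₂ y (m / 32)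

theorem L_17 (h : Plus Q z i j k l) : L z i j k l 17 = i * z := by
  rw [show (17 : ℕ) = qm 1 16 by decide, _root_.Cfsg.Agent.SmallExtra438.Frame.L_mul h (by norm_num) (by norm_num), L_1, L_16]

theorem L_18 (h : Plus Q z i j k l) : L z i j k l 18 = j * z := by
  rw [show (18 : ℕ) = qm 2 16 by decide, _root_.Cfsg.Agent.SmallExtra438.Frame.L_mul h (by norm_num) (by norm_num), L_2, L_16]

theorem L_20 (h : Plus Q z i j k l) : L z i j k l 20 = k * z := by
  rw [show (20 : ℕ) = qm 4 16 by decide, _root_.Cfsg.Agent.SmallExtra438.Frame.L_mul h (by norm_num) (by norm_num), L_4, L_16]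

theorem L_24 (h : Plus Q z i j k l) : L z i j k l 24 = l * z := by
  rw [show (24 : ℕ) = qm 8 16 by decide, _root_.Cfsg.Agent.SmallExtra438.Frame.L_mul h (by norm_num) (by norm_num), L_8, L_16]

variable (h : Case9c Q z i j k l x₁ x₂ y)
include h

theorem conj1 {x : ℕ} (hx : x < 32) : x₁ * L z i j k l x = L z i j k l (_root_.Cfsg.Agent.SmallExtra438.Model.app T1 x) * x₁ := by
  refine conj_L h.toPlus h.x₁_act.z good1 lift1 (fun n => ?_) hx
  fin_cases n
  · change x₁ * i * x₁⁻¹ = L z i j k l 2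
    rw [L_2]; exact h.x₁_act.i
  · change x₁ * j * x₁⁻¹ = L z i j k l 3
    rw [L_3]; exact h.x₁_act.j
  · change x₁ * k * x₁⁻¹ = L z i j k l 4
    rw [L_4]; exact h.x₁_act.k
  · change x₁ * l * x₁⁻¹ = L z i j k l 8
    rw [L_8]; exact h.x₁_act.l

theorem conj2 {x : ℕ} (hx : x < 32) : x₂ * L z i j k l x = L z i j k l (_root_.Cfsg.Agent.SmallExtra438.Model.app T2 x) * x₂ := by
  refine conj_L h.toPlus h.x₂_act.z good2 lift2 (fun n => ?_) hx
  fin_cases n
  · change x₂ * i * x₂⁻¹ = L z i j k l 1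
    rw [L_1]; exact h.x₂_act.i
  · change x₂ * j * x₂⁻¹ = L z i j k l 2
    rw [L_2]; exact h.x₂_act.j
  · change x₂ * k * x₂⁻¹ = L z i j k l 8
    rw [L_8]; exact h.x₂_act.k
  · change x₂ * l * x₂⁻¹ = L z i j k l 12
    rw [L_12]; exact h.x₂_act.l

theorem conjy {x : ℕ} (hx : x < 32) : y * L z i j k l x = L z i j k l (_root_.Cfsg.Agent.SmallExtra438.Model.app Ty x) * y := by
  refine conj_L h.toPlus h.y_act.z goody lifty (fun n => ?_) hx
  fin_cases n
  · change y * i * y⁻¹ = L z i j k l 18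
    rw [L_18 h.toPlus]; exact h.y_act.i
  · change y * j * y⁻¹ = L z i j k l 17
    rw [L_17 h.toPlus]; exact h.y_act.j
  · change y * k * y⁻¹ = L z i j k l 24
    rw [L_24 h.toPlus]; exact h.y_act.k
  · change y * l * y⁻¹ = L z i j k l 20
    rw [L_20 h.toPlus]; exact h.y_act.l

theorem kap_L {n x : ℕ} (hn : n < 18) (hx : x < 32) :
    kap x₁ x₂ y n * L z i j k l x = L z i j k l (act n x) * kap x₁ x₂ y n := by
  obtain ⟨hs1, hs2⟩ := conj_pow_aux app_lt' (fun x hx => conjy h hx) (n / 9) x hx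
  obtain ⟨h21, h22⟩ := conj_pow_aux (fun x hx => (app_lt x hx).2.1) (fun x hx => conj2 h hx) (n / 3 % 3) _ hs1
  obtain ⟨h11, h12⟩ := conj_pow_aux (fun x hx => (app_lt x hx).1) (fun x hx => conj1 h hx) (n % 3) _ h21
  rw [act_eq n hn x hx, kap, mul_assoc, hs2, ← mul_assoc, mul_assoc (x₁ ^ (n % 3)), h22,
    ← mul_assoc (x₁ ^ (n % 3)), h12]
  group

theorem y_pow1 (n : ℕ) : y * x₁ ^ n = x₁ ^ (2 * n) * y := by
  have h2 : x₁⁻¹ = x₁ ^ 2 := by
    rw [inv_eq_iff_mul_eq_one, ← pow_succ', h.x₁3]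
  have h1 : y * x₁ ^ n * y⁻¹ = x₁ ^ (2 * n) := by rw [← conj_pow, h.y1, h2, ← pow_mul]
  rw [← h1]; group

theorem y_pow2 (n : ℕ) : y * x₂ ^ n = x₂ ^ (2 * n) * y := by
  have h2 : x₂⁻¹ = x₂ ^ 2 := by
    rw [inv_eq_iff_mul_eq_one, ← pow_succ', h.x₂3]
  have h1 : y * x₂ ^ n * y⁻¹ = x₂ ^ (2 * n) := by rw [← conj_pow, h.y2, h2, ← pow_mul]
  rw [← h1]; group

theorem kap_mul (hy : y * y = 1) {n n' : ℕ} (hn : n < 18) (hn' : n' < 18) :
    kap x₁ x₂ y n * kap x₁ x₂ y n' = kap x₁ x₂ y (km n n') := by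
  have hxx : ∀ a b : ℕ, x₂ ^ a * x₁ ^ b = x₁ ^ b * x₂ ^ a := fun a b =>
    ((show Commute x₁ x₂ from h.xx).pow_pow b a).eq.symm
  by_cases h9 : n < 9
  · have e0 : n / 9 = 0 := by omega
    rw [km, if_pos h9, kap_of (Nat.mod_lt _ (by norm_num)) (Nat.mod_lt _ (by norm_num)),
      pow_mod_three h.x₁3, pow_mod_three h.x₂3]
    simp only [kap]
    rw [e0, pow_zero, mul_one, pow_add, pow_add]
    calc x₁ ^ (n % 3) * x₂ ^ (n / 3 % 3) * (x₁ ^ (n' % 3) * x₂ ^ (n' / 3 % 3) * y ^ (n' / 9))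
        = x₁ ^ (n % 3) * (x₂ ^ (n / 3 % 3) * x₁ ^ (n' % 3)) * (x₂ ^ (n' / 3 % 3) * y ^ (n' / 9)) := by
          group
      _ = x₁ ^ (n % 3) * (x₁ ^ (n' % 3) * x₂ ^ (n / 3 % 3)) * (x₂ ^ (n' / 3 % 3) * y ^ (n' / 9)) := by
          rw [hxx]
      _ = _ := by simp only [mul_assoc]
  · have e1 : n / 9 = 1 := by omega
    have hss : y * y ^ (n' / 9) = y ^ ((1 + n' / 9) % 2) := by
      have : n' / 9 = 0 ∨ n' / 9 = 1 := by omega
      rcases this with h0 | h0
      · rw [h0]; simp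
      · rw [h0]; simp [hy]
    rw [km, if_neg h9, kap_of (Nat.mod_lt _ (by norm_num)) (Nat.mod_lt _ (by norm_num)),
      pow_mod_three h.x₁3, pow_mod_three h.x₂3]
    simp only [kap]
    rw [e1, pow_one, pow_add, pow_add]
    calc x₁ ^ (n % 3) * x₂ ^ (n / 3 % 3) * y * (x₁ ^ (n' % 3) * x₂ ^ (n' / 3 % 3) * y ^ (n' / 9))
        = x₁ ^ (n % 3) * x₂ ^ (n / 3 % 3) * (y * x₁ ^ (n' % 3)) * (x₂ ^ (n' / 3 % 3) * y ^ (n' / 9)) := by
          group
      _ = x₁ ^ (n % 3) * x₂ ^ (n / 3 % 3) * x₁ ^ (2 * (n' % 3)) * (y * x₂ ^ (n' / 3 % 3)) * y ^ (n' / 9) := by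
          rw [y_pow1 h]; group
      _ = x₁ ^ (n % 3) * (x₂ ^ (n / 3 % 3) * x₁ ^ (2 * (n' % 3))) * x₂ ^ (2 * (n' / 3 % 3)) *
          (y * y ^ (n' / 9)) := by
          rw [y_pow2 h]; group
      _ = x₁ ^ (n % 3) * (x₁ ^ (2 * (n' % 3)) * x₂ ^ (n / 3 % 3)) * x₂ ^ (2 * (n' / 3 % 3)) *
          y ^ ((1 + n' / 9) % 2) := by
          rw [hss, hxx]
      _ = _ := by simp only [mul_assoc]

omit h in
theorem mm_lt {m n : ℕ} (hm : m < 576) (hn : n < 576) : mm m n < 576 := by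
  have h1 : act (m / 32) (n % 32) < 32 := act_lt _ (by omega) _ (by omega)
  have h2 : qm (m % 32) (act (m / 32) (n % 32)) < 32 := qm_lt _ (by omega) _ h1
  have h3 := km_lt (m / 32) (by omega) (n / 32) (by omega)
  unfold mm
  omega

theorem F_mul (hy : y * y = 1) {m n : ℕ} (hm : m < 576) (hn : n < 576) :
    F z i j k l x₁ x₂ y (mm m n) = F z i j k l x₁ x₂ y m * F z i j k l x₁ x₂ y n := by
  have h1 : act (m / 32) (n % 32) < 32 := act_lt _ (by omega) _ (by omega)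
  have h2 : qm (m % 32) (act (m / 32) (n % 32)) < 32 := qm_lt _ (by omega) _ h1
  have h7 : mm m n % 32 = qm (m % 32) (act (m / 32) (n % 32)) := by
    unfold mm; omega
  have h8 : mm m n / 32 = km (m / 32) (n / 32) := by
    unfold mm; omega
  unfold F
  rw [h7, h8, _root_.Cfsg.Agent.SmallExtra438.Frame.L_mul h.toPlus (by omega) h1]
  have h9 := kap_mul h hy (n := m / 32) (n' := n / 32) (by omega) (by omega)
  have h10 := kap_L h (n := m / 32) (x := n % 32) (by omega) (by omega)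
  calc _ = L z i j k l (m % 32) * L z i j k l (act (m / 32) (n % 32)) *
        kap x₁ x₂ y (km (m / 32) (n / 32)) := by
        group
    _ = L z i j k l (m % 32) * (L z i j k l (act (m / 32) (n % 32)) * kap x₁ x₂ y (m / 32)) *
        kap x₁ x₂ y (n / 32) := by rw [← h9]; group
    _ = _ := by rw [← h10]; group

omit h in
theorem F_lt {m : ℕ} (hm : m < 32) : F z i j k l x₁ x₂ y m = L z i j k l m := by
  have h1 : m % 32 = m := by omega
  have h2 : m / 32 = 0 := by omega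
  simp [F, h1, h2, kap]

omit h in
theorem F_0 : F z i j k l x₁ x₂ y 0 = 1 := by rw [F_lt (by norm_num), L_0]

omit h in
theorem F_16 : F z i j k l x₁ x₂ y 16 = z := by rw [F_lt (by norm_num), L_16]

omit h in
theorem F_288 : F z i j k l x₁ x₂ y 288 = y := by simp [F, L_0, kap]

omit h in
theorem F_304 : F z i j k l x₁ x₂ y 304 = z * y := by simp [F, L_16, kap]

omit h in
theorem F_32 : F z i j k l x₁ x₂ y 32 = x₁ := by simp [F, L_0, kap]

omit h in
theorem F_96 : F z i j k l x₁ x₂ y 96 = x₂ := by simp [F, L_0, kap]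

/-- every element of `C_G(z)` has a code -/
theorem exists_code [Finite G] (hy : y * y = 1) {c : G} (hc : c * z = z * c) :
    ∃ m < 576, F z i j k l x₁ x₂ y m = c := by
  let K₀ : Submonoid G :=
    { carrier := {g | ∃ m < 576, F z i j k l x₁ x₂ y m = g}
      one_mem' := ⟨0, by norm_num, F_0⟩
      mul_mem' := by
        rintro _ _ ⟨m, hm, rfl⟩ ⟨n, hn, rfl⟩
        exact ⟨mm m n, mm_lt hm hn, F_mul h hy hm hn⟩ }
  let K : Subgroup G :=
    { K₀ with
      inv_mem' := by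
        intro g hg
        have h1 : g⁻¹ = g ^ (orderOf g - 1) := by
          rw [inv_eq_iff_mul_eq_one, ← pow_succ', Nat.sub_add_cancel (orderOf_pos g),
            pow_orderOf_eq_one]
        rw [h1]
        exact K₀.pow_mem hg _ }
  have hle : Subgroup.centralizer ({z} : Set G) ≤ K := by
    rw [h.cent, Subgroup.closure_le]
    rintro g hg
    simp only [Set.mem_insert_iff, Set.mem_singleton_iff] at hg
    rcases hg with rfl | rfl | rfl | rfl | rfl | rfl | rfl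
    · exact ⟨1, by norm_num, by rw [F_lt (by norm_num), L_1]⟩
    · exact ⟨2, by norm_num, by rw [F_lt (by norm_num), L_2]⟩
    · exact ⟨4, by norm_num, by rw [F_lt (by norm_num), L_4]⟩
    · exact ⟨8, by norm_num, by rw [F_lt (by norm_num), L_8]⟩
    · exact ⟨32, by norm_num, F_32⟩
    · exact ⟨96, by norm_num, F_96⟩
    · exact ⟨288, by norm_num, F_288⟩
  exact hle (Subgroup.mem_centralizer_singleton_iff.2 hc)

theorem F_comm {m : ℕ} : F z i j k l x₁ x₂ y m * z = z * F z i j k l x₁ x₂ y m := by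
  have hQ : ∀ g ∈ Q, g * z = z * g := h.large.comm_z
  have hL : L z i j k l (m % 32) * z = z * L z i j k l (m % 32) := by
    have h1 := _root_.Cfsg.Agent.SmallExtra438.Frame.L_mul h.toPlus (x := m % 32) (y := 16) (by omega) (by norm_num)
    have h2 := _root_.Cfsg.Agent.SmallExtra438.Frame.L_mul h.toPlus (x := 16) (y := m % 32) (by norm_num) (by omega)
    have h3 : ∀ x < 32, qm x 16 = qm 16 x := by decide +kernel
    rw [L_16] at h1 h2
    rw [← h1, ← h2, h3 _ (by omega)]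
  have e1 : Commute x₁ z := by
    have := h.x₁_act.z
    change x₁ * z = z * x₁
    calc x₁ * z = (x₁ * z * x₁⁻¹) * x₁ := by group
      _ = z * x₁ := by rw [this]
  have e2 : Commute x₂ z := by
    have := h.x₂_act.z
    change x₂ * z = z * x₂
    calc x₂ * z = (x₂ * z * x₂⁻¹) * x₂ := by group
      _ = z * x₂ := by rw [this]
  have e3 : Commute y z := by
    have := h.y_act.z
    change y * z = z * y
    calc y * z = (y * z * y⁻¹) * y := by group
      _ = z * y := by rw [this]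
  have e4 : Commute (kap x₁ x₂ y (m / 32)) z := by
    unfold kap
    exact ((e1.pow_left _).mul_left (e2.pow_left _)).mul_left (e3.pow_left _)
  have e5 : Commute (L z i j k l (m % 32)) z := hL
  exact (e5.mul_left e4).eq

theorem F_inj [Finite G] (hy : y * y = 1) {m n : ℕ} (hm : m < 576) (hn : n < 576)
    (he : F z i j k l x₁ x₂ y m = F z i j k l x₁ x₂ y n) : m = n := by
  let f : Fin 576 → Subgroup.centralizer ({z} : Set G) := fun m =>
    ⟨F z i j k l x₁ x₂ y m, Subgroup.mem_centralizer_singleton_iff.2 (F_comm h)⟩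
  have hf : Function.Surjective f := by
    rintro ⟨c, hc⟩
    obtain ⟨m, hm, rfl⟩ := exists_code h hy (Subgroup.mem_centralizer_singleton_iff.1 hc)
    exact ⟨⟨m, hm⟩, rfl⟩
  have hb : Function.Bijective f := by
    rw [Nat.bijective_iff_surjective_and_card]
    exact ⟨hf, by rw [h.card_cent, Nat.card_eq_fintype_card, Fintype.card_fin]⟩
  have h1 : (⟨m, hm⟩ : Fin 576) = ⟨n, hn⟩ := hb.1 (Subtype.ext he)
  exact congrArg Fin.val h1

/-- commuting elements -/
theorem F_commute [Finite G] (hy : y * y = 1) {m n : ℕ} (hm : m < 576) (hn : n < 576)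
    (he : F z i j k l x₁ x₂ y m * F z i j k l x₁ x₂ y n = F z i j k l x₁ x₂ y n * F z i j k l x₁ x₂ y m) :
    mm m n = mm n m := by
  rw [← F_mul h hy hm hn, ← F_mul h hy hn hm] at he
  exact F_inj h hy (mm_lt hm hn) (mm_lt hn hm) he

end

end Cfsg.Agent.LargeExtra.W2.ThreeG.Model
end

-- part: LargeExtra/W2/ThreeG/Dec
section
/-!
# Facts about the decidable model of `C_G(z)` in case `9c` (helper865)
-/

set_option autoImplicit false

namespace Cfsg.Agent.LargeExtra.W2.ThreeG.Dec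

open Cfsg.Agent.LargeExtra.W2.ThreeG.Model

/-- codes of `⟨k, l⟩` -/
def S2 : List ℕ := [0, 4, 8, 12, 16, 20, 24, 28]
/-- codes of `⟨i, j⟩` -/
def S1 : List ℕ := [0, 1, 2, 3, 16, 17, 18, 19]

theorem S2_mul : ∀ a ∈ S2, ∀ b ∈ S2, mm a b ∈ S2 := by decide +kernel
theorem S1_mul : ∀ a ∈ S1, ∀ b ∈ S1, mm a b ∈ S1 := by decide +kernel
theorem S2_lt : ∀ a ∈ S2, a < 576 := by decide +kernel
theorem S1_lt : ∀ a ∈ S1, a < 576 := by decide +kernel
theorem S2_four : ∀ a ∈ S2, mm (mm a a) (mm a a) = 0 := by decide +kernel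
theorem S1_four : ∀ a ∈ S1, mm (mm a a) (mm a a) = 0 := by decide +kernel
theorem S2_uniq : ∀ a ∈ S2, mm a a = 0 → a = 0 ∨ a = 16 := by decide +kernel
theorem S1_uniq : ∀ a ∈ S1, mm a a = 0 → a = 0 ∨ a = 16 := by decide +kernel
theorem S2_x1 : ∀ a ∈ S2, mm a 32 = mm 32 a := by decide +kernel
theorem S1_x2 : ∀ a ∈ S1, mm a 96 = mm 96 a := by decide +kernel
theorem S2_x2 : ∀ a ∈ S2, ∃ b ∈ S2, mm 96 a = mm b 96 := by decide +kernel
theorem S1_x1 : ∀ a ∈ S1, ∃ b ∈ S1, mm 32 a = mm b 32 := by decide +kernel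
theorem S2_fpf : ∀ a ∈ S2, mm 96 a = mm a 96 → a = 0 ∨ a = 16 := by decide +kernel
theorem S1_fpf : ∀ a ∈ S1, mm 32 a = mm a 32 → a = 0 ∨ a = 16 := by decide +kernel
theorem S2_ne : mm 96 4 ≠ mm 4 96 := by decide +kernel
theorem S1_ne : mm 32 1 ≠ mm 1 32 := by decide +kernel
theorem S2_sw : mm 12 288 = mm (mm 16 288) 12 := by decide +kernel
theorem S1_sw : mm 3 288 = mm (mm 16 288) 3 := by decide +kernel

section

private noncomputable def p4bA (p : Nat → Bool) (n : Nat) : Bool := @Nat.rec (fun _ => Bool) true (fun k r => @Bool.rec (fun _ => Bool) false r (p k)) n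

private theorem p4bA_iff (p : Nat → Bool) (n : Nat) : p4bA p n = true ↔ ∀ k, k < n → p k = true :=
  @Nat.rec (fun n => p4bA p n = true ↔ ∀ k, k < n → p k = true) ⟨fun _ _ h => absurd h (Nat.not_lt_zero _), fun _ => rfl⟩
    (fun n ih => ⟨fun h k hk => (Nat.lt_succ_iff_lt_or_eq.1 hk).elim
        (ih.1 (@Bool.rec (fun b => @Bool.rec (fun _ => Bool) false (p4bA p n) b = true → p4bA p n = true) (fun h => Bool.noConfusion h) id (p n) h) k)
        fun e => e ▸ @Bool.rec (fun b => @Bool.rec (fun _ => Bool) false (p4bA p n) b = true → b = true) (fun h => Bool.noConfusion h) (fun _ => rfl) (p n) h,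
      fun h => (congrArg (fun b => @Bool.rec (fun _ => Bool) false (p4bA p n) b) (h n (Nat.lt_succ_self n))).trans
        (ih.2 fun k hk => h k (Nat.lt_succ_of_lt hk))⟩) n

@[reducible] private noncomputable def p4dD (n : Nat) (P : ∀ k, k < n → Prop) [∀ k h, Decidable (P k h)] : Decidable (∀ k h, P k h) :=
  decidable_of_iff (p4bA (fun k => dite (k < n) (fun h => Decidable.decide (P k h)) fun _ => true) n = true)
    ((p4bA_iff _ n).trans ⟨fun w k h => of_decide_eq_true ((dif_pos h).symm.trans (w k h)), fun w k h => (dif_pos h).trans (decide_eq_true (w k h))⟩)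

@[reducible] private noncomputable def p4dB (n : Nat) (P : Nat → Prop) [DecidablePred P] : Decidable (∀ k, k < n → P k) :=
  decidable_of_iff (p4bA (fun k => Decidable.decide (P k)) n = true)
    ((p4bA_iff _ n).trans ⟨fun w k h => of_decide_eq_true (w k h), fun w k h => decide_eq_true (w k h)⟩)

@[reducible] private noncomputable def p4dE (n : Nat) (P : Nat → Prop) [DecidablePred P] : Decidable (∀ k, k ≤ n → P k) :=
  decidable_of_iff (p4bA (fun k => Decidable.decide (P k)) (Nat.succ n) = true)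
    ((p4bA_iff _ _).trans ⟨fun w k h => of_decide_eq_true (w k (Nat.lt_succ_of_le h)), fun w k h => decide_eq_true (w k (Nat.le_of_lt_succ h))⟩)

@[reducible] private noncomputable def p4dF (n : Nat) (P : Fin n → Prop) [DecidablePred P] : Decidable (∀ i, P i) :=
  decidable_of_iff (p4bA (fun k => dite (k < n) (fun h => Decidable.decide (P ⟨k, h⟩)) fun _ => true) n = true)
    ((p4bA_iff _ n).trans ⟨fun w i => of_decide_eq_true ((dif_pos i.2).symm.trans (w i.1 i.2)), fun w k h => (dif_pos h).trans (decide_eq_true (w ⟨k, h⟩))⟩)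

private noncomputable def p4bE (p : Nat → Bool) (n : Nat) : Bool := @Nat.rec (fun _ => Bool) false (fun k r => @Bool.rec (fun _ => Bool) r true (p k)) n

private theorem p4bE_iff (p : Nat → Bool) (n : Nat) : p4bE p n = true ↔ ∃ k, k < n ∧ p k = true :=
  @Nat.rec (fun n => p4bE p n = true ↔ ∃ k, k < n ∧ p k = true) ⟨fun h => Bool.noConfusion h, fun ⟨_, h, _⟩ => absurd h (Nat.not_lt_zero _)⟩
    (fun n ih => ⟨fun h => @Bool.rec (fun b => p n = b → @Bool.rec (fun _ => Bool) (p4bE p n) true b = true → ∃ k, k < n + 1 ∧ p k = true)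
        (fun _ h => (ih.1 h).imp fun _ h => ⟨Nat.lt_succ_of_lt h.1, h.2⟩) (fun e _ => ⟨n, Nat.lt_succ_self n, e⟩) (p n) rfl h,
      fun ⟨k, hk, h⟩ => @Bool.rec (fun b => p n = b → @Bool.rec (fun _ => Bool) (p4bE p n) true b = true)
        (fun e => ih.2 ⟨k, (Nat.lt_succ_iff_lt_or_eq.1 hk).resolve_right fun e' => Bool.noConfusion ((e' ▸ h :).symm.trans e), h⟩)
        (fun _ => rfl) (p n) rfl⟩) n

@[reducible] private noncomputable def p4dX (n : Nat) (P : Nat → Prop) [DecidablePred P] : Decidable (∃ k, k < n ∧ P k) :=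
  decidable_of_iff (p4bE (fun k => Decidable.decide (P k)) n = true)
    ((p4bE_iff _ n).trans (exists_congr fun _ => and_congr_right' decide_eq_true_iff))

attribute [local instance] p4dD p4dB p4dE p4dF p4dX

private def tb (T w x y : ℕ) : ℕ := Nat.mod (Nat.shiftRight T (Nat.mul w (Nat.add (Nat.mul (nat_lit 32) x) y))) (Nat.pow (nat_lit 2) w)

private def QT : ℕ := 0x653216d7c654be75cf84443a54c74275b637df88072a90f64e36a6f3ee0c2622d2e6ca17aeb1fe14c1135c95d2f09f3f8d90e01b1e8556d1977d9d9ca30bdab45a9287b9ac18820398a4deb38ffbbca54c700653637dfc654b216d784443e75cf4275b2d2e688072eb1fe4e36aa90f60c2626f3eeca17ab1e8514c1177d9dd2f0935c9590e01f3f8d56d19398a49ca30ffbbc5a928bdab4188207b9acdeb384275be75cf00653a54c7c654b637df84443216d7ca17a6f3ee880722d2e64e36aeb1fe0c262a90f656d19f3f8d14c11b1e85d2f0977d9d90e0135c95deb387b9ac9ca30398a45a928ffbbc18820bdab4e75cfc654ba54c784443637df4275b216d7006536f3ee4e36a2d2e60c262eb1feca17aa90f688072f3f8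dd2f09b1e8590e0177d9d56d1935c9514c117b9ac5a928398a418820ffbbcdeb38bdab49ca3084443a54c74275b637df00653216d7c654be75cf0c2622d2e6ca17aeb1fe88072a90f64e36a6f3ee90e01b1e8556d1977d9d14c1135c95d2f09f3f8d18820398a4deb38ffbbc9ca30bdab45a9287b9ac216d784443e75cf4275ba54c700653637dfc654ba90f60c2626f3eeca17a2d2e688072eb1fe4e36a35c9590e01f3f8d56d19b1e8514c1177d9dd2f09bdab4188207b9acdeb38398a49ca30ffbbc5a928c654b637df84443216d74275be75cf00653a54c74e36aeb1fe0c262a90f6ca17a6f3ee880722d2e6d2f0977d9d90e0135c9556d19f3f8d14c11b1e855a928ffbbc18820bdab4deb387b9ac9ca30398a4637df4275b216d700653e75cfc654ba54c784443eb1feca17aa90f6880726f3ee4e36a2d2e60c26277d9d56d1935c9514c11f3f8dd2f09b1e8590e01ffbbcdeb38bdab49ca307b9ac5a928398a418820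

private def KT : ℕ := 0x11431113d02c928e30d2061c20011431113d02c928e30d0801050d044f28b24d38c1c81810801050d044f28b24d38c1c800108c34e3d044928b0c41461c800108c34e3d044928b18708004e30d44f40b24a14310818708004e30d44f40b24a20604200d38c4113ca2c91050c720604200d38c4113ca2c910518720928b30d38f41100108310518720928b30d38f4110c42061cb24a38c3513d00800450c42061cb24a38c3513d01431c818a2c934e31044f0420041431c818a2c934e31044f0420c414f41124a2cc34e1872000420c414f41124a2cc34e0011431113d02c928e30d2061c20011431113d02c928e30d0801050d044f28b24d38c1c81810801050d044f28b24d38c1c800108c34e3d044928b0c41461c800108c34e3d044928b18708004e30d44f40b24a14310818708004e30d44f40b24a20604200d38c4113ca2c91050c720604200d38c4113ca2c910518720928b30d38f41100108310518720928b30d38f4110c42061cb24a38c3513d00800450c42061cb24a38c3513d01431c818a2c934e31044f0420041431c818a2c934e31044f0420c414f41124a2cc34e1872000420c414f41124a2cc34e0011431113d02c928e30d2061c20011431113d02c928e3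0d0801050d044f28b24d38c1c81810801050d044f28b24d38c1c800108c34e3d044928b0c41461c800108c34e3d044928b18708004e30d44f40b24a14310818708004e30d44f40b24a20604200d38c4113ca2c91050c720604200d38c4113ca2c96dd8a18d65574d251961a34c38a24b40f4440c504008718875c8638955d64944d869930e3492ca3d140314400204620771b8e285759551349a65838d30b2894503c51030810081c68637de8134946586965572892d03d134c3810021c62040c58e27a07d251361a6555d624b28f45030e3400811881c31448a181f7944d26996175952ca25140f38d3020402071851037a071b75961a5955d349440f44d30e2892c718810314100281f6dd7186995575925133d140c38d24b2862070c51000817de75c6da6585d65544d24503ce34c2ca2481c61440c2040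

private theorem QT_eq : ∀ x < 32, ∀ y < 32, tb QT 5 x y = SmallExtra438.Model.qm x y := by decide +kernel

private theorem KT_eq : ∀ x < 32, ∀ y < 32, tb KT 6 x y = km x y := by decide +kernel

private def mf (m n : ℕ) : ℕ :=
  cond (Nat.ble (Nat.lor m n) (nat_lit 1023))
    (Nat.add (tb QT (nat_lit 5) (Nat.mod m (nat_lit 32)) (Nat.xor (Nat.mod (Nat.shiftRight TC (Nat.add (Nat.mul (nat_lit 80) (Nat.div m (nat_lit 32)))
      (Nat.mul (nat_lit 5) (Nat.mod (Nat.mod n (nat_lit 32)) (nat_lit 16))))) (nat_lit 32)) (Nat.land (Nat.mod n (nat_lit 32)) (nat_lit 16))))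
      (Nat.mul (nat_lit 32) (tb KT (nat_lit 6) (Nat.div m (nat_lit 32)) (Nat.div n (nat_lit 32))))) (mm m n)

private theorem mf_eq : mm = mf := by
  funext m n
  rw [mf]
  cases h : Nat.ble (Nat.lor m n) (nat_lit 1023)
  · rfl
  · have h1 : m ||| n ≤ 1023 := Nat.le_of_ble_eq_true h
    have h2 : m ≤ 1023 := Nat.left_le_or.trans h1
    have h3 : n ≤ 1023 := Nat.right_le_or.trans h1
    have h4 : act (m / 32) (n % 32) < 32 :=
      Nat.xor_lt_two_pow (n := 5) (Nat.mod_lt _ (by decide)) (Nat.and_le_right.trans_lt (by decide))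
    show _ = tb QT 5 (m % 32) (act (m / 32) (n % 32)) + 32 * tb KT 6 (m / 32) (n / 32)
    rw [QT_eq _ (Nat.mod_lt _ (by decide)) _ h4, KT_eq _ (by omega) _ (by omega)]
    rfl

theorem cent_x1 : ∀ m < 576, mm m 32 = mm 32 m →
    ∃ a < 3, ∃ b < 3, ∃ q ∈ S2, m = mm (32 * a + 96 * b) q := by rw [mf_eq]; decide +kernel
theorem cent_x2 : ∀ m < 576, mm m 96 = mm 96 m →
    ∃ a < 3, ∃ b < 3, ∃ q ∈ S1, m = mm (32 * a + 96 * b) q := by rw [mf_eq]; decide +kernel

theorem cent_v' : ∀ v ∈ [128, 224, 160, 256], ∀ m < 576, mm m v = mm v m →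
    ∃ c < 3, ∃ d < 3, m = 32 * c + 96 * d ∨ m = mm (32 * c + 96 * d) 16 := by rw [mf_eq]; decide +kernel

theorem cent_v {a b : ℕ} (ha : a < 3) (hb : b < 3) (ha' : a ≠ 0) (hb' : b ≠ 0) {m : ℕ} (hm : m < 576)
    (h : mm m (32 * a + 96 * b) = mm (32 * a + 96 * b) m) :
    ∃ c < 3, ∃ d < 3, m = 32 * c + 96 * d ∨ m = mm (32 * c + 96 * d) 16 := by
  refine cent_v' (32 * a + 96 * b) ?_ m hm h
  have h1 : a = 1 ∨ a = 2 := by omega
  have h2 : b = 1 ∨ b = 2 := by omega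
  rcases h1 with rfl | rfl <;> rcases h2 with rfl | rfl <;> simp

theorem norm_p : ∀ m < 576, (∃ a < 3, ∃ b < 3, mm m 32 = mm (32 * a + 96 * b) m) →
    (∃ a < 3, ∃ b < 3, mm m 96 = mm (32 * a + 96 * b) m) →
    ∃ a < 3, ∃ b < 3, m = 32 * a + 96 * b ∨ m = mm (32 * a + 96 * b) 16 ∨ m = mm (32 * a + 96 * b) 288 ∨
      m = mm (32 * a + 96 * b) (mm 16 288) := by rw [mf_eq]; decide +kernel

theorem syl : ∀ m < 576, mm (mm m (mm m m)) (mm (mm m (mm m m)) (mm m (mm m m))) = 0 →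
    ∃ c < 32, ∃ a < 3, ∃ b < 3, mm c m = mm (32 * a + 96 * b) c := by rw [mf_eq]; decide +kernel

theorem cent_y : ∀ m < 576, mm m 288 = mm 288 m → mm m m = 0 := by rw [mf_eq]; decide +kernel

end

end Cfsg.Agent.LargeExtra.W2.ThreeG.Dec
end

-- part: LargeExtra/W2/ThreeB
section
/-!
# Generic lemmas for the 3-local analysis (S1759; helper865)

* `card_le_of_cube`: an automorphism of order `3` of an elementary abelian 3-group `W` has `≥ |W|^(1/3)` fixed points;
* `exists_compl`: isolated involution which is the only 2-element of its centralizer: normal 2-complement;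
* `inv_of_self_cent`: a group in which a four-group `V = ⟨z, t⟩` is self-centralising, `N(V) ≤ C(V)`,
  has a normal 2-complement; if `C(z) ≤ V` it is inverted by `z`.
-/

set_option autoImplicit false

namespace Cfsg.Agent.LargeExtra.W2.ThreeB

section jordan

variable {W : Type*} [Group W] [Finite W]

omit [Finite W] in
/-- `|N| = |N ∩ ker n| |n(N)|` -/
theorem card_eq_ker_mul (n : W →* W) (N : Subgroup W) :
    Nat.card N = Nat.card (N ⊓ n.ker : Subgroup W) * Nat.card (N.map n) := by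
  have h1 := Subgroup.card_eq_card_quotient_mul_card_subgroup (n.domRestrict N).ker
  have h2 : Nat.card (n.domRestrict N).ker = Nat.card (N ⊓ n.ker : Subgroup W) := by
    refine Nat.card_congr ⟨fun x => ⟨x.1.1, x.1.2, x.2⟩, fun x => ⟨⟨x.1, x.2.1⟩, x.2.2⟩, ?_, ?_⟩
    · intro x; rfl
    · intro x; rfl
  have h3 : Nat.card (N ⧸ (n.domRestrict N).ker) = Nat.card (N.map n) := by
    rw [Nat.card_congr (QuotientGroup.quotientKerEquivRange (n.domRestrict N)).toEquiv]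
    congr 1
    have : (n.domRestrict N).range = N.map n := by
      ext w
      constructor
      · rintro ⟨x, rfl⟩
        exact ⟨x, x.2, rfl⟩
      · rintro ⟨x, hx, rfl⟩
        exact ⟨⟨x, hx⟩, rfl⟩
    rw [this]
  rw [h1, h2, h3, mul_comm]

/-- Jordan blocks: an automorphism `φ` of order `3` of an elementary abelian 3-group. -/
theorem card_le_of_cube (hcomm : ∀ a b : W, a * b = b * a) (h3 : ∀ w : W, w ^ 3 = 1) (φ : W →* W)
    (hφ : ∀ w, φ (φ (φ w)) = w) : Nat.card W ≤ Nat.card {w : W // φ w = w} ^ 3 := by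
  let n : W →* W :=
    { toFun := fun w => φ w * w⁻¹
      map_one' := by simp
      map_mul' := by
        intro a b
        rw [map_mul, mul_inv_rev]
        calc φ a * φ b * (b⁻¹ * a⁻¹) = φ a * (φ b * b⁻¹ * a⁻¹) := by group
          _ = φ a * (a⁻¹ * (φ b * b⁻¹)) := by rw [hcomm a⁻¹]
          _ = φ a * a⁻¹ * (φ b * b⁻¹) := by group }
  have hn : ∀ w, n w = φ w * w⁻¹ := fun w => rfl
  have hker : Nat.card n.ker = Nat.card {w : W // φ w = w} := by
    refine Nat.card_congr (Equiv.subtypeEquivRight ?_)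
    intro w
    rw [MonoidHom.mem_ker, hn, mul_inv_eq_one]
  have hn3 : ∀ w, n (n (n w)) = 1 := by
    intro w
    have hsq : ∀ w : W, w * w = w⁻¹ := by
      intro w
      have := h3 w
      rw [pow_succ, pow_two] at this
      exact eq_inv_of_mul_eq_one_left this
    simp only [hn, map_mul, map_inv, hφ]
    have hc := hcomm
    -- `w (φ²w)⁻¹ ...`
    calc w * (φ (φ w))⁻¹ * (φ (φ w) * (φ w)⁻¹)⁻¹ * (φ (φ w) * (φ w)⁻¹ * (φ w * w⁻¹)⁻¹)⁻¹
        = w * (φ (φ w))⁻¹ * (φ w * (φ (φ w))⁻¹) * (φ w * (w⁻¹ * (φ w * (φ (φ w))⁻¹))) := by group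
      _ = w * w⁻¹ * ((φ w) * (φ w) * (φ w)) * ((φ (φ w))⁻¹ * (φ (φ w))⁻¹ * (φ (φ w))⁻¹) := by
          generalize φ (φ w) = a
          generalize φ w = b
          have c1 : a⁻¹ * b = b * a⁻¹ := hc _ _
          have c2 : a⁻¹ * w⁻¹ = w⁻¹ * a⁻¹ := hc _ _
          have c3 : b * w⁻¹ = w⁻¹ * b := hc _ _
          let _ : CommGroup W := { (inferInstance : Group W) with mul_comm := hc }
          simp only [mul_comm, mul_left_comm, mul_assoc]
      _ = 1 := by
          rw [hsq (φ w), hsq (φ (φ w))⁻¹]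
          simp
  have e0 := card_eq_ker_mul n ⊤
  have e1 := card_eq_ker_mul n ((⊤ : Subgroup W).map n)
  rw [top_inf_eq, Subgroup.card_top] at e0
  have l1 : Nat.card ((⊤ : Subgroup W).map n ⊓ n.ker : Subgroup W) ≤ Nat.card n.ker :=
    Subgroup.card_le_of_le inf_le_right
  have l2 : Nat.card (((⊤ : Subgroup W).map n).map n) ≤ Nat.card n.ker := by
    apply Subgroup.card_le_of_le
    rintro _ ⟨_, ⟨w, -, rfl⟩, rfl⟩
    exact hn3 w
  rw [← hker, e0, e1, pow_succ, pow_two, mul_assoc]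
  exact Nat.mul_le_mul_left _ (Nat.mul_le_mul l1 l2)

end jordan

/-- `|R| ≤ |A| |B|` if `R ⊆ A B`. -/
theorem card_le_mul {G : Type*} [Group G] [Finite G] (R A B : Subgroup G)
    (h : ∀ r ∈ R, ∃ a ∈ A, ∃ b ∈ B, r = a * b) : Nat.card R ≤ Nat.card A * Nat.card B := by
  classical
  rw [← Nat.card_prod]
  choose! f hf g hg hfg using h
  refine Nat.card_le_card_of_injective
    (fun r : R => ((⟨f r, hf r r.2⟩, ⟨g r, hg r r.2⟩) : A × B)) ?_
  intro r s hrs
  have h1 : f r = f s := congrArg (fun t : A × B => (t.1 : G)) hrs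
  have h2 : g r = g s := congrArg (fun t : A × B => (t.2 : G)) hrs
  apply Subtype.ext
  rw [hfg r r.2, hfg s s.2, h1, h2]

/-- `|A| |B| ≤ |R|` if `A, B ≤ R`, `A ∩ B = 1`. -/
theorem mul_card_le {G : Type*} [Group G] [Finite G] (R A B : Subgroup G) (hA : A ≤ R) (hB : B ≤ R)
    (hAB : ∀ a ∈ A, a ∈ B → a = 1) : Nat.card A * Nat.card B ≤ Nat.card R := by
  rw [← Nat.card_prod]
  refine Nat.card_le_card_of_injective
    (fun t : A × B => (⟨t.1 * t.2, R.mul_mem (hA t.1.2) (hB t.2.2)⟩ : R)) ?_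
  rintro ⟨⟨a, ha⟩, ⟨b, hb⟩⟩ ⟨⟨c, hc⟩, ⟨d, hd⟩⟩ e
  have e1 : a * b = c * d := congrArg Subtype.val e
  have e2 : c⁻¹ * a = d * b⁻¹ := by
    calc c⁻¹ * a = c⁻¹ * (a * b) * b⁻¹ := by group
      _ = d * b⁻¹ := by rw [e1]; group
  have e3 : c⁻¹ * a = 1 := hAB _ (A.mul_mem (A.inv_mem hc) ha) (by rw [e2]; exact B.mul_mem hd (B.inv_mem hb))
  have e4 : a = c := by rw [inv_mul_eq_one] at e3; exact e3.symm
  subst e4
  have e5 : b = d := mul_left_cancel e1
  subst e5
  rfl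

/-- Jordan blocks for a section `K / N`. -/
theorem card_fix_mod {G : Type*} [Group G] [Finite G] (K N M : Subgroup G) (hNK : N ≤ K)
    (hnorm : ∀ k ∈ K, ∀ n ∈ N, k * n * k⁻¹ ∈ N) (hab : ∀ k ∈ K, ∀ l ∈ K, k * l * k⁻¹ * l⁻¹ ∈ N)
    (hexp : ∀ k ∈ K, k ^ 3 ∈ N) (x : G) (hx3 : x ^ 3 = 1) (hxK : ∀ k ∈ K, x * k * x⁻¹ ∈ K)
    (hxN : ∀ n ∈ N, x * n * x⁻¹ ∈ N) (hM : ∀ k ∈ K, x * k * x⁻¹ * k⁻¹ ∈ N → k ∈ M) :
    Nat.card K * Nat.card N ^ 2 ≤ Nat.card M ^ 3 := by
  classical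
  let N' : Subgroup K := N.subgroupOf K
  have hN' : N'.Normal := ⟨fun n hn g => hnorm g g.2 n hn⟩
  let φ₀ : K →* K :=
    { toFun := fun k => ⟨x * k * x⁻¹, hxK k k.2⟩
      map_one' := Subtype.ext (by simp)
      map_mul' := fun a b => Subtype.ext (by show x * ((a : G) * b) * x⁻¹ = x * a * x⁻¹ * (x * b * x⁻¹); group) }
  have hφ₀ : ∀ k : K, ((φ₀ k : K) : G) = x * k * x⁻¹ := fun k => rfl
  let φ : K ⧸ N' →* K ⧸ N' := QuotientGroup.map N' N' φ₀ (by
    intro n hn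
    exact hxN n hn)
  have hφ : ∀ k : K, φ (QuotientGroup.mk k) = QuotientGroup.mk (φ₀ k) := fun k => rfl
  have hcomm : ∀ a b : K ⧸ N', a * b = b * a := by
    intro a b
    induction a using QuotientGroup.induction_on with
    | H a =>
      induction b using QuotientGroup.induction_on with
      | H b =>
        rw [← QuotientGroup.mk_mul, ← QuotientGroup.mk_mul, QuotientGroup.eq]
        have h1 := hab b⁻¹ (K.inv_mem b.2) a⁻¹ (K.inv_mem a.2)
        show ((a * b)⁻¹ * (b * a) : K) ∈ N'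
        have e : (((a * b)⁻¹ * (b * a) : K) : G) = (b : G)⁻¹ * (a : G)⁻¹ * (b : G)⁻¹⁻¹ * (a : G)⁻¹⁻¹ := by
          show ((a : G) * b)⁻¹ * (b * a) = _
          group
        show (((a * b)⁻¹ * (b * a) : K) : G) ∈ N
        rw [e]
        exact h1
  have h3 : ∀ w : K ⧸ N', w ^ 3 = 1 := by
    intro w
    induction w using QuotientGroup.induction_on with
    | H w =>
      rw [← QuotientGroup.mk_pow, QuotientGroup.eq_one_iff]
      exact hexp w w.2
  have hφ3 : ∀ w : K ⧸ N', φ (φ (φ w)) = w := by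
    intro w
    induction w using QuotientGroup.induction_on with
    | H w =>
      rw [hφ, hφ, hφ]
      congr 1
      apply Subtype.ext
      show x * (x * (x * (w : G) * x⁻¹) * x⁻¹) * x⁻¹ = w
      have : x * (x * (x * (w : G) * x⁻¹) * x⁻¹) * x⁻¹ = (x * x * x) * w * (x * x * x)⁻¹ := by group
      rw [this, show x * x * x = 1 by rw [← hx3, pow_succ, pow_two]]; group
  have hmain := card_le_of_cube hcomm h3 φ hφ3
  -- the fixed subgroup
  let F : Subgroup (K ⧸ N') :=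
    { carrier := {w | φ w = w}
      one_mem' := map_one φ
      mul_mem' := by
        intro a b ha hb
        show φ (a * b) = a * b
        rw [map_mul, show φ a = a from ha, show φ b = b from hb]
      inv_mem' := by
        intro a ha
        show φ a⁻¹ = a⁻¹
        rw [map_inv, show φ a = a from ha] }
  have hF : Nat.card {w : K ⧸ N' // φ w = w} = Nat.card F := rfl
  have hcK : Nat.card K = Nat.card (K ⧸ N') * Nat.card N' := Subgroup.card_eq_card_quotient_mul_card_subgroup N'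
  have hcN : Nat.card N' = Nat.card N := Nat.card_congr (Subgroup.subgroupOfEquivOfLe hNK).toEquiv
  have hD : Nat.card F * Nat.card N ≤ Nat.card M := by
    have h1 : Nat.card (F.comap (QuotientGroup.mk' N')) = Nat.card F * Nat.card N' := by
      have h2 := Subgroup.card_eq_card_quotient_mul_card_subgroup
        (N'.subgroupOf (F.comap (QuotientGroup.mk' N')))
      have hle : N' ≤ F.comap (QuotientGroup.mk' N') := by
        intro n hn
        show φ (QuotientGroup.mk' N' n) = QuotientGroup.mk' N' n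
        have : QuotientGroup.mk' N' n = 1 := (QuotientGroup.eq_one_iff n).2 hn
        rw [this, map_one]
      have h3 := Subgroup.index_comap_of_surjective F (QuotientGroup.mk'_surjective N')
      have h4 := Subgroup.card_mul_index (F.comap (QuotientGroup.mk' N'))
      have h5 := Subgroup.card_mul_index F
      rw [h3, hcK, ← h5] at h4
      have hpos : 0 < F.index := Nat.pos_of_ne_zero Subgroup.index_ne_zero_of_finite
      apply Nat.eq_of_mul_eq_mul_right hpos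
      rw [h4]; ring
    rw [← hcN, ← h1]
    refine Nat.card_le_card_of_injective
      (fun d : F.comap (QuotientGroup.mk' N') => (⟨((d : K) : G), ?_⟩ : M)) ?_
    · apply hM _ (d : K).2
      have h1 : φ (QuotientGroup.mk (d : K)) = QuotientGroup.mk (d : K) := d.2
      rw [hφ] at h1
      have h2 := (QuotientGroup.eq (s := N')).1 h1.symm
      -- `d⁻¹ φ₀ d ∈ N`
      have h3 : ((d : K) : G)⁻¹ * (x * ((d : K) : G) * x⁻¹) ∈ N := h2
      have h4 := hnorm _ (d : K).2 _ h3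
      have e : ((d : K) : G) * (((d : K) : G)⁻¹ * (x * ((d : K) : G) * x⁻¹)) * ((d : K) : G)⁻¹ =
          x * ((d : K) : G) * x⁻¹ * ((d : K) : G)⁻¹ := by group
      rwa [e] at h4
    · intro a b hab
      have : ((a : K) : G) = ((b : K) : G) := congrArg (fun m : M => (m : G)) hab
      exact Subtype.ext (Subtype.ext this)
  rw [hF] at hmain
  rw [hcK, hcN]
  calc Nat.card (K ⧸ N') * Nat.card N * Nat.card N ^ 2 = Nat.card (K ⧸ N') * Nat.card N ^ 3 := by ring
    _ ≤ Nat.card F ^ 3 * Nat.card N ^ 3 := Nat.mul_le_mul_right _ hmain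
    _ = (Nat.card F * Nat.card N) ^ 3 := by ring
    _ ≤ Nat.card M ^ 3 := Nat.pow_le_pow_left hD 3

/-- Burnside: normal 2-complement. -/
theorem exists_compl_of_normalizer {B : Type*} [Group B] [Finite B] (S : Sylow 2 B)
    (hS : Subgroup.normalizer (S : Set B) ≤ Subgroup.centralizer (S : Set B)) :
    ∃ F : Subgroup B, F.Normal ∧ Odd (Nat.card F) ∧ (∀ x : B, x ∈ F ↔ Odd (orderOf x)) ∧
      F ⊔ (S : Subgroup B) = ⊤ := by
  have : Fact (Nat.Prime 2) := ⟨Nat.prime_two⟩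
  have hc := MonoidHom.ker_transferSylow_isComplement' S hS
  have hnd := MonoidHom.not_dvd_card_ker_transferSylow S hS
  set f := MonoidHom.transferSylow S hS
  refine ⟨f.ker, inferInstance, ?_, ?_, hc.sup_eq_top⟩
  · rw [← Nat.not_even_iff_odd, even_iff_two_dvd]
    exact hnd
  · intro x
    constructor
    · intro hx
      rw [← Nat.not_even_iff_odd, even_iff_two_dvd]
      intro h
      apply hnd
      have := orderOf_dvd_natCard (⟨x, hx⟩ : f.ker)
      rw [Subgroup.orderOf_mk] at this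
      exact h.trans this
    · intro hx
      rw [MonoidHom.mem_ker]
      have h1 : orderOf (f x) ∣ orderOf x := orderOf_map_dvd f x
      obtain ⟨k, hk⟩ := S.2 (f x)
      have h3 : orderOf (f x) ∣ 2 ^ k := orderOf_dvd_of_pow_eq_one hk
      rw [← orderOf_eq_one_iff]
      have hcop : Nat.Coprime (orderOf x) (2 ^ k) := (Nat.Coprime.pow_right k
        (Nat.coprime_two_right.mpr hx))
      exact Nat.eq_one_of_dvd_coprimes hcop h1 h3

/-- `z` isolated in `H` with centralizer containing no other 2-element: normal 2-complement. -/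
theorem exists_compl {G : Type*} [Group G] [Finite G] (H : Subgroup G) {z : G} (hz : z ∈ H) (hz1 : z ≠ 1)
    (hzz : z * z = 1) (huniq : ∀ t ∈ H, t * z = z * t → (∃ k : ℕ, t ^ (2 ^ k) = 1) → t = 1 ∨ t = z) :
    ∃ F : Subgroup G, Odd (Nat.card F) ∧ (∀ g, g ∈ F ↔ g ∈ H ∧ Odd (orderOf g)) ∧
      (∀ g ∈ H, g ∈ F ∨ g * z ∈ F) ∧ (∀ g ∈ H, ∀ f ∈ F, g * f * g⁻¹ ∈ F) := by
  have : Fact (Nat.Prime 2) := ⟨Nat.prime_two⟩
  set zK : H := ⟨z, hz⟩ with hzK
  have hzK2 : zK ^ 2 = 1 := Subtype.ext (by show z ^ 2 = 1; rw [pow_two, hzz])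
  have hzKne : zK ≠ 1 := fun he => hz1 (congrArg Subtype.val he)
  have hpz : IsPGroup 2 (Subgroup.zpowers zK) := by
    apply IsPGroup.of_card (n := 1)
    rw [Nat.card_zpowers, pow_one, orderOf_eq_prime hzK2 hzKne]
  obtain ⟨T, hT⟩ := hpz.exists_le_sylow
  have hzT : zK ∈ T := hT (Subgroup.mem_zpowers zK)
  have hpow : ∀ t ∈ T, ∃ k : ℕ, (t : G) ^ (2 ^ k) = 1 := by
    intro t ht
    obtain ⟨k, hk⟩ := T.isPGroup' ⟨t, ht⟩
    exact ⟨k, congrArg Subtype.val (congrArg Subtype.val hk)⟩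
  have hTz : (T : Subgroup H) = Subgroup.zpowers zK := by
    by_contra hne
    obtain ⟨r, hr1, hr2, hr3⟩ := ThreeA.exists_normalizing T.isPGroup' hT (fun h => hne h.symm)
    have h1 : r * zK * r⁻¹ ∈ Subgroup.zpowers zK := hr3 _ (Subgroup.mem_zpowers zK)
    have h2 : r * zK * r⁻¹ = zK := by
      obtain ⟨n, hn⟩ := h1
      have hn' : zK ^ n = r * zK * r⁻¹ := hn
      rcases Int.even_or_odd' n with ⟨m, rfl | rfl⟩
      · exfalso
        rw [zpow_mul, show zK ^ (2 : ℤ) = 1 by exact_mod_cast hzK2, one_zpow] at hn'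
        apply hzKne
        calc zK = r⁻¹ * (r * zK * r⁻¹) * r := by group
          _ = 1 := by rw [← hn']; group
      · rw [zpow_add, zpow_mul, show zK ^ (2 : ℤ) = 1 by exact_mod_cast hzK2, one_zpow, one_mul, zpow_one] at hn'
        exact hn'.symm
    have h3 : (r : G) * z = z * r := by
      have := congrArg Subtype.val (mul_inv_eq_iff_eq_mul.1 h2)
      exact this
    rcases huniq r r.2 h3 (hpow r hr1) with h4 | h4
    · apply hr2
      have : r = 1 := Subtype.ext h4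
      rw [this]; exact Subgroup.one_mem _
    · apply hr2
      have : r = zK := Subtype.ext h4
      rw [this]; exact Subgroup.mem_zpowers zK
  have hmemT : ∀ t ∈ (T : Subgroup H), t = 1 ∨ t = zK := by
    intro t ht
    rw [hTz] at ht
    obtain ⟨n, hn⟩ := ht
    have hn' : zK ^ n = t := hn
    rcases Int.even_or_odd' n with ⟨m, rfl | rfl⟩
    · left
      rw [← hn', zpow_mul, show zK ^ (2 : ℤ) = 1 by exact_mod_cast hzK2, one_zpow]
    · right
      rw [← hn', zpow_add, zpow_mul, show zK ^ (2 : ℤ) = 1 by exact_mod_cast hzK2, one_zpow, one_mul, zpow_one]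
  have hN : Subgroup.normalizer (T : Set H) ≤ Subgroup.centralizer (T : Set H) := by
    intro r hr
    rw [Subgroup.mem_centralizer_iff]
    intro t ht
    have hr' : r * zK * r⁻¹ ∈ (T : Subgroup H) := (Subgroup.mem_normalizer_iff.1 hr zK).1 hzT
    have h2 : r * zK * r⁻¹ = zK := by
      rcases hmemT _ hr' with h4 | h4
      · exfalso
        apply hzKne
        calc zK = r⁻¹ * (r * zK * r⁻¹) * r := by group
          _ = 1 := by rw [h4]; group
      · exact h4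
    rcases hmemT t ht with rfl | rfl
    · group
    · exact (mul_inv_eq_iff_eq_mul.1 h2).symm
  obtain ⟨F₀, hnor, hodd, hmem, hsup⟩ := exists_compl_of_normalizer T hN
  refine ⟨F₀.map H.subtype, ?_, ?_, ?_, ?_⟩
  · rwa [Subgroup.card_map_of_injective (Subgroup.subtype_injective _)]
  · intro g
    constructor
    · rintro ⟨x, hx, rfl⟩
      refine ⟨x.2, ?_⟩
      have := (hmem x).1 hx
      rwa [← Subgroup.orderOf_coe] at this
    · rintro ⟨hg, ho⟩
      refine ⟨⟨g, hg⟩, (hmem _).2 ?_, rfl⟩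
      rwa [Subgroup.orderOf_mk]
  · intro g hg
    have h1 : (⟨g, hg⟩ : H) ∈ F₀ ⊔ (T : Subgroup H) := by rw [hsup]; exact Subgroup.mem_top _
    rw [Subgroup.mem_sup_of_normal_left] at h1
    obtain ⟨f, hf, t, ht, hft⟩ := h1
    have hft' : (f : G) * t = g := congrArg Subtype.val hft
    rcases hmemT t ht with rfl | rfl
    · left
      refine ⟨f, hf, ?_⟩
      show (f : G) = g
      rw [← hft']; simp
    · right
      refine ⟨f, hf, ?_⟩
      show (f : G) = g * z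
      rw [← hft', hzK, mul_assoc, hzz, mul_one]
  · rintro g hg _ ⟨f, hf, rfl⟩
    exact ⟨⟨g, hg⟩ * f * ⟨g, hg⟩⁻¹, hnor.conj_mem f hf _, rfl⟩

/-- `t` a central involution of `B`, `z` an involution of `B` not conjugate to `z t`, `C_B(z) = ⟨z, t⟩`: the
elements of odd order of `B` are inverted by `z` and commute. -/
theorem inverted {G : Type*} [Group G] [Finite G] (B : Subgroup G) {z t : G} (hz : z ∈ B) (ht : t ∈ B)
    (hz1 : z ≠ 1) (hzt1 : z ≠ t) (hzz : z * z = 1) (htt : t * t = 1) (htB : ∀ b ∈ B, b * t = t * b)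
    (hcent : ∀ b ∈ B, b * z = z * b → b = 1 ∨ b = z ∨ b = t ∨ b = z * t)
    (hfus : ∀ b ∈ B, b * z * b⁻¹ ≠ z * t) {b c : G} (hb : b ∈ B) (hc : c ∈ B) (hbo : Odd (orderOf b))
    (hco : Odd (orderOf c)) : z * b * z⁻¹ = b⁻¹ ∧ b * c = c * b := by
  have : Fact (Nat.Prime 2) := ⟨Nat.prime_two⟩
  have hzt : z * t = t * z := htB z hz
  have hztt : z * t * (z * t) = 1 := by
    calc z * t * (z * t) = z * (t * z) * t := by group
      _ = (z * z) * (t * t) := by rw [← hzt]; group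
      _ = 1 := by rw [hzz, htt, mul_one]
  -- the four-group
  let V : Subgroup B :=
    { carrier := {v | (v : G) = 1 ∨ (v : G) = z ∨ (v : G) = t ∨ (v : G) = z * t}
      one_mem' := Or.inl rfl
      mul_mem' := by
        rintro a b ha hb
        have e1 : z * (z * t) = t := by rw [← mul_assoc, hzz, one_mul]
        have e2 : t * (z * t) = z := by rw [← mul_assoc, ← hzt, mul_assoc, htt, mul_one]
        have e3 : z * t * z = t := by rw [hzt, mul_assoc, hzz, mul_one]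
        have e4 : z * t * t = z := by rw [mul_assoc, htt, mul_one]
        rcases ha with ha | ha | ha | ha <;> rcases hb with hb | hb | hb | hb <;>
          simp only [Set.mem_ofPred_eq, Subgroup.coe_mul, ha, hb, one_mul, mul_one, hzz, htt, e1, e2, e3, e4,
            hztt, ← hzt] <;> simp only [_root_.true_or, _root_.left_eq_mul, _root_.or_true, _root_.right_eq_mul, _root_.mul_eq_left, _root_.mul_eq_right]
      inv_mem' := by
        rintro a ha
        have i1 : z⁻¹ = z := inv_eq_of_mul_eq_one_right hzz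
        have i2 : t⁻¹ = t := inv_eq_of_mul_eq_one_right htt
        rcases ha with ha | ha | ha | ha <;>
          simp only [Set.mem_ofPred_eq, Subgroup.coe_inv, ha, inv_one, i1, i2, mul_inv_rev, ← hzt] <;> simp }
  have hVmem : ∀ v : B, v ∈ V ↔ ((v : G) = 1 ∨ (v : G) = z ∨ (v : G) = t ∨ (v : G) = z * t) := fun v => Iff.rfl
  have hV2 : IsPGroup 2 V := by
    rintro ⟨v, hv⟩
    refine ⟨1, Subtype.ext (Subtype.ext ?_)⟩
    show (v : G) ^ (2 ^ 1) = 1
    rw [pow_one, pow_two]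
    rcases hv with hv | hv | hv | hv <;> rw [hv]
    · rw [one_mul]
    · exact hzz
    · exact htt
    · exact hztt
  have hzV : (⟨z, hz⟩ : B) ∈ V := Or.inr (Or.inl rfl)
  have htV : (⟨t, ht⟩ : B) ∈ V := Or.inr (Or.inr (Or.inl rfl))
  -- elements normalising `V` centralise it
  have hnorm : ∀ r : B, r * ⟨z, hz⟩ * r⁻¹ ∈ V → (r : G) * z = z * r := by
    intro r hr
    have hr' : (r : G) * z * (r : G)⁻¹ = 1 ∨ (r : G) * z * (r : G)⁻¹ = z ∨ (r : G) * z * (r : G)⁻¹ = t ∨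
        (r : G) * z * (r : G)⁻¹ = z * t := hr
    rcases hr' with h1 | h1 | h1 | h1
    · exfalso
      apply hz1
      calc z = (r : G)⁻¹ * ((r : G) * z * (r : G)⁻¹) * r := by group
        _ = 1 := by rw [h1]; group
    · exact mul_inv_eq_iff_eq_mul.1 h1
    · exfalso
      apply hzt1
      calc z = (r : G)⁻¹ * ((r : G) * z * (r : G)⁻¹) * r := by group
        _ = (r : G)⁻¹ * (t * r) := by rw [h1]; group
        _ = t := by rw [← htB r r.2]; group
    · exact absurd h1 (hfus r r.2)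
  obtain ⟨S, hS⟩ := hV2.exists_le_sylow
  have hSV : V = (S : Subgroup B) := by
    by_contra hne
    obtain ⟨r, hr1, hr2, hr3⟩ := ThreeA.exists_normalizing S.isPGroup' hS hne
    apply hr2
    exact hcent r r.2 (hnorm r (hr3 _ hzV))
  have hN : Subgroup.normalizer (S : Set B) ≤ Subgroup.centralizer (S : Set B) := by
    intro r hr
    rw [Subgroup.mem_centralizer_iff]
    intro s hs
    have hr' : r * ⟨z, hz⟩ * r⁻¹ ∈ (S : Subgroup B) := (Subgroup.mem_normalizer_iff.1 hr _).1 (hS hzV)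
    rw [← hSV] at hr'
    have h1 := hnorm r hr'
    have h2 := htB r r.2
    have hs' : s ∈ V := by rw [hSV]; exact hs
    apply Subtype.ext
    show (s : G) * r = r * s
    rcases hs' with h3 | h3 | h3 | h3 <;> rw [h3]
    · group
    · exact h1.symm
    · exact h2.symm
    · exact ((show Commute (r : G) z from h1).mul_right (show Commute (r : G) t from h2)).symm.eq
  obtain ⟨F₀, hnor, hodd, hmem, -⟩ := exists_compl_of_normalizer S hN
  -- `z` inverts `F`
  have hinv : ∀ f : B, f ∈ F₀ → z * (f : G) * z⁻¹ = (f : G)⁻¹ := by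
    intro f hf
    have hFodd : Odd (Nat.card (F₀.map B.subtype)) := by
      rwa [Subgroup.card_map_of_injective (Subgroup.subtype_injective _)]
    obtain ⟨c, hc, m, hm, hzc, hzm, hkcm⟩ :=
      Cfsg.Agent.Lib.KleinGen.exists_centralizer_mul_inverted (F₀.map B.subtype) hFodd z hzz
        (by
          rintro _ ⟨f, hf, rfl⟩
          exact ⟨(⟨z, hz⟩ * f * ⟨z, hz⟩⁻¹ :), hnor.conj_mem f hf _, rfl⟩) (h := (f : G)) ⟨f, hf, rfl⟩
    have hc1 : c = 1 := by
      obtain ⟨c', hc', rfl⟩ := hc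
      have h1 := hcent c' c'.2 hzc.symm
      have h2 : c' ∈ V := h1
      have h3 : c' = 1 := by
        apply ThreeA.eq_one_of_two_odd hV2 h2
        exact (hmem c').1 hc'
      rw [h3]; rfl
    rw [hkcm, hc1, one_mul]
    exact hzm
  have hbF : (⟨b, hb⟩ : B) ∈ F₀ := (hmem _).2 (by rwa [Subgroup.orderOf_mk])
  have hcF : (⟨c, hc⟩ : B) ∈ F₀ := (hmem _).2 (by rwa [Subgroup.orderOf_mk])
  have e1 := hinv _ hbF
  have e2 := hinv _ hcF
  have e3 := hinv _ (F₀.mul_mem hbF hcF)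
  refine ⟨e1, ?_⟩
  have e1' : z * b * z⁻¹ = b⁻¹ := e1
  have e2' : z * c * z⁻¹ = c⁻¹ := e2
  have e3' : z * (b * c) * z⁻¹ = (b * c)⁻¹ := e3
  have e4 : b⁻¹ * c⁻¹ = (b * c)⁻¹ := by
    rw [← e3', ← e1', ← e2']; group
  have e5 := congrArg (fun t => t⁻¹) e4
  simp only [mul_inv_rev, inv_inv] at e5
  exact e5.symm

end Cfsg.Agent.LargeExtra.W2.ThreeB
end

-- part: LargeExtra/W2/ThreeC
section
/-!
# 3-local analysis for `G₂(3)`: `|C_K(τ)| = 3` is impossible (S1759; helper865, after helper860)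
-/

set_option autoImplicit false

namespace Cfsg.Agent.LargeExtra.W2.ThreeC

open Cfsg Cfsg.Agent.StandardComponent.CentCore ThreeA ThreeB

/-- The data for both factors of `C_G(z)`. -/
structure Two {G : Type*} [Group G] (z τ x₁ x₂ : G) (Q₁ Q₂ : Subgroup G) : Prop where
  h₁ : Half z τ x₁ x₂ Q₂
  h₂ : Half z τ x₂ x₁ Q₁
  nine : ∀ A : Subgroup G, (∀ a ∈ A, a * z = z * a) → Odd (Nat.card A) → Nat.card A ∣ 9
  fuse : ∃ g, g * z * g⁻¹ = τ ∧ g * τ * g⁻¹ = z * τ
  syl : ∀ k, k * z = z * k → Odd (orderOf k) → ∃ c, c * z = z * c ∧ ∃ a b : ℤ, c * k * c⁻¹ = x₁ ^ a * x₂ ^ b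
  vw : ∀ a b : ℤ, x₁ ^ a ≠ 1 → x₂ ^ b ≠ 1 → ∀ g, g * z = z * g → g * (x₁ ^ a * x₂ ^ b) = x₁ ^ a * x₂ ^ b * g →
    ∃ c d : ℤ, g = x₁ ^ c * x₂ ^ d ∨ g = x₁ ^ c * x₂ ^ d * z
  nor : ∀ n, n * z = z * n → (∃ a b : ℤ, n * x₁ * n⁻¹ = x₁ ^ a * x₂ ^ b) →
    (∃ a b : ℤ, n * x₂ * n⁻¹ = x₁ ^ a * x₂ ^ b) → ∃ a b : ℤ, n = x₁ ^ a * x₂ ^ b ∨ n = x₁ ^ a * x₂ ^ b * z ∨
      n = x₁ ^ a * x₂ ^ b * τ ∨ n = x₁ ^ a * x₂ ^ b * (z * τ)
  vcent : ∀ g, g * z = z * g → g * τ = τ * g → Odd (orderOf g) → g = 1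

section basic

variable {G : Type*} [Group G]

theorem card_zpowers_three {x : G} (h3 : x ^ 3 = 1) (h1 : x ≠ 1) : Nat.card (Subgroup.zpowers x) = 3 := by
  rw [Nat.card_zpowers]
  exact orderOf_eq_prime h3 h1

/-- `x^a` is `1`, `x` or `x⁻¹` -/
theorem zpow_three_cases {x : G} (h3 : x ^ 3 = 1) (a : ℤ) : x ^ a = 1 ∨ x ^ a = x ∨ x ^ a = x⁻¹ := by
  have hmod : x ^ a = x ^ (a % 3) := by
    conv_lhs => rw [← Int.emod_add_mul_ediv a 3]
    rw [zpow_add, zpow_mul]
    have : x ^ (3 : ℤ) = 1 := by exact_mod_cast h3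
    rw [this, one_zpow, mul_one]
  have h0 := Int.emod_nonneg a (show (3 : ℤ) ≠ 0 by norm_num)
  have h1 := Int.emod_lt_of_pos a (show (0 : ℤ) < 3 by norm_num)
  have hcases : a % 3 = 0 ∨ a % 3 = 1 ∨ a % 3 = 2 := by omega
  rcases hcases with h2 | h2 | h2
  · left; rw [hmod, h2, zpow_zero]
  · right; left; rw [hmod, h2, zpow_one]
  · right; right
    rw [hmod, h2]
    have : x ^ (2 : ℤ) = x * x := by rw [show (2 : ℤ) = 1 + 1 by norm_num, zpow_add, zpow_one]
    rw [this]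
    rw [pow_succ, pow_two] at h3
    exact eq_inv_of_mul_eq_one_left h3

theorem eq_one_of_sq_cube {x : G} (h2 : x * x = 1) (h3 : x ^ 3 = 1) : x = 1 := by
  rw [pow_succ, pow_two, h2, one_mul] at h3
  exact h3

theorem zpow_cube {x : G} (h3 : x ^ 3 = 1) (a : ℤ) : (x ^ a) ^ 3 = 1 := by
  rw [← zpow_natCast (x ^ a), ← zpow_mul, mul_comm, zpow_mul, zpow_natCast, h3, one_zpow]

/-- the abelian group `{x^a y^b k^c}` -/
def rGrp (x y k : G) (hxy : x * y = y * x) (hxk : x * k = k * x) (hyk : y * k = k * y) : Subgroup G where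
  carrier := {g | ∃ a b c : ℤ, g = x ^ a * y ^ b * k ^ c}
  one_mem' := ⟨0, 0, 0, by simp⟩
  mul_mem' := by
    rintro _ _ ⟨a, b, c, rfl⟩ ⟨a', b', c', rfl⟩
    refine ⟨a + a', b + b', c + c', ?_⟩
    have h1 : Commute (k ^ c) (x ^ a') := (show Commute k x from hxk.symm).zpow_zpow c a'
    have h2 : Commute (k ^ c) (y ^ b') := (show Commute k y from hyk.symm).zpow_zpow c b'
    have h3 : Commute (y ^ b) (x ^ a') := (show Commute y x from hxy.symm).zpow_zpow b a'
    calc x ^ a * y ^ b * k ^ c * (x ^ a' * y ^ b' * k ^ c')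
        = x ^ a * y ^ b * (k ^ c * x ^ a') * y ^ b' * k ^ c' := by group
      _ = x ^ a * (y ^ b * x ^ a') * (k ^ c * y ^ b') * k ^ c' := by rw [h1.eq]; group
      _ = x ^ a * (x ^ a' * y ^ b) * (y ^ b' * k ^ c) * k ^ c' := by rw [h3.eq, h2.eq]
      _ = x ^ (a + a') * y ^ (b + b') * k ^ (c + c') := by rw [zpow_add, zpow_add, zpow_add]; group
  inv_mem' := by
    rintro _ ⟨a, b, c, rfl⟩
    refine ⟨-a, -b, -c, ?_⟩
    have h1 : Commute (k ^ (-c)) (x ^ (-a)) := (show Commute k x from hxk.symm).zpow_zpow _ _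
    have h2 : Commute (k ^ (-c)) (y ^ (-b)) := (show Commute k y from hyk.symm).zpow_zpow _ _
    have h3 : Commute (y ^ (-b)) (x ^ (-a)) := (show Commute y x from hxy.symm).zpow_zpow _ _
    calc (x ^ a * y ^ b * k ^ c)⁻¹ = k ^ (-c) * (y ^ (-b) * x ^ (-a)) := by group
      _ = k ^ (-c) * (x ^ (-a) * y ^ (-b)) := by rw [h3.eq]
      _ = (k ^ (-c) * x ^ (-a)) * y ^ (-b) := by group
      _ = x ^ (-a) * (k ^ (-c) * y ^ (-b)) := by rw [h1.eq]; group
      _ = x ^ (-a) * y ^ (-b) * k ^ (-c) := by rw [h2.eq]; group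

end basic

/-- `u ∈ K`, `[u, y] ∈ ⟨x⟩` implies `[u, y] = 1`. -/
theorem half_le_cent {G : Type*} [Group G] [Finite G] {z τ x y : G} {Q : Subgroup G} (h : Half z τ x y Q) {u : G}
    (hu : u ∈ centralizerPPrimeCore 2 x) (hux : ∃ a : ℤ, u * y * u⁻¹ = y * x ^ a) : u * y = y * u := by
  set! D := centralizerPPrimeCore 2 x ⊓ ThreeLocal.kGrp x y with hD
  have hDodd : Odd (Nat.card D) := Odd.of_dvd_nat (core_odd x) (Subgroup.card_dvd_of_le inf_le_left)
  have hzD : ∀ d ∈ D, z * d * z⁻¹ ∈ D := by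
    rintro d ⟨hd1, hd2, a, ha⟩
    have h1 := h.z_core hd1
    refine ⟨h1, core_comm h1, a, ?_⟩
    have hzy : z⁻¹ * y * z = y := by
      have : Commute z y := h.zy
      rw [this.inv_left.eq]; group
    calc z * d * z⁻¹ * y * (z * d * z⁻¹)⁻¹ = z * (d * (z⁻¹ * y * z) * d⁻¹) * z⁻¹ := by group
      _ = z * (y * x ^ a) * z⁻¹ := by rw [hzy, ha]
      _ = y * x ^ a := by
        have : Commute z (y * x ^ a) := Commute.mul_right h.zy ((show Commute z x from h.zx).zpow_right a)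
        rw [this.eq]; group
  have hτD : ∀ d ∈ D, τ * d * τ⁻¹ ∈ D := by
    rintro d ⟨hd1, hd2, a, ha⟩
    have h1 := h.τ_core hd1
    refine ⟨h1, core_comm h1, a, ?_⟩
    have hτy : τ⁻¹ * y * τ = y⁻¹ := by rw [h.τ_inv, ← h.τy, h.τ_inv]
    have hinv : d * y⁻¹ * d⁻¹ = (y * x ^ a)⁻¹ := by rw [← ha]; group
    have hxa : τ * x ^ a * τ⁻¹ = x ^ (-a) := by rw [← conj_zpow, h.τx]; group
    have hyx : Commute y (x ^ (-a)) := (show Commute y x from h.xy.symm).zpow_right (-a)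
    calc τ * d * τ⁻¹ * y * (τ * d * τ⁻¹)⁻¹ = τ * (d * (τ⁻¹ * y * τ) * d⁻¹) * τ⁻¹ := by group
      _ = τ * (y * x ^ a)⁻¹ * τ⁻¹ := by rw [hτy, hinv]
      _ = ((τ * y * τ⁻¹) * (τ * x ^ a * τ⁻¹))⁻¹ := by group
      _ = x ^ a * y := by rw [h.τy, hxa]; group
      _ = y * x ^ a := by rw [((show Commute y x from h.xy.symm).zpow_right a).eq]
  have key : D ≤ Subgroup.centralizer ({y} : Set G) := by
    refine Cfsg.Agent.Lib.KleinGen.le_of_klein D _ hDodd z τ h.zz h.ττ h.zτ hzD hτD ?_ ?_ ?_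
    · rintro d ⟨hd, hdz⟩
      replace hdz := mem_cent.1 hdz
      obtain ⟨n, hn⟩ := h.core_z hd.1 hdz
      have hn' : x ^ n = d := hn
      rw [mem_cent, ← hn']
      exact ((show Commute x y from h.xy).zpow_left n).eq
    · rintro d ⟨⟨hd1, hd2, a, ha⟩, hdτ⟩
      have hinv := h.inv_of_τ hd1 (mem_cent.1 hdτ)
      rw [mem_cent]
      exact (ThreeLocal.comm_of_mem_k h.x3 h.zx h.zy hinv hd2 a ha).symm.eq
    · rintro d ⟨⟨hd1, hd2, a, ha⟩, hdτ⟩
      have hinv := h.inv_of_zτ hd1 (mem_cent.1 hdτ)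
      rw [mem_cent]
      exact (ThreeLocal.comm_of_mem_k h.x3 h.zx h.zy hinv hd2 a ha).symm.eq
  exact mem_cent.1 (key ⟨hu, core_comm hu, hux⟩)

namespace Two

variable {G : Type*} [Group G] {z τ x₁ x₂ : G} {Q₁ Q₂ : Subgroup G}

theorem symm (h : Two z τ x₁ x₂ Q₁ Q₂) : Two z τ x₂ x₁ Q₂ Q₁ := by
  have hc : ∀ a b : ℤ, x₁ ^ a * x₂ ^ b = x₂ ^ b * x₁ ^ a := h.h₁.xy_zpow
  refine ⟨h.h₂, h.h₁, h.nine, h.fuse, ?_, ?_, ?_, h.vcent⟩
  · intro k hk ho
    obtain ⟨c, hc1, a, b, hab⟩ := h.syl k hk ho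
    exact ⟨c, hc1, b, a, by rw [hab, hc]⟩
  · intro a b ha hb g hgz hg
    obtain ⟨c, d, hcd⟩ := h.vw b a hb ha g hgz (by rw [hc]; exact hg)
    refine ⟨d, c, ?_⟩
    rcases hcd with hcd | hcd
    · left; rw [hcd, hc]
    · right; rw [hcd, hc]
  · rintro n hn ⟨a, b, hab⟩ ⟨c, d, hcd⟩
    obtain ⟨e, f, hef⟩ := h.nor n hn ⟨d, c, by rw [hcd, hc]⟩ ⟨b, a, by rw [hab, hc]⟩
    refine ⟨f, e, ?_⟩
    rw [← hc]
    exact hef

/-- `τ` may be replaced by `z τ`. -/
theorem swap (h : Two z τ x₁ x₂ Q₁ Q₂) : Two z (z * τ) x₁ x₂ Q₁ Q₂ := by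
  have e1 : z * (z * τ) = τ := by rw [← mul_assoc, h.h₁.zz, one_mul]
  refine ⟨h.h₁.swap, h.h₂.swap, h.nine, ?_, h.syl, h.vw, ?_, ?_⟩
  · obtain ⟨g, hg1, hg2⟩ := h.fuse
    refine ⟨g * g, ?_, ?_⟩
    · calc g * g * z * (g * g)⁻¹ = g * (g * z * g⁻¹) * g⁻¹ := by group
        _ = z * τ := by rw [hg1, hg2]
    · have hg3 : g * (z * τ) * g⁻¹ = z := by
        calc g * (z * τ) * g⁻¹ = (g * z * g⁻¹) * (g * τ * g⁻¹) := by group
          _ = τ * (z * τ) := by rw [hg1, hg2]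
          _ = z * (τ * τ) := by rw [← mul_assoc, ← h.h₁.zτ]; group
          _ = z := by rw [h.h₁.ττ, mul_one]
      rw [e1]
      calc g * g * (z * τ) * (g * g)⁻¹ = g * (g * (z * τ) * g⁻¹) * g⁻¹ := by group
        _ = τ := by rw [hg3, hg1]
  · intro n hn h1 h2
    obtain ⟨a, b, hab⟩ := h.nor n hn h1 h2
    refine ⟨a, b, ?_⟩
    rw [e1]
    rcases hab with hab | hab | hab | hab
    · exact Or.inl hab
    · exact Or.inr (Or.inl hab)
    · exact Or.inr (Or.inr (Or.inr hab))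
    · exact Or.inr (Or.inr (Or.inl hab))
  · intro g h1 h2 ho
    refine h.vcent g h1 ?_ ho
    have c1 : Commute g z := h1
    have c2 : Commute g (z * τ) := h2
    have : Commute g (z⁻¹ * (z * τ)) := c1.inv_right.mul_right c2
    rw [inv_mul_cancel_left] at this
    exact this.eq

variable (h : Two z τ x₁ x₂ Q₁ Q₂)

include h

/-- `x₂ ∉ ⟨x₁⟩` -/
theorem x₂_not : x₂ ∉ Subgroup.zpowers x₁ := by
  rintro ⟨n, hn⟩
  have hn' : x₁ ^ n = x₂ := hn
  obtain ⟨q, hq, hne⟩ := h.h₁.ne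
  apply hne
  rw [← hn']
  exact (h.h₁.x_zpow_comm hq n).symm

theorem x₁_not : x₁ ∉ Subgroup.zpowers x₂ := h.symm.x₂_not

/-- `⟨x₁⟩ ∩ ⟨x₂⟩ = 1` -/
theorem inter {a b : ℤ} (hab : x₁ ^ a * x₂ ^ b = 1) : x₁ ^ a = 1 ∧ x₂ ^ b = 1 := by
  have h1 : x₁ ^ a = x₂ ^ (-b) := by
    rw [zpow_neg]; exact eq_inv_of_mul_eq_one_left hab
  have h2 : x₁ ^ a = 1 := by
    rcases zpow_three_cases h.h₁.x3 a with h3 | h3 | h3
    · exact h3
    · exact absurd ⟨-b, by show x₂ ^ (-b) = x₁; rw [← h1, h3]⟩ h.x₁_not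
    · exact absurd ⟨b, by
        show x₂ ^ b = x₁
        have : x₂ ^ b = (x₂ ^ (-b))⁻¹ := by rw [zpow_neg, inv_inv]
        rw [this, ← h1, h3, inv_inv]⟩ h.x₁_not
  refine ⟨h2, ?_⟩
  rw [h2, one_mul] at hab
  exact hab

/-- odd-order elements of `C_G(z)` have order dividing `3` -/
theorem cube_of_z {k : G} (hk : k * z = z * k) (ho : Odd (orderOf k)) : k ^ 3 = 1 := by
  obtain ⟨c, -, a, b, hab⟩ := h.syl k hk ho
  have h1 : (c * k * c⁻¹) ^ 3 = 1 := by rw [hab, h.h₁.xy_cube]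
  rw [conj_pow] at h1
  calc k ^ 3 = c⁻¹ * (c * k ^ 3 * c⁻¹) * c := by group
    _ = 1 := by rw [h1]; group

/-- odd-order elements of `C_G(τ)` have order dividing `3` -/
theorem cube_of_τ {k : G} (hk : k * τ = τ * k) (ho : Odd (orderOf k)) : k ^ 3 = 1 := by
  obtain ⟨g, hg1, -⟩ := h.fuse
  have h1 : (g⁻¹ * k * g) ^ 3 = 1 := by
    apply h.cube_of_z
    · rw [← hg1] at hk
      calc g⁻¹ * k * g * z = g⁻¹ * (k * (g * z * g⁻¹)) * g := by group
        _ = z * (g⁻¹ * k * g) := by rw [hk]; group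
    · have := (MulAut.conj g⁻¹).orderOf_eq k
      simp only [MulAut.conj_apply, inv_inv] at this
      rwa [this]
  have h2 := conj_pow (i := 3) (a := g⁻¹) (b := k)
  rw [inv_inv, h1] at h2
  calc k ^ 3 = g * (g⁻¹ * k ^ 3 * g) * g⁻¹ := by group
    _ = 1 := by rw [← h2]; group

/-- odd-order subgroups of `C_G(τ)` have order dividing `9` -/
theorem nine_τ (A : Subgroup G) (hA : ∀ a ∈ A, a * τ = τ * a) (ho : Odd (Nat.card A)) : Nat.card A ∣ 9 := by
  obtain ⟨g, hg1, -⟩ := h.fuse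
  have h1 := h.nine (A.map (MulAut.conj g⁻¹).toMonoidHom) (by
    rintro _ ⟨a, ha, rfl⟩
    have hk := hA a ha
    rw [← hg1] at hk
    show g⁻¹ * a * g⁻¹⁻¹ * z = z * (g⁻¹ * a * g⁻¹⁻¹)
    rw [inv_inv]
    calc g⁻¹ * a * g * z = g⁻¹ * (a * (g * z * g⁻¹)) * g := by group
      _ = z * (g⁻¹ * a * g) := by rw [hk]; group) (by
    rwa [Subgroup.card_map_of_injective (MulAut.conj g⁻¹).injective])
  rwa [Subgroup.card_map_of_injective (MulAut.conj g⁻¹).injective] at h1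

theorem nine_zτ (A : Subgroup G) (hA : ∀ a ∈ A, a * (z * τ) = z * τ * a) (ho : Odd (Nat.card A)) :
    Nat.card A ∣ 9 := h.swap.nine_τ A hA ho

/-- `P` -/
theorem card_P [Finite G] : Nat.card (ThreeLocal.pGrp x₁ x₂ h.h₁.xy) = 9 := by
  apply le_antisymm
  · calc Nat.card (ThreeLocal.pGrp x₁ x₂ h.h₁.xy) ≤ Nat.card (Subgroup.zpowers x₁) * Nat.card (Subgroup.zpowers x₂) :=
        card_le_mul _ _ _ (by
          rintro _ ⟨a, b, rfl⟩
          exact ⟨_, Subgroup.zpow_mem_zpowers x₁ a, _, Subgroup.zpow_mem_zpowers x₂ b, rfl⟩)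
      _ = 9 := by rw [card_zpowers_three h.h₁.x3 h.h₁.x1, card_zpowers_three h.h₂.x3 h.h₂.x1]
  · calc 9 = Nat.card (Subgroup.zpowers x₁) * Nat.card (Subgroup.zpowers x₂) := by
          rw [card_zpowers_three h.h₁.x3 h.h₁.x1, card_zpowers_three h.h₂.x3 h.h₂.x1]
      _ ≤ _ := mul_card_le _ _ _ (by
          rw [Subgroup.zpowers_le]; exact ⟨1, 0, by simp⟩) (by
          rw [Subgroup.zpowers_le]; exact ⟨0, 1, by simp⟩) (by
          rintro _ ⟨a, rfl⟩ ⟨b, hb⟩
          have hb' : x₂ ^ b = x₁ ^ a := hb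
          refine (h.inter (a := a) (b := -b) ?_).1
          rw [zpow_neg, hb', mul_inv_cancel])

end Two

/-- The situation `|C_K(τ)| = 3`: `k` generates `C_K(τ)` and commutes with `x₂`. -/
structure Sit {G : Type*} [Group G] (z τ x₁ x₂ : G) (Q₁ Q₂ : Subgroup G) (k : G) : Prop
    extends Two z τ x₁ x₂ Q₁ Q₂ where
  c1 : Nat.card (centralizerPPrimeCore 2 x₁) = 27
  k1 : k ∈ centralizerPPrimeCore 2 x₁
  kne : k ≠ 1
  k3 : k ^ 3 = 1
  kτ : k * τ = τ * k
  kx1 : x₁ * k = k * x₁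
  kx2 : x₂ * k = k * x₂

namespace Sit

variable {G : Type*} [Group G] [Finite G] {z τ x₁ x₂ k : G} {Q₁ Q₂ : Subgroup G}
  (S : Sit z τ x₁ x₂ Q₁ Q₂ k)

include S

theorem kz : z * k * z⁻¹ = k⁻¹ := S.h₁.inv_of_τ S.k1 S.kτ

theorem kz_zpow (c : ℤ) : z * k ^ c * z⁻¹ = k ^ (-c) := by
  rw [← conj_zpow, S.kz]; group

theorem k2 : k ∈ centralizerPPrimeCore 2 x₂ := S.h₂.mem_core_of_inv S.kx2.symm S.kz S.k3

omit [Finite G] in
theorem z_P (a b : ℤ) : z * (x₁ ^ a * x₂ ^ b) = x₁ ^ a * x₂ ^ b * z :=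
  (Commute.mul_right ((show Commute z x₁ from S.h₁.zx).zpow_right a)
    ((show Commute z x₂ from S.h₂.zx).zpow_right b)).eq

/-- `R = ⟨x₁, x₂, k⟩` -/
abbrev R : Subgroup G := rGrp x₁ x₂ k S.h₁.xy S.kx1 S.kx2

theorem z_R {a b c : ℤ} : z * (x₁ ^ a * x₂ ^ b * k ^ c) * z⁻¹ = x₁ ^ a * x₂ ^ b * k ^ (-c) := by
  calc z * (x₁ ^ a * x₂ ^ b * k ^ c) * z⁻¹ = z * (x₁ ^ a * x₂ ^ b) * z⁻¹ * (z * k ^ c * z⁻¹) := by group
    _ = x₁ ^ a * x₂ ^ b * k ^ (-c) := by rw [S.kz_zpow, S.z_P]; group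

omit [Finite G] in
theorem k_of_sq {c : ℤ} (hc : k ^ c = k ^ (-c)) : k ^ c = 1 := by
  have h1 : k ^ c * k ^ c = 1 := by
    nth_rewrite 2 [hc]
    rw [← zpow_add, add_neg_cancel, zpow_zero]
  exact eq_one_of_sq_cube h1 (zpow_cube S.k3 c)

/-- uniqueness of the normal form -/
theorem inter_k {a b c : ℤ} (habc : x₁ ^ a * x₂ ^ b * k ^ c = 1) : x₁ ^ a = 1 ∧ x₂ ^ b = 1 ∧ k ^ c = 1 := by
  have h1 : z * (x₁ ^ a * x₂ ^ b * k ^ c) * z⁻¹ = 1 := by rw [habc]; group
  rw [S.z_R] at h1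
  have h2 : k ^ c = k ^ (-c) := mul_left_cancel (habc.trans h1.symm)
  have h3 := S.k_of_sq h2
  rw [h3, mul_one] at habc
  obtain ⟨h4, h5⟩ := S.toTwo.inter habc
  exact ⟨h4, h5, h3⟩

theorem card_R : Nat.card S.R = 27 := by
  apply le_antisymm
  · calc Nat.card S.R ≤ Nat.card (ThreeLocal.pGrp x₁ x₂ S.h₁.xy) * Nat.card (Subgroup.zpowers k) :=
        card_le_mul _ _ _ (by
          rintro _ ⟨a, b, c, rfl⟩
          exact ⟨_, ⟨a, b, rfl⟩, _, Subgroup.zpow_mem_zpowers k c, rfl⟩)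
      _ = 27 := by rw [S.card_P, card_zpowers_three S.k3 S.kne]
  · calc 27 = Nat.card (ThreeLocal.pGrp x₁ x₂ S.h₁.xy) * Nat.card (Subgroup.zpowers k) := by
          rw [S.card_P, card_zpowers_three S.k3 S.kne]
      _ ≤ _ := mul_card_le _ _ _ (by
          rintro _ ⟨a, b, rfl⟩
          exact ⟨a, b, 0, by simp⟩) (by
          rw [Subgroup.zpowers_le]; exact ⟨0, 0, 1, by simp⟩) (by
          rintro _ ⟨a, b, rfl⟩ ⟨c, hc⟩
          have hc' : k ^ c = x₁ ^ a * x₂ ^ b := hc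
          obtain ⟨h1, h2, -⟩ := S.inter_k (a := a) (b := b) (c := -c) (by
            rw [zpow_neg, hc', mul_inv_cancel])
          rw [h1, h2, mul_one])

/-- `C_K(x₂) = ⟨x₁, k⟩` -/
theorem cent_x₂ {u : G} (hu : u ∈ centralizerPPrimeCore 2 x₁) (hux : u * x₂ = x₂ * u) :
    ∃ a c : ℤ, u = x₁ ^ a * k ^ c := by
  set! D := centralizerPPrimeCore 2 x₁ ⊓ Subgroup.centralizer ({x₂} : Set G) with hD
  set! E := ThreeLocal.pGrp x₁ k S.kx1 with hE
  have hEcard : 9 ≤ Nat.card E := by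
    calc 9 = Nat.card (Subgroup.zpowers x₁) * Nat.card (Subgroup.zpowers k) := by
          rw [card_zpowers_three S.h₁.x3 S.h₁.x1, card_zpowers_three S.k3 S.kne]
      _ ≤ _ := mul_card_le _ _ _ (by
          rw [Subgroup.zpowers_le]; exact ⟨1, 0, by simp⟩) (by
          rw [Subgroup.zpowers_le]; exact ⟨0, 1, by simp⟩) (by
          rintro _ ⟨a, rfl⟩ ⟨c, hc⟩
          have hc' : k ^ c = x₁ ^ a := hc
          exact (S.inter_k (a := a) (b := 0) (c := -c) (by
            rw [zpow_neg, hc', zpow_zero, mul_one, mul_inv_cancel])).1)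
  have hED : E ≤ D := by
    rintro _ ⟨a, c, rfl⟩
    refine ⟨Subgroup.mul_mem _ (Subgroup.zpow_mem _ S.h₁.x_mem a) (Subgroup.zpow_mem _ S.k1 c), mem_cent.2 ?_⟩
    exact (((show Commute x₁ x₂ from S.h₁.xy).zpow_left a).mul_left
      ((show Commute k x₂ from S.kx2.symm).zpow_left c)).eq
  have hDK : D ≤ centralizerPPrimeCore 2 x₁ := inf_le_left
  have hDne : D ≠ centralizerPPrimeCore 2 x₁ := by
    intro he
    have h1 := S.h₁.eq_of_le_cent (fun k hk => by
      rw [← he] at hk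
      exact mem_cent.1 hk.2)
    have h2 : centralizerPPrimeCore 2 x₁ ≤ Subgroup.zpowers x₁ := h1
    have h3 := Subgroup.card_le_of_le h2
    rw [S.c1, card_zpowers_three S.h₁.x3 S.h₁.x1] at h3
    omega
  have hDcard : Nat.card D ≤ 9 := by
    have h1 := Subgroup.card_dvd_of_le hDK
    rw [S.c1] at h1
    have h2 : Nat.card D ≠ 27 := by
      intro h2
      exact hDne (Subgroup.eq_of_le_of_card_ge hDK (by rw [S.c1, h2]))
    have h3 : Nat.card D ∈ Nat.divisors 27 := Nat.mem_divisors.2 ⟨h1, by norm_num⟩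
    have h4 : Nat.divisors 27 = {1, 3, 9, 27} := by decide
    rw [h4] at h3
    simp only [Finset.mem_insert, Finset.mem_singleton] at h3
    omega
  have hDE : E = D := Subgroup.eq_of_le_of_card_ge hED (by omega)
  have hu' : u ∈ D := ⟨hu, mem_cent.2 hux⟩
  rw [← hDE] at hu'
  exact hu'

/-- `C_G(P) = R⟨z⟩` -/
theorem cent_P {g : G} (h1 : g * x₁ = x₁ * g) (h2 : g * x₂ = x₂ * g) : g ∈ S.R ∨ ∃ r ∈ S.R, g = r * z := by
  obtain ⟨u, hu, hux, b, hg⟩ := S.h₁.cent_xy h1 h2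
  obtain ⟨a, c, rfl⟩ := S.cent_x₂ hu hux
  have hR : x₁ ^ a * k ^ c * x₂ ^ b ∈ S.R := by
    refine ⟨a, b, c, ?_⟩
    have : Commute (k ^ c) (x₂ ^ b) := (show Commute k x₂ from S.kx2.symm).zpow_zpow c b
    calc x₁ ^ a * k ^ c * x₂ ^ b = x₁ ^ a * (k ^ c * x₂ ^ b) := by group
      _ = x₁ ^ a * x₂ ^ b * k ^ c := by rw [this.eq]; group
  rcases hg with hg | hg
  · left; rw [hg]; exact hR
  · right; exact ⟨_, hR, hg⟩

omit [Finite G] in
theorem x₁_R : x₁ ∈ S.R := ⟨1, 0, 0, by simp⟩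

omit [Finite G] in
theorem x₂_R : x₂ ∈ S.R := ⟨0, 1, 0, by simp⟩

omit [Finite G] in
theorem R_cube {r : G} (hr : r ∈ S.R) : r ^ 3 = 1 := by
  obtain ⟨a, b, c, rfl⟩ := hr
  have h1 : Commute (x₁ ^ a * x₂ ^ b) (k ^ c) :=
    ((show Commute x₁ k from S.kx1).zpow_zpow a c).mul_left ((show Commute x₂ k from S.kx2).zpow_zpow b c)
  rw [h1.mul_pow, S.h₁.xy_cube, zpow_cube S.k3, one_mul]

theorem R_z {r : G} (hr : r ∈ S.R) (hz : r * z = z * r) : ∃ a b : ℤ, r = x₁ ^ a * x₂ ^ b := by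
  obtain ⟨a, b, c, rfl⟩ := hr
  have h1 := S.z_R (a := a) (b := b) (c := c)
  rw [← hz, mul_inv_cancel_right] at h1
  have h2 := S.k_of_sq (mul_left_cancel h1)
  exact ⟨a, b, by rw [h2, mul_one]⟩

omit [Finite G] in
theorem τ_P (a b : ℤ) : τ * (x₁ ^ a * x₂ ^ b) * τ⁻¹ = (x₁ ^ a * x₂ ^ b)⁻¹ := by
  calc τ * (x₁ ^ a * x₂ ^ b) * τ⁻¹ = (τ * x₁ ^ a * τ⁻¹) * (τ * x₂ ^ b * τ⁻¹) := by group
    _ = (x₁ ^ a)⁻¹ * (x₂ ^ b)⁻¹ := by
      rw [← conj_zpow, ← conj_zpow, S.h₁.τx, S.h₂.τx, inv_zpow, inv_zpow]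
    _ = (x₂ ^ b * x₁ ^ a)⁻¹ := by group
    _ = (x₁ ^ a * x₂ ^ b)⁻¹ := by rw [S.h₁.xy_zpow]

omit [Finite G] in
theorem R_τ {r : G} (hr : r ∈ S.R) (hz : τ * r * τ⁻¹ = r) : ∃ c : ℤ, r = k ^ c := by
  obtain ⟨a, b, c, rfl⟩ := hr
  have hkτ : Commute τ (k ^ c) := Commute.zpow_right S.kτ.symm c
  have h1 : τ * (x₁ ^ a * x₂ ^ b * k ^ c) * τ⁻¹ = (x₁ ^ a * x₂ ^ b)⁻¹ * k ^ c := by
    calc τ * (x₁ ^ a * x₂ ^ b * k ^ c) * τ⁻¹ = τ * (x₁ ^ a * x₂ ^ b) * τ⁻¹ * (τ * k ^ c * τ⁻¹) := by group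
      _ = (x₁ ^ a * x₂ ^ b)⁻¹ * k ^ c := by rw [S.τ_P, hkτ.eq]; group
  rw [h1] at hz
  have h2 : (x₁ ^ a * x₂ ^ b)⁻¹ = x₁ ^ a * x₂ ^ b := mul_right_cancel hz
  have h3 : x₁ ^ a * x₂ ^ b = 1 := by
    apply eq_one_of_sq_cube _ (S.h₁.xy_cube a b)
    nth_rewrite 1 [← h2]
    group
  exact ⟨c, by rw [h3, one_mul]⟩

/-- `T = K⟨x₂⟩` -/
def T : Subgroup G where
  carrier := {t | ∃ u ∈ centralizerPPrimeCore 2 x₁, ∃ b : ℤ, t = u * x₂ ^ b}
  one_mem' := ⟨1, Subgroup.one_mem _, 0, by simp⟩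
  mul_mem' := by
    rintro _ _ ⟨u, hu, b, rfl⟩ ⟨u', hu', b', rfl⟩
    have hx : x₂ ^ b * x₁ = x₁ * x₂ ^ b := ((show Commute x₂ x₁ from S.h₂.xy).zpow_left b).eq
    refine ⟨u * (x₂ ^ b * u' * (x₂ ^ b)⁻¹), Subgroup.mul_mem _ hu (core_conj_mem hx hu'), b + b', ?_⟩
    rw [zpow_add]; group
  inv_mem' := by
    rintro _ ⟨u, hu, b, rfl⟩
    have hx : x₂ ^ (-b) * x₁ = x₁ * x₂ ^ (-b) := ((show Commute x₂ x₁ from S.h₂.xy).zpow_left (-b)).eq
    refine ⟨x₂ ^ (-b) * u⁻¹ * (x₂ ^ (-b))⁻¹, core_conj_mem hx (Subgroup.inv_mem _ hu), -b, ?_⟩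
    group

omit [Finite G] in
theorem mem_T {t : G} : t ∈ S.T ↔ ∃ u ∈ centralizerPPrimeCore 2 x₁, ∃ b : ℤ, t = u * x₂ ^ b := Iff.rfl

theorem card_T : Nat.card S.T = 81 := by
  apply le_antisymm
  · calc Nat.card S.T ≤ Nat.card (centralizerPPrimeCore 2 x₁) * Nat.card (Subgroup.zpowers x₂) :=
        card_le_mul _ _ _ (by
          rintro _ ⟨u, hu, b, rfl⟩
          exact ⟨u, hu, _, Subgroup.zpow_mem_zpowers x₂ b, rfl⟩)
      _ = 81 := by rw [S.c1, card_zpowers_three S.h₂.x3 S.h₂.x1]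
  · calc 81 = Nat.card (centralizerPPrimeCore 2 x₁) * Nat.card (Subgroup.zpowers x₂) := by
          rw [S.c1, card_zpowers_three S.h₂.x3 S.h₂.x1]
      _ ≤ _ := mul_card_le _ _ _ (by intro u hu; exact ⟨u, hu, 0, by simp⟩) (by
          rw [Subgroup.zpowers_le]; exact ⟨1, Subgroup.one_mem _, 1, by simp⟩) (by
          rintro u hu ⟨b, hb⟩
          have hb' : x₂ ^ b = u := hb
          have hz : u * z = z * u := by
            rw [← hb']; exact ((show Commute z x₂ from S.h₂.zx).zpow_right b).eq.symm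
          obtain ⟨a, ha⟩ := S.h₁.core_z hu hz
          have ha' : x₁ ^ a = u := ha
          rw [← ha']
          exact (S.toTwo.inter (a := a) (b := -b) (by rw [zpow_neg, hb', ha', mul_inv_cancel])).1)

theorem norm_R {u : G} (hu : u ∈ centralizerPPrimeCore 2 x₁) : ∀ r ∈ S.R, u * r * u⁻¹ ∈ S.R := by
  have hRT : S.R ≤ S.T := by
    rintro _ ⟨a, b, c, rfl⟩
    refine ⟨x₁ ^ a * k ^ c, Subgroup.mul_mem _ (Subgroup.zpow_mem _ S.h₁.x_mem a) (Subgroup.zpow_mem _ S.k1 c), b, ?_⟩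
    have : Commute (k ^ c) (x₂ ^ b) := (show Commute k x₂ from S.kx2.symm).zpow_zpow c b
    calc x₁ ^ a * x₂ ^ b * k ^ c = x₁ ^ a * (x₂ ^ b * k ^ c) := by group
      _ = x₁ ^ a * k ^ c * x₂ ^ b := by rw [← this.eq]; group
  have hidx : (S.R.subgroupOf S.T).index = 3 := by
    have h1 := Subgroup.card_mul_index (S.R.subgroupOf S.T)
    rw [Nat.card_congr (Subgroup.subgroupOfEquivOfLe hRT).toEquiv, S.card_R, S.card_T] at h1
    omega
  have hnor : (S.R.subgroupOf S.T).Normal := by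
    apply Subgroup.normal_of_index_eq_minFac_card
    rw [hidx, S.card_T]
    norm_num
  intro r hr
  have huT : u ∈ S.T := ⟨u, hu, 0, by simp⟩
  exact hnor.conj_mem ⟨r, hRT hr⟩ hr ⟨u, huT⟩

/-- `k` is not conjugate to a power of `x₁` by an element mapping `z` to `τ`. -/
theorem not_x₁ {g : G} (hg : g * z * g⁻¹ = τ) (n : ℤ) (hn : g⁻¹ * k * g = x₁ ^ n) : False := by
  -- the core of `C_G(k)`
  have hkg : k = g * x₁ ^ n * g⁻¹ := by rw [← hn]; group
  have hn1 : x₁ ^ n ≠ 1 := by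
    intro h1
    apply S.kne
    rw [hkg, h1]; group
  have hcore : centralizerPPrimeCore 2 (x₁ ^ n) = centralizerPPrimeCore 2 x₁ := by
    rcases zpow_three_cases S.h₁.x3 n with h1 | h1 | h1
    · exact absurd h1 hn1
    · rw [h1]
    · rw [h1, Half.core_inv]
  have hcomm : ∀ c : G, c * x₁ ^ n = x₁ ^ n * c → c * x₁ = x₁ * c := by
    intro c hc
    rcases zpow_three_cases S.h₁.x3 n with h1 | h1 | h1
    · exact absurd h1 hn1
    · rwa [h1] at hc
    · rw [h1] at hc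
      have : Commute c x₁⁻¹ := hc
      simpa only [_root_.inv_inv] using this.inv_right.eq
  have hmem : ∀ t : G, t ∈ centralizerPPrimeCore 2 k ↔ g⁻¹ * t * g ∈ centralizerPPrimeCore 2 x₁ := by
    intro t
    rw [hkg, mem_core_conj, hcore]
  have hcard : Nat.card (centralizerPPrimeCore 2 k) = 27 := by
    have : centralizerPPrimeCore 2 k = (centralizerPPrimeCore 2 x₁).map (MulAut.conj g).toMonoidHom := by
      ext t
      rw [hmem]
      constructor
      · intro ht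
        refine ⟨_, ht, ?_⟩
        show g * (g⁻¹ * t * g) * g⁻¹ = t
        group
      · rintro ⟨s, hs, rfl⟩
        show g⁻¹ * (g * s * g⁻¹) * g ∈ _
        have e : g⁻¹ * (g * s * g⁻¹) * g = s := by group
        rwa [e]
    rw [this, Subgroup.card_map_of_injective (MulAut.conj g).injective, S.c1]
  -- `[τ, c] ∈ O(C_G(k))` for `c ∈ C_G(k)`
  have hτc : ∀ c : G, c * k = k * c → τ * c * τ⁻¹ * c⁻¹ ∈ centralizerPPrimeCore 2 k := by
    intro c hc
    rw [hmem]
    have h1 : (g⁻¹ * c * g) * x₁ = x₁ * (g⁻¹ * c * g) := by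
      apply hcomm
      rw [← hn]
      calc g⁻¹ * c * g * (g⁻¹ * k * g) = g⁻¹ * (c * k) * g := by group
        _ = g⁻¹ * k * g * (g⁻¹ * c * g) := by rw [hc]; group
    have h2 := S.h₁.comm_mem_core h1
    have e : g⁻¹ * (τ * c * τ⁻¹ * c⁻¹) * g = z * (g⁻¹ * c * g) * z⁻¹ * (g⁻¹ * c * g)⁻¹ := by
      rw [← hg]; group
    rw [e]
    exact h2
  have hkk : k ∈ centralizerPPrimeCore 2 k := by
    rw [hmem, hn]
    exact Subgroup.zpow_mem _ S.h₁.x_mem n
  have hPk : ∀ x : G, x * k = k * x → x ^ 3 = 1 → τ * x * τ⁻¹ = x⁻¹ → x ∈ centralizerPPrimeCore 2 k := by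
    intro x hx hx3 hτx
    have h1 := hτc x hx
    rw [hτx] at h1
    have e : x⁻¹ * x⁻¹ = x := by
      rw [pow_succ, pow_two] at hx3
      calc x⁻¹ * x⁻¹ = x⁻¹ * x⁻¹ * (x * x * x) := by rw [hx3, mul_one]
        _ = x := by group
    rwa [e] at h1
  have hR : S.R = centralizerPPrimeCore 2 k := by
    apply Subgroup.eq_of_le_of_card_ge
    · rintro _ ⟨a, b, c, rfl⟩
      exact Subgroup.mul_mem _ (Subgroup.mul_mem _
        (Subgroup.zpow_mem _ (hPk x₁ S.kx1 S.h₁.x3 S.h₁.τx) a)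
        (Subgroup.zpow_mem _ (hPk x₂ S.kx2 S.h₂.x3 S.h₂.τx) b)) (Subgroup.zpow_mem _ hkk c)
    · rw [hcard, S.card_R]
  -- the element `q' = g q g⁻¹` with square `τ`
  obtain ⟨q, hq, hqq⟩ := S.h₁.sq
  set! q' := g * q * g⁻¹ with hq'
  have hq'q' : q' * q' = τ := by
    rw [hq', ← hg, ← hqq]; group
  have hq'k : q' * k = k * q' := by
    have h1 := S.h₁.x_zpow_comm hq n
    rw [hkg, hq']
    calc g * q * g⁻¹ * (g * x₁ ^ n * g⁻¹) = g * (q * x₁ ^ n) * g⁻¹ := by group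
      _ = g * x₁ ^ n * g⁻¹ * (g * q * g⁻¹) := by rw [h1]; group
  have hq'τ : q' * τ = τ * q' := by rw [← hq'q']; group
  have hq'R : ∀ r ∈ S.R, q' * r * q'⁻¹ ∈ S.R := by
    intro r hr
    rw [hR] at hr ⊢
    exact core_conj_mem hq'k hr
  have hq'R' : ∀ r ∈ S.R, q'⁻¹ * r * q' ∈ S.R := by
    intro r hr
    rw [hR] at hr ⊢
    have h1 : q'⁻¹ * k = k * q'⁻¹ := (Commute.inv_left (show Commute q' k from hq'k)).eq
    have := core_conj_mem h1 hr
    rwa [inv_inv] at this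
  -- `q'` normalises `P`
  have hinvP : ∀ r ∈ S.R, τ * r * τ⁻¹ = r⁻¹ → ∃ a b : ℤ, r = x₁ ^ a * x₂ ^ b := by
    rintro _ ⟨a, b, c, rfl⟩ hr
    have hkτ : Commute τ (k ^ c) := Commute.zpow_right S.kτ.symm c
    have h1 : τ * (x₁ ^ a * x₂ ^ b * k ^ c) * τ⁻¹ = (x₁ ^ a * x₂ ^ b)⁻¹ * k ^ c := by
      calc τ * (x₁ ^ a * x₂ ^ b * k ^ c) * τ⁻¹ = τ * (x₁ ^ a * x₂ ^ b) * τ⁻¹ * (τ * k ^ c * τ⁻¹) := by group
        _ = (x₁ ^ a * x₂ ^ b)⁻¹ * k ^ c := by rw [S.τ_P, hkτ.eq]; group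
    have h2 : Commute (x₁ ^ a * x₂ ^ b) (k ^ c) :=
      ((show Commute x₁ k from S.kx1).zpow_zpow a c).mul_left ((show Commute x₂ k from S.kx2).zpow_zpow b c)
    have h4 : (x₁ ^ a * x₂ ^ b * k ^ c)⁻¹ = (x₁ ^ a * x₂ ^ b)⁻¹ * (k ^ c)⁻¹ := by
      rw [mul_inv_rev (x₁ ^ a * x₂ ^ b) (k ^ c)]
      exact h2.inv_inv.eq.symm
    rw [h1, h4] at hr
    have h3 : k ^ c = k ^ (-c) := by rw [zpow_neg]; exact mul_left_cancel hr
    refine ⟨a, b, ?_⟩
    rw [S.k_of_sq h3, mul_one]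
  have hq'P : ∀ x ∈ S.R, τ * x * τ⁻¹ = x⁻¹ → ∃ a b : ℤ, q' * x * q'⁻¹ = x₁ ^ a * x₂ ^ b := by
    intro x hx hτx
    apply hinvP _ (hq'R x hx)
    calc τ * (q' * x * q'⁻¹) * τ⁻¹ = (τ * q') * x * (τ * q')⁻¹ := by group
      _ = q' * (τ * x * τ⁻¹) * q'⁻¹ := by rw [← hq'τ]; group
      _ = (q' * x * q'⁻¹)⁻¹ := by rw [hτx]; group
  have hq'P' : ∀ x ∈ S.R, τ * x * τ⁻¹ = x⁻¹ → ∃ a b : ℤ, q'⁻¹ * x * q' = x₁ ^ a * x₂ ^ b := by
    intro x hx hτx
    apply hinvP _ (hq'R' x hx)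
    have hc : τ * q'⁻¹ = q'⁻¹ * τ := (Commute.inv_right (show Commute τ q' from hq'τ.symm)).eq
    calc τ * (q'⁻¹ * x * q') * τ⁻¹ = (τ * q'⁻¹) * x * (τ * q'⁻¹)⁻¹ := by group
      _ = q'⁻¹ * (τ * x * τ⁻¹) * q' := by rw [hc]; group
      _ = (q'⁻¹ * x * q')⁻¹ := by rw [hτx]; group
  -- `w = q' z q'⁻¹` centralises `P`
  set! w := q' * z * q'⁻¹ with hw
  have hwP : ∀ x ∈ S.R, τ * x * τ⁻¹ = x⁻¹ → w * x = x * w := by
    intro x hx hτx
    obtain ⟨a, b, hab⟩ := hq'P' x hx hτx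
    have h1 := S.z_P a b
    rw [← hab] at h1
    calc w * x = q' * (z * (q'⁻¹ * x * q')) * q'⁻¹ := by rw [hw]; group
      _ = x * w := by rw [h1, hw]; group
  have hww : w * w = 1 := by
    calc w * w = q' * (z * z) * q'⁻¹ := by rw [hw]; group
      _ = 1 := by rw [S.h₁.zz]; group
  have hw1 : w ≠ 1 := by
    intro h1
    apply S.h₁.z1
    calc z = q'⁻¹ * w * q' := by rw [hw]; group
      _ = 1 := by rw [h1]; group
  have hwx1 := hwP x₁ S.x₁_R S.h₁.τx
  have hwx2 := hwP x₂ S.x₂_R S.h₂.τx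
  obtain ⟨c, hc⟩ : ∃ c : ℤ, w = k ^ c * z := by
    rcases S.cent_P hwx1 hwx2 with hwR | ⟨r, hr, hwr⟩
    · exact absurd (eq_one_of_sq_cube hww (S.R_cube hwR)) hw1
    · obtain ⟨a, b, c, rfl⟩ := hr
      refine ⟨c, ?_⟩
      -- `r z r z = 1`
      have h1 : (x₁ ^ a * x₂ ^ b * k ^ c) * (x₁ ^ a * x₂ ^ b * k ^ (-c)) = 1 := by
        rw [← S.z_R (a := a) (b := b) (c := c), S.h₁.z_inv]
        rw [hwr] at hww
        calc x₁ ^ a * x₂ ^ b * k ^ c * (z * (x₁ ^ a * x₂ ^ b * k ^ c) * z)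
            = x₁ ^ a * x₂ ^ b * k ^ c * z * (x₁ ^ a * x₂ ^ b * k ^ c * z) := by group
          _ = 1 := hww
      have h2 : Commute (x₁ ^ a * x₂ ^ b) (k ^ c) :=
        ((show Commute x₁ k from S.kx1).zpow_zpow a c).mul_left ((show Commute x₂ k from S.kx2).zpow_zpow b c)
      have h3 : x₁ ^ a * x₂ ^ b * (x₁ ^ a * x₂ ^ b) = 1 := by
        calc x₁ ^ a * x₂ ^ b * (x₁ ^ a * x₂ ^ b) = x₁ ^ a * x₂ ^ b * (x₁ ^ a * x₂ ^ b * k ^ c) * k ^ (-c) := by group
          _ = x₁ ^ a * x₂ ^ b * (k ^ c * (x₁ ^ a * x₂ ^ b)) * k ^ (-c) := by rw [h2.eq]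
          _ = (x₁ ^ a * x₂ ^ b * k ^ c) * (x₁ ^ a * x₂ ^ b * k ^ (-c)) := by group
          _ = 1 := h1
      have h4 := eq_one_of_sq_cube h3 (S.h₁.xy_cube a b)
      rw [hwr, h4, one_mul]
  -- `m = k^(2c)`, `m z m⁻¹ = w`
  set! m := k ^ (2 * c) with hm
  have hmz : m * z * m⁻¹ = w := by
    have h1 : z * m⁻¹ * z⁻¹ = m := by
      rw [hm, ← zpow_neg, S.kz_zpow, neg_neg]
    have h2 : m * m = k ^ c := by
      rw [hm, ← zpow_add, show 2 * c + 2 * c = c + c * 3 by ring, zpow_add, zpow_mul]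
      have : (k ^ c) ^ (3 : ℤ) = 1 := by exact_mod_cast zpow_cube S.k3 c
      rw [this, mul_one]
    calc m * z * m⁻¹ = m * (z * m⁻¹ * z⁻¹) * z := by group
      _ = w := by rw [h1, h2, hc]
  set! n' := m⁻¹ * q' with hn'
  have hn'z : n' * z = z * n' := by
    calc n' * z = m⁻¹ * w * q' := by rw [hn', hw]; group
      _ = z * n' := by rw [← hmz, hn']; group
  have hmP : ∀ a b : ℤ, m⁻¹ * (x₁ ^ a * x₂ ^ b) * m = x₁ ^ a * x₂ ^ b := by
    intro a b
    have h2 : Commute (x₁ ^ a * x₂ ^ b) m :=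
      ((show Commute x₁ k from S.kx1).zpow_zpow a _).mul_left ((show Commute x₂ k from S.kx2).zpow_zpow b _)
    rw [mul_assoc, h2.eq]; group
  have hn'P : ∀ x ∈ S.R, τ * x * τ⁻¹ = x⁻¹ → ∃ a b : ℤ, n' * x * n'⁻¹ = x₁ ^ a * x₂ ^ b := by
    intro x hx hτx
    obtain ⟨a, b, hab⟩ := hq'P x hx hτx
    refine ⟨a, b, ?_⟩
    calc n' * x * n'⁻¹ = m⁻¹ * (q' * x * q'⁻¹) * m := by rw [hn']; group
      _ = x₁ ^ a * x₂ ^ b := by rw [hab, hmP]
  obtain ⟨a, b, hab⟩ := S.nor n' hn'z (hn'P x₁ S.x₁_R S.h₁.τx) (hn'P x₂ S.x₂_R S.h₂.τx)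
  -- `q' = r w'`, `r ∈ R`, `w' ∈ V`
  have hfin : ∃ r ∈ S.R, ∃ v : G, q' = r * v ∧ v * v = 1 ∧ (∀ s ∈ S.R, v * s * v⁻¹ ∈ S.R) := by
    have hr : m * (x₁ ^ a * x₂ ^ b) ∈ S.R := by
      refine S.R.mul_mem ⟨0, 0, 2 * c, by simp [hm]⟩ ⟨a, b, 0, by simp⟩
    have hzn : ∀ s ∈ S.R, z * s * z⁻¹ ∈ S.R := by
      rintro _ ⟨a, b, c, rfl⟩
      rw [S.z_R]
      exact ⟨a, b, -c, rfl⟩
    have hτn : ∀ s ∈ S.R, τ * s * τ⁻¹ ∈ S.R := by
      rintro _ ⟨a, b, c, rfl⟩
      have hkτ : Commute τ (k ^ c) := Commute.zpow_right S.kτ.symm c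
      have h1 : τ * (x₁ ^ a * x₂ ^ b * k ^ c) * τ⁻¹ = (x₁ ^ a * x₂ ^ b)⁻¹ * k ^ c := by
        calc τ * (x₁ ^ a * x₂ ^ b * k ^ c) * τ⁻¹ = τ * (x₁ ^ a * x₂ ^ b) * τ⁻¹ * (τ * k ^ c * τ⁻¹) := by group
          _ = (x₁ ^ a * x₂ ^ b)⁻¹ * k ^ c := by rw [S.τ_P, hkτ.eq]; group
      rw [h1]
      exact S.R.mul_mem (S.R.inv_mem ⟨a, b, 0, by simp⟩) ⟨0, 0, c, by simp⟩
    have hq'n : q' = m * n' := by rw [hn']; group
    rcases hab with hab | hab | hab | hab
    · exact ⟨_, hr, 1, by rw [hq'n, hab, mul_one], one_mul 1, fun s hs => by simpa using hs⟩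
    · exact ⟨_, hr, z, by rw [hq'n, hab]; group, S.h₁.zz, hzn⟩
    · exact ⟨_, hr, τ, by rw [hq'n, hab]; group, S.h₁.ττ, hτn⟩
    · refine ⟨_, hr, z * τ, by rw [hq'n, hab]; group, S.h₁.zττ, ?_⟩
      intro s hs
      have := hzn _ (hτn s hs)
      convert this using 1
      group
  obtain ⟨r, hr, v, hrv, hvv, hvR⟩ := hfin
  have hτR : τ ∈ S.R := by
    have e : r * (v * r * v⁻¹) = τ := by
      calc r * (v * r * v⁻¹) = (r * v) * (r * v) * (v * v)⁻¹ := by group
        _ = τ := by rw [hvv, inv_one, mul_one, ← hrv, hq'q']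
    obtain ⟨a, b, c, habc⟩ := S.R.mul_mem hr (hvR r hr)
    rw [e] at habc
    exact ⟨a, b, c, habc⟩
  have hτ1 := eq_one_of_sq_cube S.h₁.ττ (S.R_cube hτR)
  have h1 := S.h₁.τx
  rw [hτ1] at h1
  have h2 : x₁ * x₁ = 1 := by
    have : x₁ = x₁⁻¹ := by simpa using h1
    nth_rewrite 1 [this]
    group
  exact S.h₁.x1 (eq_one_of_sq_cube h2 S.h₁.x3)

/-- elements of odd order of `C_G(P)` -/
theorem cent_P_odd {g : G} (h1 : g * x₁ = x₁ * g) (h2 : g * x₂ = x₂ * g) (ho : Odd (orderOf g)) : g ∈ S.R := by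
  rcases S.cent_P h1 h2 with h3 | ⟨r, hr, hg⟩
  · exact h3
  · exfalso
    obtain ⟨a, b, c, rfl⟩ := hr
    set p := x₁ ^ a * x₂ ^ b with hp
    have hpk : Commute p (k ^ c) :=
      ((show Commute x₁ k from S.kx1).zpow_zpow a c).mul_left ((show Commute x₂ k from S.kx2).zpow_zpow b c)
    have hgg : g * g = p * p := by
      have e1 := S.z_R (a := a) (b := b) (c := c)
      calc g * g = p * k ^ c * (z * (p * k ^ c) * z⁻¹) * (z * z) := by rw [hg]; group
        _ = p * k ^ c * (p * k ^ (-c)) := by rw [S.h₁.zz, mul_one, e1]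
        _ = p * (k ^ c * p) * k ^ (-c) := by group
        _ = p * (p * k ^ c) * k ^ (-c) := by rw [hpk.eq]
        _ = p * p := by group
    have hp3 : p ^ 3 = 1 := S.h₁.xy_cube a b
    have hg6 : g ^ 6 = 1 := by
      calc g ^ 6 = (g * g) ^ 3 := by rw [← pow_two, ← pow_mul]
        _ = (p ^ 2) ^ 3 := by rw [hgg, ← pow_two]
        _ = 1 := by rw [← pow_mul, mul_comm, pow_mul, hp3, one_pow]
    have hg3 : g ^ 3 = 1 := by
      have h3 : orderOf g ∣ 6 := orderOf_dvd_of_pow_eq_one hg6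
      have h4 : orderOf g ∣ 3 := by
        have h5 : (orderOf g).Coprime 2 := Nat.coprime_two_right.2 ho
        exact h5.dvd_of_dvd_mul_left (show orderOf g ∣ 2 * 3 from h3)
      exact orderOf_dvd_iff_pow_eq_one.1 h4
    have hgp : g = p := by
      have e1 : g = (g * g) * (g * g) := by
        have : g * g * (g * g) = g ^ 3 * g := by rw [pow_succ, pow_two]; group
        rw [this, hg3, one_mul]
      have e2 : p = (p * p) * (p * p) := by
        have : p * p * (p * p) = p ^ 3 * p := by rw [pow_succ, pow_two]; group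
        rw [this, hp3, one_mul]
      rw [e1, e2, hgg]
    have hz : z = k ^ (-c) := by
      rw [hgp] at hg
      have : k ^ c * z = 1 := by
        have h3 : p * (k ^ c * z) = p * 1 := by rw [mul_one, ← mul_assoc, ← hg]
        exact mul_left_cancel h3
      rw [zpow_neg]
      exact eq_inv_of_mul_eq_one_right this
    have hz3 : z ^ 3 = 1 := by rw [hz]; exact zpow_cube S.k3 (-c)
    exact S.h₁.z1 (eq_one_of_sq_cube S.h₁.zz hz3)

/-- `|K₂| = 27` as well. -/
theorem c2 : Nat.card (centralizerPPrimeCore 2 x₂) = 27 := by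
  have h0 := S.h₂.card_core
  set A := centralizerPPrimeCore 2 x₂ ⊓ Subgroup.centralizer ({τ} : Set G) with hA
  have hA9 : Nat.card A ∣ 9 := S.nine_τ A (fun a ha => mem_cent.1 ha.2)
    (Odd.of_dvd_nat (core_odd x₂) (Subgroup.card_dvd_of_le inf_le_left))
  have hA1 : Nat.card A ≠ 1 := by
    intro h1
    rw [Subgroup.card_eq_one] at h1
    have hkA : k ∈ A := ⟨S.k2, mem_cent.2 S.kτ⟩
    rw [h1] at hkA
    exact S.kne hkA
  have hcases : Nat.card A = 3 ∨ Nat.card A = 9 := by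
    have h3 : Nat.card A ∈ Nat.divisors 9 := Nat.mem_divisors.2 ⟨hA9, by norm_num⟩
    have h4 : Nat.divisors 9 = {1, 3, 9} := by decide
    rw [h4] at h3
    simp only [Finset.mem_insert, Finset.mem_singleton] at h3
    omega
  rcases hcases with h3 | h9
  · rw [h0, h3]; norm_num
  · exfalso
    rw [h9] at h0
    have hx21 : x₁ * x₂ = x₂ * x₁ := S.h₁.xy
    -- `u ^ 3 ∈ ⟨x₂⟩`
    have hcen : ∀ u ∈ centralizerPPrimeCore 2 x₂, ∀ n : ℤ, Commute u (x₂ ^ n) := fun u hu n =>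
      (show Commute u x₂ from core_comm hu).zpow_right n
    have hmul3 : ∀ u ∈ centralizerPPrimeCore 2 x₂, ∀ v ∈ centralizerPPrimeCore 2 x₂,
        (u * v) ^ 3 = u ^ 3 * v ^ 3 := by
      intro u hu v hv
      obtain ⟨n, hn⟩ := S.h₂.core_comm_mod hv hu
      set c := x₂ ^ n with hc
      have cu : Commute u c := hcen u hu n
      have cv : Commute v c := hcen v hv n
      have c3 : c * c * c = 1 := by
        have := zpow_cube S.h₂.x3 n
        rwa [pow_succ, pow_two] at this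
      have e1 : (u * v) ^ 3 = u * (v * u) * (v * u) * v := by rw [pow_succ, pow_two]; group
      have e2 : ∀ w : G, c * w = c * w := fun w => rfl
      calc (u * v) ^ 3 = u * (v * u) * (v * u) * v := e1
        _ = u * (u * v * c) * (u * v * c) * v := by rw [hn]
        _ = u * u * v * (c * u) * v * (c * v) := by group
        _ = u * u * v * (u * c) * v * (v * c) := by rw [cu.eq, cv.eq]
        _ = u * u * (v * u) * (c * v) * v * c := by group
        _ = u * u * (u * v * c) * (v * c) * v * c := by rw [hn, cv.eq]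
        _ = u * u * u * v * (c * v) * (c * v) * c := by group
        _ = u * u * u * v * (v * c) * (v * c) * c := by rw [cv.eq]
        _ = u * u * u * v * v * (c * v) * c * c := by group
        _ = u * u * u * v * v * (v * c) * c * c := by rw [cv.eq]
        _ = u * u * u * (v * v * v) * (c * c * c) := by group
        _ = u ^ 3 * v ^ 3 := by rw [c3, mul_one, pow_succ, pow_two, pow_succ, pow_two]
    let M' : Subgroup G :=
      { carrier := {u | u ∈ centralizerPPrimeCore 2 x₂ ∧ ∃ n : ℤ, u ^ 3 = x₂ ^ n}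
        one_mem' := ⟨Subgroup.one_mem _, 0, by simp⟩
        mul_mem' := by
          rintro u v ⟨hu, n, hn⟩ ⟨hv, m, hm⟩
          exact ⟨Subgroup.mul_mem _ hu hv, n + m, by rw [hmul3 u hu v hv, hn, hm, zpow_add]⟩
        inv_mem' := by
          rintro u ⟨hu, n, hn⟩
          exact ⟨Subgroup.inv_mem _ hu, -n, by rw [inv_pow, hn, zpow_neg]⟩ }
    have hKM : centralizerPPrimeCore 2 x₂ ≤ M' := by
      refine Cfsg.Agent.Lib.KleinGen.le_of_klein _ _ (core_odd x₂) z τ S.h₁.zz S.h₁.ττ S.h₁.zτ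
        (fun k hk => S.h₂.z_core hk) (fun k hk => S.h₂.τ_core hk) ?_ ?_ ?_
      · rintro u ⟨hu, huz⟩
        obtain ⟨n, hn⟩ := S.h₂.core_z hu (mem_cent.1 huz)
        refine ⟨hu, 0, ?_⟩
        have hn' : x₂ ^ n = u := hn
        rw [← hn', zpow_cube S.h₂.x3, zpow_zero]
      · rintro u ⟨hu, huz⟩
        exact ⟨hu, 0, by rw [S.cube_of_τ (mem_cent.1 huz) (core_odd_order hu), zpow_zero]⟩
      · rintro u ⟨hu, huz⟩
        exact ⟨hu, 0, by rw [S.toTwo.swap.cube_of_τ (mem_cent.1 huz) (core_odd_order hu), zpow_zero]⟩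
    have hmain := card_fix_mod (centralizerPPrimeCore 2 x₂) (Subgroup.zpowers x₂)
      (ThreeLocal.pGrp x₂ k S.kx2) (by rw [Subgroup.zpowers_le]; exact S.h₂.x_mem)
      (by
        rintro u hu _ ⟨n, rfl⟩
        refine ⟨n, ?_⟩
        show x₂ ^ n = u * x₂ ^ n * u⁻¹
        rw [(hcen u hu n).eq]; group)
      (by
        rintro u hu v hv
        obtain ⟨n, hn⟩ := S.h₂.core_comm_mod hu hv
        refine ⟨n, ?_⟩
        show x₂ ^ n = u * v * u⁻¹ * v⁻¹
        have c1 : Commute (v * u) (x₂ ^ n) := (hcen v hv n).mul_left (hcen u hu n)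
        calc x₂ ^ n = (x₂ ^ n * (v * u)) * (v * u)⁻¹ := by group
          _ = (v * u * x₂ ^ n) * (v * u)⁻¹ := by rw [c1.eq]
          _ = u * v * (v * u)⁻¹ := by rw [← hn]
          _ = u * v * u⁻¹ * v⁻¹ := by group)
      (by
        intro u hu
        obtain ⟨-, n, hn⟩ := hKM hu
        exact ⟨n, hn.symm⟩)
      x₁ S.h₁.x3 (fun u hu => core_conj_mem hx21 hu)
      (by
        rintro _ ⟨n, rfl⟩
        refine ⟨n, ?_⟩
        show x₂ ^ n = x₁ * x₂ ^ n * x₁⁻¹
        rw [((show Commute x₁ x₂ from S.h₁.xy).zpow_right n).eq]; group)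
      (by
        rintro u hu ⟨n, hn⟩
        have hn' : x₂ ^ n = x₁ * u * x₁⁻¹ * u⁻¹ := hn
        have hux : u * x₁ = x₁ * u := by
          apply half_le_cent S.h₂ hu
          refine ⟨-n, ?_⟩
          have c1 : Commute x₁ (x₂ ^ (-n)) := (show Commute x₁ x₂ from S.h₁.xy).zpow_right (-n)
          have c2 : Commute u (x₂ ^ (-n)) := hcen u hu (-n)
          calc u * x₁ * u⁻¹ = (x₁ * u * x₁⁻¹ * u⁻¹)⁻¹ * x₁ := by group
            _ = x₂ ^ (-n) * x₁ := by rw [← hn', zpow_neg]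
            _ = x₁ * x₂ ^ (-n) := c1.eq.symm
        obtain ⟨a, b, c, rfl⟩ := S.cent_P_odd hux (core_comm hu) (core_odd_order hu)
        have h1 : x₁ ^ a ∈ centralizerPPrimeCore 2 x₂ := by
          have e : x₁ ^ a = (x₁ ^ a * x₂ ^ b * k ^ c) * (x₂ ^ b * k ^ c)⁻¹ := by group
          rw [e]
          exact Subgroup.mul_mem _ hu (Subgroup.inv_mem _ (Subgroup.mul_mem _
            (Subgroup.zpow_mem _ S.h₂.x_mem b) (Subgroup.zpow_mem _ S.k2 c)))
        obtain ⟨m, hm⟩ := S.h₂.core_z h1 (((show Commute z x₁ from S.h₁.zx).zpow_right a).symm.eq)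
        have hm' : x₂ ^ m = x₁ ^ a := hm
        have h2 : x₁ ^ a = 1 := (S.toTwo.inter (a := a) (b := -m) (by rw [zpow_neg, hm', mul_inv_cancel])).1
        exact ⟨b, c, by rw [h2, one_mul]⟩)
    have hM9 : Nat.card (ThreeLocal.pGrp x₂ k S.kx2) ≤ 9 := by
      calc Nat.card (ThreeLocal.pGrp x₂ k S.kx2) ≤ Nat.card (Subgroup.zpowers x₂) * Nat.card (Subgroup.zpowers k) :=
          card_le_mul _ _ _ (by
            rintro _ ⟨a, b, rfl⟩
            exact ⟨_, Subgroup.zpow_mem_zpowers x₂ a, _, Subgroup.zpow_mem_zpowers k b, rfl⟩)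
        _ = 9 := by rw [card_zpowers_three S.h₂.x3 S.h₂.x1, card_zpowers_three S.k3 S.kne]
    rw [h0, card_zpowers_three S.h₂.x3 S.h₂.x1] at hmain
    have h5 := Nat.pow_le_pow_left hM9 3
    omega

theorem symm : Sit z τ x₂ x₁ Q₂ Q₁ k where
  toTwo := S.toTwo.symm
  c1 := S.c2
  k1 := S.k2
  kne := S.kne
  k3 := S.k3
  kτ := S.kτ
  kx1 := S.kx2
  kx2 := S.kx1

theorem R_symm {r : G} : r ∈ S.symm.R ↔ r ∈ S.R := by
  constructor
  · rintro ⟨a, b, c, rfl⟩
    exact ⟨b, a, c, by rw [S.h₁.xy_zpow]⟩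
  · rintro ⟨a, b, c, rfl⟩
    exact ⟨b, a, c, by rw [S.h₁.xy_zpow]⟩

/-- the type of `k` in `C_G(τ)` -/
theorem vwtype : ∃ g, g * z * g⁻¹ = τ ∧ ∃ a b : ℤ, x₁ ^ a ≠ 1 ∧ x₂ ^ b ≠ 1 ∧ g⁻¹ * k * g = x₁ ^ a * x₂ ^ b := by
  obtain ⟨g₀, hg₀, -⟩ := S.fuse
  obtain ⟨c, hcz, a, b, hab⟩ := S.syl (g₀⁻¹ * k * g₀) (by
    have hk := S.kτ
    rw [← hg₀] at hk
    calc g₀⁻¹ * k * g₀ * z = g₀⁻¹ * (k * (g₀ * z * g₀⁻¹)) * g₀ := by group
      _ = z * (g₀⁻¹ * k * g₀) := by rw [hk]; group) (by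
    have := (MulAut.conj g₀⁻¹).orderOf_eq k
    simp only [MulAut.conj_apply, inv_inv] at this
    rw [this, orderOf_eq_prime S.k3 S.kne]
    decide)
  have hg : g₀ * c⁻¹ * z * (g₀ * c⁻¹)⁻¹ = τ := by
    have : Commute c z := hcz
    calc g₀ * c⁻¹ * z * (g₀ * c⁻¹)⁻¹ = g₀ * (c⁻¹ * z) * c * g₀⁻¹ := by group
      _ = g₀ * (z * c⁻¹) * c * g₀⁻¹ := by rw [this.inv_left.eq]
      _ = τ := by rw [← hg₀]; group
  have hk : (g₀ * c⁻¹)⁻¹ * k * (g₀ * c⁻¹) = x₁ ^ a * x₂ ^ b := by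
    rw [← hab]; group
  refine ⟨g₀ * c⁻¹, hg, a, b, ?_, ?_, hk⟩
  · intro h1
    rw [h1, one_mul] at hk
    exact S.symm.not_x₁ hg b hk
  · intro h1
    rw [h1, mul_one] at hk
    exact S.not_x₁ hg a hk

omit [Finite G] S in
theorem eq_one_of_two_pow {x : G} (h3 : x ^ 3 = 1) {m : ℕ} (h2 : x ^ (2 ^ m) = 1) : x = 1 := by
  have h4 : orderOf x ∣ 2 ^ m := orderOf_dvd_of_pow_eq_one h2
  have h5 : orderOf x ∣ 3 := orderOf_dvd_of_pow_eq_one h3
  have h6 := Nat.eq_one_of_dvd_coprimes (Nat.Coprime.pow_right m (by decide : Nat.Coprime 3 2)) h5 h4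
  exact orderOf_eq_one_iff.1 h6

/-- `O(C_G(k))` -/
theorem exists_F : ∃ F : Subgroup G, Odd (Nat.card F) ∧ (∀ f, f ∈ F ↔ f * k = k * f ∧ Odd (orderOf f)) ∧
    (∀ g, g * k = k * g → ∀ f ∈ F, g * f * g⁻¹ ∈ F) := by
  obtain ⟨g, hg, a, b, ha, hb, hk⟩ := S.vwtype
  have hτ1 : τ ≠ 1 := by
    intro h1
    apply S.h₁.z1
    calc z = g⁻¹ * (g * z * g⁻¹) * g := by group
      _ = 1 := by rw [hg, h1]; group
  obtain ⟨F, hodd, hmem, -, hnor⟩ := exists_compl (Subgroup.centralizer ({k} : Set G)) (z := τ)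
    (mem_cent.2 S.kτ.symm) hτ1 S.h₁.ττ (by
      rintro t ht htτ ⟨m, hm⟩
      have htk := mem_cent.1 ht
      set! s := g⁻¹ * t * g with hs
      have hsz : s * z = z * s := by
        rw [← hg] at htτ
        calc s * z = g⁻¹ * (t * (g * z * g⁻¹)) * g := by rw [hs]; group
          _ = z * s := by rw [htτ, hs]; group
      have hsk : s * (x₁ ^ a * x₂ ^ b) = x₁ ^ a * x₂ ^ b * s := by
        rw [← hk]
        calc s * (g⁻¹ * k * g) = g⁻¹ * (t * k) * g := by rw [hs]; group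
          _ = g⁻¹ * k * g * s := by rw [htk, hs]; group
      have hsm : s ^ (2 ^ m) = 1 := by
        have := conj_pow (i := 2 ^ m) (a := g⁻¹) (b := t)
        rw [inv_inv, hm] at this
        rw [hs, this]; group
      have hts : t = g * s * g⁻¹ := by rw [hs]; group
      obtain ⟨c, d, hcd | hcd⟩ := S.vw a b ha hb s hsz hsk
      · left
        have h1 : s = 1 := eq_one_of_two_pow (by rw [hcd]; exact S.h₁.xy_cube c d) hsm
        rw [hts, h1]; group
      · right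
        have hcz : Commute (x₁ ^ c * x₂ ^ d) z := (S.z_P c d).symm
        have h1 : x₁ ^ c * x₂ ^ d = 1 := by
          refine eq_one_of_two_pow (S.h₁.xy_cube c d) (m := m + 1) ?_
          rw [hcd, hcz.mul_pow] at hsm
          have h2 : (x₁ ^ c * x₂ ^ d) ^ 2 ^ (m + 1) =
              ((x₁ ^ c * x₂ ^ d) ^ 2 ^ m * z ^ 2 ^ m) ^ 2 := by
            have hcc : Commute ((x₁ ^ c * x₂ ^ d) ^ 2 ^ m) (z ^ 2 ^ m) := hcz.pow_pow _ _
            rw [hcc.mul_pow, ← pow_mul, ← pow_mul, mul_comm (2 ^ m) 2, pow_mul z, pow_two z, S.h₁.zz, one_pow,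
              mul_one, pow_succ, mul_comm 2]
          rw [h2, hsm, one_pow]
        rw [hts, hcd, h1, one_mul, hg])
  refine ⟨F, hodd, ?_, ?_⟩
  · intro f
    rw [hmem, mem_cent]
  · intro g hg
    exact hnor g (mem_cent.2 hg)

/-- `k'`: generator of `C_K(z τ)`. -/
theorem exists_k' : ∃ k' ∈ centralizerPPrimeCore 2 x₁, k' * (z * τ) = z * τ * k' ∧ k' ^ 3 = 1 ∧ k' ≠ 1 ∧
    ¬ (k' * x₂ = x₂ * k') ∧ z * k' * z⁻¹ = k'⁻¹ := by
  have h0 := S.h₁.swap.card_core
  rw [S.c1] at h0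
  set A := centralizerPPrimeCore 2 x₁ ⊓ Subgroup.centralizer ({z * τ} : Set G) with hA
  have hA3 : Nat.card A ≠ 1 := by
    intro h1
    rw [h1] at h0
    omega
  have hne : A ≠ ⊥ := fun h1 => hA3 (by rw [h1, Subgroup.card_bot])
  obtain ⟨k', hk', hk'1⟩ : ∃ k' : G, k' ∈ A ∧ k' ≠ 1 := by
    by_contra hcon
    push Not at hcon
    exact hne (eq_bot_iff.2 (fun a ha => hcon a ha))
  have hc := mem_cent.1 hk'.2
  have h3 := S.toTwo.swap.cube_of_τ hc (core_odd_order hk'.1)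
  have hz := S.h₁.inv_of_zτ hk'.1 hc
  refine ⟨k', hk'.1, hc, h3, hk'1, ?_, hz⟩
  intro hx
  obtain ⟨a, c, hac⟩ := S.cent_x₂ hk'.1 hx
  -- `τ` inverts `k'` and maps it to `x₁^(-a) k^c`
  have h4 : τ * k' * τ⁻¹ = k'⁻¹ := by
    have e : τ * k' * τ⁻¹ = z⁻¹ * ((z * τ) * k' * (z * τ)⁻¹) * z := by group
    rw [e, ← hc, S.h₁.z_inv]
    calc z * (k' * (z * τ) * (z * τ)⁻¹) * z = z * k' * z := by group
      _ = z * k' * z⁻¹ := by rw [S.h₁.z_inv]
      _ = k'⁻¹ := hz
  have hkτ : Commute τ (k ^ c) := Commute.zpow_right S.kτ.symm c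
  have h5 : τ * k' * τ⁻¹ = x₁ ^ (-a) * k ^ c := by
    calc τ * k' * τ⁻¹ = τ * x₁ ^ a * τ⁻¹ * (τ * k ^ c * τ⁻¹) := by rw [hac]; group
      _ = x₁ ^ (-a) * k ^ c := by rw [← conj_zpow, S.h₁.τx, hkτ.eq]; group
  have hxk : Commute (x₁ ^ a) (k ^ c) := (show Commute x₁ k from S.kx1).zpow_zpow a c
  have h6 : k'⁻¹ = x₁ ^ (-a) * k ^ (-c) := by
    rw [hac, mul_inv_rev, ← hxk.inv_inv.eq, zpow_neg, zpow_neg]
  have h7 : k ^ c = k ^ (-c) := by
    rw [h4, h6] at h5
    exact (mul_left_cancel h5).symm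
  have h8 := S.k_of_sq h7
  rw [h8, mul_one] at hac
  -- now `k' = x₁^a` is centralised and inverted by `z`
  have h9 : z * k' * z⁻¹ = k' := by
    rw [hac, ((show Commute z x₁ from S.h₁.zx).zpow_right a).eq]; group
  rw [hz] at h9
  apply hk'1
  apply eq_one_of_sq_cube _ h3
  nth_rewrite 1 [← h9]
  group

omit [Finite G] in
theorem τ_norm_R : ∀ s ∈ S.R, τ * s * τ⁻¹ ∈ S.R := by
  rintro _ ⟨a, b, c, rfl⟩
  have hkτ : Commute τ (k ^ c) := Commute.zpow_right S.kτ.symm c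
  have h1 : τ * (x₁ ^ a * x₂ ^ b * k ^ c) * τ⁻¹ = (x₁ ^ a * x₂ ^ b)⁻¹ * k ^ c := by
    calc τ * (x₁ ^ a * x₂ ^ b * k ^ c) * τ⁻¹ = τ * (x₁ ^ a * x₂ ^ b) * τ⁻¹ * (τ * k ^ c * τ⁻¹) := by group
      _ = (x₁ ^ a * x₂ ^ b)⁻¹ * k ^ c := by rw [S.τ_P, hkτ.eq]; group
  rw [h1]
  exact S.R.mul_mem (S.R.inv_mem ⟨a, b, 0, by simp⟩) ⟨0, 0, c, by simp⟩

theorem z_norm_R : ∀ s ∈ S.R, z * s * z⁻¹ ∈ S.R := by
  rintro _ ⟨a, b, c, rfl⟩
  rw [S.z_R]
  exact ⟨a, b, -c, rfl⟩

/-- `N_G(R) ∩ C_G(z τ)`: elements of odd order commute. -/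
theorem comm_of_norm {s t : G} (hs : s * (z * τ) = z * τ * s) (ht : t * (z * τ) = z * τ * t)
    (hsR : ∀ r ∈ S.R, s * r * s⁻¹ ∈ S.R) (hsR' : ∀ r ∈ S.R, s⁻¹ * r * s ∈ S.R)
    (htR : ∀ r ∈ S.R, t * r * t⁻¹ ∈ S.R) (htR' : ∀ r ∈ S.R, t⁻¹ * r * t ∈ S.R)
    (hso : Odd (orderOf s)) (hto : Odd (orderOf t)) : s * t = t * s := by
  let B : Subgroup G :=
    { carrier := {b | b * (z * τ) = z * τ * b ∧ (∀ r ∈ S.R, b * r * b⁻¹ ∈ S.R) ∧ (∀ r ∈ S.R, b⁻¹ * r * b ∈ S.R)}
      one_mem' := ⟨by group, fun r hr => by simpa using hr, fun r hr => by simpa using hr⟩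
      mul_mem' := by
        rintro b c ⟨hb1, hb2, hb3⟩ ⟨hc1, hc2, hc3⟩
        refine ⟨by rw [mul_assoc, hc1, ← mul_assoc, hb1, mul_assoc], ?_, ?_⟩
        · intro r hr
          have := hb2 _ (hc2 r hr)
          convert this using 1
          group
        · intro r hr
          have := hc3 _ (hb3 r hr)
          convert this using 1
          group
      inv_mem' := by
        rintro b ⟨hb1, hb2, hb3⟩
        refine ⟨(Commute.inv_left (show Commute b (z * τ) from hb1)).eq, ?_, ?_⟩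
        · intro r hr
          have := hb3 r hr
          rwa [inv_inv]
        · intro r hr
          have := hb2 r hr
          rwa [inv_inv] }
  have hzzτ : Commute z (z * τ) := (Commute.refl z).mul_right (show Commute z τ from S.h₁.zτ)
  have hzB : z ∈ B := by
    refine ⟨hzzτ.eq, S.z_norm_R, ?_⟩
    intro r hr
    have := S.z_norm_R r hr
    rwa [S.h₁.z_inv] at this ⊢
  have hτR' := S.τ_norm_R
  have htB : z * τ ∈ B := by
    have h1 : ∀ r ∈ S.R, z * τ * r * (z * τ)⁻¹ ∈ S.R := by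
      intro r hr
      have := S.z_norm_R _ (hτR' r hr)
      convert this using 1
      group
    refine ⟨rfl, h1, ?_⟩
    intro r hr
    have h2 : (z * τ)⁻¹ = z * τ := inv_eq_of_mul_eq_one_right S.h₁.zττ
    have := h1 r hr
    rwa [h2] at this ⊢
  have hτne : τ ≠ 1 := by
    intro h1
    have h2 := S.h₁.τx
    rw [h1] at h2
    apply S.h₁.x1
    apply eq_one_of_sq_cube _ S.h₁.x3
    have : x₁ = x₁⁻¹ := by simpa using h2
    nth_rewrite 1 [this]
    group
  have e1 : z * (z * τ) = τ := by rw [← mul_assoc, S.h₁.zz, one_mul]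
  refine (inverted B hzB htB S.h₁.z1 ?_ S.h₁.zz S.h₁.zττ (fun b hb => hb.1) ?_ ?_ (b := s) (c := t)
    ⟨hs, hsR, hsR'⟩ ⟨ht, htR, htR'⟩ hso hto).2
  · intro h1
    apply hτne
    have : z * 1 = z * τ := by rw [mul_one]; exact h1
    exact (mul_left_cancel this).symm
  · rintro b ⟨hb1, hb2, hb3⟩ hbz
    rw [e1]
    have hbP : ∀ x ∈ S.R, x * z = z * x → ∃ c d : ℤ, b * x * b⁻¹ = x₁ ^ c * x₂ ^ d := by
      intro x hx hxz
      apply S.R_z (hb2 x hx)
      have c1 : Commute b z := hbz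
      have c2 : Commute x z := hxz
      exact ((c1.mul_left c2).mul_left c1.inv_left).eq
    obtain ⟨c, d, hcd⟩ := S.nor b hbz (hbP x₁ S.x₁_R S.h₁.zx.symm) (hbP x₂ S.x₂_R S.h₂.zx.symm)
    -- `b = p w` with `p` commuting with `z τ`
    have hp : ∀ w : G, Commute w (z * τ) → b = x₁ ^ c * x₂ ^ d * w → x₁ ^ c * x₂ ^ d = 1 := by
      intro w hw hbw
      have h1 : Commute (x₁ ^ c * x₂ ^ d) (z * τ) := by
        have e : x₁ ^ c * x₂ ^ d = b * w⁻¹ := by rw [hbw]; group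
        rw [e]
        exact (show Commute b (z * τ) from hb1).mul_left hw.inv_left
      have h2 := S.toTwo.swap.h₁.τx
      have h3 : (z * τ) * (x₁ ^ c * x₂ ^ d) * (z * τ)⁻¹ = (x₁ ^ c * x₂ ^ d)⁻¹ := by
        calc (z * τ) * (x₁ ^ c * x₂ ^ d) * (z * τ)⁻¹ = z * (τ * (x₁ ^ c * x₂ ^ d) * τ⁻¹) * z⁻¹ := by group
          _ = z * (x₁ ^ c * x₂ ^ d)⁻¹ * z⁻¹ := by rw [S.τ_P]
          _ = (z * (x₁ ^ c * x₂ ^ d) * z⁻¹)⁻¹ := by group
          _ = (x₁ ^ c * x₂ ^ d)⁻¹ := by rw [S.z_P]; group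
      rw [← h1.eq, mul_inv_cancel_right] at h3
      apply eq_one_of_sq_cube _ (S.h₁.xy_cube c d)
      nth_rewrite 1 [h3]
      group
    have cτ : Commute τ (z * τ) := (show Commute τ z from S.h₁.zτ.symm).mul_right (Commute.refl τ)
    rcases hcd with hcd | hcd | hcd | hcd
    · left
      rw [hcd]
      exact hp 1 (Commute.one_left _) (by rw [hcd, mul_one])
    · right; left
      rw [hcd, hp z hzzτ hcd, one_mul]
    · right; right; right
      rw [hcd, hp τ cτ hcd, one_mul]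
    · right; right; left
      rw [hcd, hp (z * τ) (Commute.refl _) hcd, one_mul]
  · rintro b ⟨hb1, hb2, hb3⟩ hbz
    rw [e1] at hbz
    -- `b x b⁻¹ ∈ ⟨k⟩` for `x ∈ P`
    have hbk : ∀ x ∈ S.R, x * z = z * x → ∃ c : ℤ, b * x * b⁻¹ = k ^ c := by
      intro x hx hxz
      apply S.R_τ (hb2 x hx)
      rw [← hbz]
      calc b * z * b⁻¹ * (b * x * b⁻¹) * (b * z * b⁻¹)⁻¹ = b * (z * x) * z⁻¹ * b⁻¹ := by group
        _ = b * x * b⁻¹ := by rw [← hxz]; group
    obtain ⟨c, hc⟩ := hbk x₁ S.x₁_R S.h₁.zx.symm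
    obtain ⟨d, hd⟩ := hbk x₂ S.x₂_R S.h₂.zx.symm
    apply S.toTwo.x₂_not
    have hc1 : k ^ c ≠ 1 := by
      intro h1
      apply S.h₁.x1
      calc x₁ = b⁻¹ * (b * x₁ * b⁻¹) * b := by group
        _ = 1 := by rw [hc, h1]; group
    have hkc : ∃ n : ℤ, k ^ d = (k ^ c) ^ n := by
      rcases zpow_three_cases S.k3 c with h1 | h1 | h1
      · exact absurd h1 hc1
      · exact ⟨d, by rw [h1]⟩
      · exact ⟨-d, by rw [h1]; group⟩
    obtain ⟨n, hn⟩ := hkc
    refine ⟨n, ?_⟩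
    show x₁ ^ n = x₂
    have h1 : b * x₂ * b⁻¹ = b * x₁ ^ n * b⁻¹ := by
      rw [hd, hn, ← hc, conj_zpow]
    calc x₁ ^ n = b⁻¹ * (b * x₁ ^ n * b⁻¹) * b := by group
      _ = x₂ := by rw [← h1]; group

/-- `k` commutes with `k'`. -/
theorem k_comm {k' k'' : G} (h1 : k' ∈ centralizerPPrimeCore 2 x₁) (h2 : ¬ (k' * x₂ = x₂ * k'))
    (h3 : z * k' * z⁻¹ = k'⁻¹) (g1 : k'' ∈ centralizerPPrimeCore 2 x₂) (g2 : ¬ (k'' * x₁ = x₁ * k''))
    (hc : k' * k'' = k'' * k') : k * k' = k' * k := by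
  by_contra hne
  set! X := k'' * x₁ * k''⁻¹ * x₁⁻¹ with hX
  have hXR : X ∈ S.R := by
    have e1 : k'' * x₁ * k''⁻¹ ∈ S.symm.R := S.symm.norm_R g1 x₁ (S.R_symm.2 S.x₁_R)
    exact S.R.mul_mem (S.R_symm.1 e1) (S.R.inv_mem S.x₁_R)
  have hXk' : Commute X k' := by
    have c1 : Commute k'' k' := hc.symm
    have c2 : Commute x₁ k' := (core_comm h1).symm
    exact ((c1.mul_left c2).mul_left c1.inv_left).mul_left c2.inv_left
  have hXK : X ∈ centralizerPPrimeCore 2 x₂ := by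
    have h4 := core_conj_mem (y := x₁) S.h₁.xy (Subgroup.inv_mem _ g1)
    have e : X = k'' * (x₁ * k''⁻¹ * x₁⁻¹) := by rw [hX]; group
    rw [e]
    exact Subgroup.mul_mem _ g1 h4
  obtain ⟨a, b, c, habc⟩ := hXR
  set p := x₁ ^ a * x₂ ^ b with hp
  have hpk : Commute p (k ^ c) :=
    ((show Commute x₁ k from S.kx1).zpow_zpow a c).mul_left ((show Commute x₂ k from S.kx2).zpow_zpow b c)
  have hp3 : p ^ 3 = 1 := S.h₁.xy_cube a b
  -- `z X z⁻¹` commutes with `k'`
  have hzX : Commute (z * X * z⁻¹) k' := by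
    have h4 : z * X * z⁻¹ * (z * k' * z⁻¹) = z * k' * z⁻¹ * (z * X * z⁻¹) := by
      calc z * X * z⁻¹ * (z * k' * z⁻¹) = z * (X * k') * z⁻¹ := by group
        _ = z * k' * z⁻¹ * (z * X * z⁻¹) := by rw [hXk'.eq]; group
    rw [h3] at h4
    have h5 : Commute (z * X * z⁻¹) k'⁻¹ := h4
    simpa only [_root_.inv_inv] using h5.inv_right
  have hpp : Commute (p * p) k' := by
    have e : p * p = X * (z * X * z⁻¹) := by
      have e1 := S.z_R (a := a) (b := b) (c := c)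
      rw [habc, e1]
      calc p * p = p * (p * k ^ c) * k ^ (-c) := by group
        _ = p * (k ^ c * p) * k ^ (-c) := by rw [hpk.eq]
        _ = p * k ^ c * (p * k ^ (-c)) := by group
    rw [e]
    exact hXk'.mul_left hzX
  have hpk' : Commute p k' := by
    have e : p = (p * p) * (p * p) := by
      have : p * p * (p * p) = p ^ 3 * p := by rw [pow_succ, pow_two]; group
      rw [this, hp3, one_mul]
    rw [e]
    exact hpp.mul_left hpp
  have hx2 : x₂ ^ b = 1 := by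
    have c1 : Commute (x₂ ^ b) k' := by
      have e : x₂ ^ b = (x₁ ^ a)⁻¹ * p := by rw [hp]; group
      rw [e]
      exact (((show Commute x₁ k' from (core_comm h1).symm).zpow_left a).inv_left).mul_left hpk'
    rcases zpow_three_cases S.h₂.x3 b with h4 | h4 | h4
    · exact h4
    · rw [h4] at c1; exact absurd c1.symm.eq h2
    · rw [h4] at c1
      exact absurd (by simpa only [_root_.inv_inv] using c1.inv_left.symm.eq) h2
  have hkc : k ^ c = 1 := by
    have c1 : Commute (k ^ c) k' := by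
      have e : k ^ c = p⁻¹ * X := by rw [habc]; group
      rw [e]
      exact hpk'.inv_left.mul_left hXk'
    rcases zpow_three_cases S.k3 c with h4 | h4 | h4
    · exact h4
    · rw [h4] at c1; exact absurd c1.eq hne
    · rw [h4] at c1
      exact absurd (by simpa using c1.inv_left.eq) hne
  have hX1 : X = x₁ ^ a := by rw [habc, hkc, mul_one, hp, hx2, mul_one]
  have hX2 : X = 1 := by
    obtain ⟨m, hm⟩ := S.h₂.core_z hXK (by
      rw [hX1]; exact ((show Commute z x₁ from S.h₁.zx).zpow_right a).symm.eq)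
    have hm' : x₂ ^ m = X := hm
    rw [hX1]
    exact (S.toTwo.inter (a := a) (b := -m) (by rw [zpow_neg, hm', hX1, mul_inv_cancel])).1
  apply g2
  exact mul_inv_eq_iff_eq_mul.1 (mul_inv_eq_one.1 hX2)

/-- `[k', x₂] ∈ ⟨k⟩` -/
theorem k'_x₂ {k' : G} (h1 : k' ∈ centralizerPPrimeCore 2 x₁) (h3 : z * k' * z⁻¹ = k'⁻¹) (hkk' : k * k' = k' * k) :
    ∃ c : ℤ, k' * x₂ * k'⁻¹ = x₂ * k ^ c := by
  obtain ⟨a, b, c, habc⟩ := S.norm_R h1 x₂ S.x₂_R
  have cx2 : Commute x₂ x₁ := S.h₁.xy.symm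
  -- `x₂^(b-1) ∈ K`
  have hb : x₂ ^ (b - 1) = 1 := by
    have h4 : x₂ ^ (b - 1) ∈ centralizerPPrimeCore 2 x₁ := by
      have h5 : x₂⁻¹ * k' * x₂ * k'⁻¹ ∈ centralizerPPrimeCore 2 x₁ := by
        have := core_conj_mem (y := x₂⁻¹) cx2.inv_left.eq h1
        rw [inv_inv] at this
        exact Subgroup.mul_mem _ this (Subgroup.inv_mem _ h1)
      have e : x₂ ^ (b - 1) = (x₂⁻¹ * k' * x₂ * k'⁻¹) * (k ^ c)⁻¹ * (x₁ ^ a)⁻¹ := by
        have e1 : x₂⁻¹ * k' * x₂ * k'⁻¹ = x₂⁻¹ * (x₁ ^ a * x₂ ^ b * k ^ c) := by rw [← habc]; group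
        have e2 : Commute (x₁ ^ a) (x₂ ^ b) := (show Commute x₁ x₂ from S.h₁.xy).zpow_zpow a b
        rw [e1, e2.eq, sub_eq_add_neg, add_comm, zpow_add]; group
      rw [e]
      exact Subgroup.mul_mem _ (Subgroup.mul_mem _ h5 (Subgroup.inv_mem _ (Subgroup.zpow_mem _ S.k1 c)))
        (Subgroup.inv_mem _ (Subgroup.zpow_mem _ S.h₁.x_mem a))
    obtain ⟨m, hm⟩ := S.h₁.core_z h4 (((show Commute z x₂ from S.h₂.zx).zpow_right (b - 1)).symm.eq)
    have hm' : x₁ ^ m = x₂ ^ (b - 1) := hm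
    exact (S.toTwo.inter (a := m) (b := -(b - 1)) (by rw [zpow_neg, hm', mul_inv_cancel])).2 |> (fun h => by
      rw [zpow_neg, inv_eq_one] at h; exact h)
  have hb' : x₂ ^ b = x₂ := by
    calc x₂ ^ b = x₂ ^ (b - 1) * x₂ := by group
      _ = x₂ := by rw [hb, one_mul]
  rw [hb'] at habc
  -- `k' x₂ k'⁻¹ = x₁^a x₂ k^c`
  have ck1 : Commute k' (x₁ ^ a) := (show Commute k' x₁ from core_comm h1).zpow_right a
  have ck2 : Commute k' (k ^ c) := (show Commute k' k from hkk'.symm).zpow_right c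
  have e1 : k'⁻¹ * x₂ * k' = x₁ ^ (-a) * x₂ * k ^ (-c) := by
    have e2 : x₂ = x₁ ^ a * (k'⁻¹ * x₂ * k') * k ^ c := by
      calc x₂ = k'⁻¹ * (k' * x₂ * k'⁻¹) * k' := by group
        _ = (k'⁻¹ * x₁ ^ a) * x₂ * (k ^ c * k') := by rw [habc]; group
        _ = (x₁ ^ a * k'⁻¹) * x₂ * (k' * k ^ c) := by rw [ck1.inv_left.eq, ck2.eq]
        _ = x₁ ^ a * (k'⁻¹ * x₂ * k') * k ^ c := by group
    calc k'⁻¹ * x₂ * k' = x₁ ^ (-a) * (x₁ ^ a * (k'⁻¹ * x₂ * k') * k ^ c) * k ^ (-c) := by group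
      _ = x₁ ^ (-a) * x₂ * k ^ (-c) := by rw [← e2]
  have e3 : k'⁻¹ * x₂ * k' = x₁ ^ a * x₂ * k ^ (-c) := by
    have e4 : z * (k' * x₂ * k'⁻¹) * z⁻¹ = k'⁻¹ * x₂ * k' := by
      have hzx : z * x₂ * z⁻¹ = x₂ := by rw [S.h₂.zx]; group
      calc z * (k' * x₂ * k'⁻¹) * z⁻¹ = (z * k' * z⁻¹) * (z * x₂ * z⁻¹) * (z * k' * z⁻¹)⁻¹ := by group
        _ = k'⁻¹ * x₂ * k' := by rw [h3, hzx, inv_inv]
    rw [← e4, habc]
    have := S.z_R (a := a) (b := 1) (c := c)
    rw [zpow_one] at this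
    exact this
  have e5 : x₁ ^ (-a) = x₁ ^ a := by
    rw [e1] at e3
    exact mul_right_cancel (mul_right_cancel e3)
  have e6 : x₁ ^ a = 1 := by
    apply eq_one_of_sq_cube _ (zpow_cube S.h₁.x3 a)
    nth_rewrite 1 [← e5]
    group
  refine ⟨c, ?_⟩
  rw [habc, e6, one_mul]

end Sit

/-- cubes of products in groups of class two -/
theorem mul_cube {G : Type*} [Group G] {u v c : G} (hn : v * u = u * v * c) (cu : Commute u c) (cv : Commute v c)
    (c3 : c ^ 3 = 1) : (u * v) ^ 3 = u ^ 3 * v ^ 3 := by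
  have c3' : c * c * c = 1 := by rwa [pow_succ, pow_two] at c3
  calc (u * v) ^ 3 = u * (v * u) * (v * u) * v := by rw [pow_succ, pow_two]; group
    _ = u * (u * v * c) * (u * v * c) * v := by rw [hn]
    _ = u * u * v * (c * u) * v * (c * v) := by group
    _ = u * u * v * (u * c) * v * (v * c) := by rw [cu.eq, cv.eq]
    _ = u * u * (v * u) * (c * v) * v * c := by group
    _ = u * u * (u * v * c) * (v * c) * v * c := by rw [hn, cv.eq]
    _ = u * u * u * v * (c * v) * (c * v) * c := by group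
    _ = u * u * u * v * (v * c) * (v * c) * c := by rw [cv.eq]
    _ = u * u * u * v * v * (c * v) * c * c := by group
    _ = u * u * u * v * v * (v * c) * c * c := by rw [cv.eq]
    _ = u * u * u * (v * v * v) * (c * c * c) := by group
    _ = u ^ 3 * v ^ 3 := by rw [c3', mul_one, pow_succ, pow_two, pow_succ, pow_two]

open ThreeLocal (kGrp pGrp)

theorem kGrp_symm {G : Type*} [Group G] {ρ u v : G} (hu : u ∈ kGrp ρ v) (hv : v * ρ = ρ * v) : v ∈ kGrp ρ u := by
  obtain ⟨hu1, n, hn⟩ := hu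
  refine ⟨hv, -n, ?_⟩
  have cu : Commute u (ρ ^ n) := (show Commute u ρ from hu1).zpow_right n
  have cv : Commute v (ρ ^ n) := (show Commute v ρ from hv).zpow_right n
  -- `u v = v ρ^n u`
  have e1 : u * v = v * ρ ^ n * u := by rw [← hn]; group
  calc v * u * v⁻¹ = (v * ρ ^ n * u) * v⁻¹ * ρ ^ (-n) := by
        have e2 : v * ρ ^ n * u * v⁻¹ = v * u * v⁻¹ * ρ ^ n := by
          calc v * ρ ^ n * u * v⁻¹ = v * (ρ ^ n * u) * v⁻¹ := by group
            _ = v * u * (ρ ^ n * v⁻¹) := by rw [← cu.eq]; group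
            _ = v * u * v⁻¹ * ρ ^ n := by rw [← cv.inv_left.eq]; group
        rw [e2, mul_assoc (v * u * v⁻¹), ← zpow_add, add_neg_cancel, zpow_zero, mul_one]
    _ = u * ρ ^ (-n) := by rw [← e1]; group

theorem kGrp_conj {G : Type*} [Group G] {s ρ c u : G} (hρ : s * ρ * s⁻¹ = ρ ∨ s * ρ * s⁻¹ = ρ⁻¹)
    (hc : s * c * s⁻¹ = c ∨ s * c * s⁻¹ = c⁻¹) (hρc : ρ * c = c * ρ) (hu : u ∈ kGrp ρ c) :
    s * u * s⁻¹ ∈ kGrp ρ c := by
  obtain ⟨hu1, n, hn⟩ := hu
  have cu : Commute u ρ := hu1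
  have hcρ : ∀ m : ℤ, Commute c (ρ ^ m) := fun m => (show Commute c ρ from hρc.symm).zpow_right m
  have h1 : Commute (s * u * s⁻¹) (s * ρ * s⁻¹) := by
    show s * u * s⁻¹ * (s * ρ * s⁻¹) = s * ρ * s⁻¹ * (s * u * s⁻¹)
    calc s * u * s⁻¹ * (s * ρ * s⁻¹) = s * (u * ρ) * s⁻¹ := by group
      _ = s * ρ * s⁻¹ * (s * u * s⁻¹) := by rw [hu1]; group
  have h2 : Commute (s * u * s⁻¹) ρ := by
    rcases hρ with h | h
    · rwa [h] at h1
    · rw [h] at h1; simpa only [_root_.inv_inv] using h1.inv_right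
  have h3 : ∀ m : ℤ, ∃ m' : ℤ, s * ρ ^ m * s⁻¹ = ρ ^ m' := by
    intro m
    rcases hρ with h | h
    · exact ⟨m, by rw [← conj_zpow, h]⟩
    · exact ⟨-m, by rw [← conj_zpow, h, inv_zpow, zpow_neg]⟩
  refine ⟨h2.eq, ?_⟩
  -- `(s u s⁻¹) (s c s⁻¹) (s u s⁻¹)⁻¹ = (s c s⁻¹) ρ^m'`
  obtain ⟨m', hm'⟩ := h3 n
  have e1 : s * u * s⁻¹ * (s * c * s⁻¹) * (s * u * s⁻¹)⁻¹ = s * c * s⁻¹ * ρ ^ m' := by
    calc s * u * s⁻¹ * (s * c * s⁻¹) * (s * u * s⁻¹)⁻¹ = s * (u * c * u⁻¹) * s⁻¹ := by group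
      _ = s * c * s⁻¹ * (s * ρ ^ n * s⁻¹) := by rw [hn]; group
      _ = s * c * s⁻¹ * ρ ^ m' := by rw [hm']
  rcases hc with h | h
  · rw [h] at e1
    exact ⟨m', e1⟩
  · rw [h] at e1
    refine ⟨-m', ?_⟩
    calc s * u * s⁻¹ * c * (s * u * s⁻¹)⁻¹ = (s * u * s⁻¹ * c⁻¹ * (s * u * s⁻¹)⁻¹)⁻¹ := by group
      _ = ρ ^ (-m') * c := by rw [e1]; group
      _ = c * ρ ^ (-m') := (hcρ (-m')).eq.symm

/-- commuting involutions `s`, `t` without common fixed points in `F`: `s` inverts `C_F(t)`. -/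
theorem inv_of_comm {G : Type*} [Group G] (F : Subgroup G) (hodd : Odd (Nat.card F)) {s t : G}
    (hs : s * s = 1) (hst : s * t = t * s) (hsF : ∀ f ∈ F, s * f * s⁻¹ ∈ F)
    (hV : ∀ f ∈ F, f * s = s * f → f * t = t * f → f = 1) {f : G} (hf : f ∈ F) (hft : f * t = t * f) :
    s * f * s⁻¹ = f⁻¹ := by
  set! A := F ⊓ Subgroup.centralizer ({t} : Set G) with hA
  have hAodd : Odd (Nat.card A) := Odd.of_dvd_nat hodd (Subgroup.card_dvd_of_le inf_le_left)
  have hsA : ∀ a ∈ A, s * a * s⁻¹ ∈ A := by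
    rintro a ⟨ha1, ha2⟩
    refine ⟨hsF a ha1, mem_cent.2 ?_⟩
    have c1 : Commute a t := mem_cent.1 ha2
    have c2 : Commute s t := hst
    exact ((c2.mul_left c1).mul_left c2.inv_left).eq
  obtain ⟨c, hc, m, hm, hzc, hzm, hkcm⟩ :=
    Cfsg.Agent.Lib.KleinGen.exists_centralizer_mul_inverted A hAodd s hs hsA (h := f) ⟨hf, mem_cent.2 hft⟩
  have hc1 : c = 1 := hV c hc.1 hzc.symm (mem_cent.1 hc.2)
  rw [hkcm, hc1, one_mul]
  exact hzm

/-- `|C_K(τ)| = 3` is impossible. -/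
theorem Sit.false {G : Type*} [Group G] [Finite G] {z τ x₁ x₂ k : G} {Q₁ Q₂ : Subgroup G}
    (S : Sit z τ x₁ x₂ Q₁ Q₂ k) : False := by
  classical
  obtain ⟨F, hFodd, hFmem, hFnor⟩ := S.exists_F
  obtain ⟨g, hg, a, b, ha, hb, hgk⟩ := S.vwtype
  obtain ⟨k', p1, p2, p3, p4, p5, p6⟩ := S.exists_k'
  obtain ⟨k'', q1, q2, q3, q4, q5, q6⟩ := S.symm.exists_k'
  have hodd3 : ∀ x : G, x ^ 3 = 1 → Odd (orderOf x) := by
    intro x hx
    exact Odd.of_dvd_nat (by decide : Odd 3) (orderOf_dvd_of_pow_eq_one hx)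
  have hcc : k' * k'' = k'' * k' := by
    refine S.comm_of_norm p2 q2 (S.norm_R p1) ?_ ?_ ?_ (core_odd_order p1) (core_odd_order q1)
    · intro r hr
      have := S.norm_R (Subgroup.inv_mem _ p1) r hr
      rwa [inv_inv] at this
    · intro r hr
      exact S.R_symm.1 (S.symm.norm_R q1 r (S.R_symm.2 hr))
    · intro r hr
      have := S.R_symm.1 (S.symm.norm_R (Subgroup.inv_mem _ q1) r (S.R_symm.2 hr))
      rwa [inv_inv] at this
  have hkk' : k * k' = k' * k := S.k_comm p1 p5 p6 q1 q5 hcc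
  have hkk'' : k * k'' = k'' * k := S.symm.k_comm q1 q5 q6 p1 p5 hcc.symm
  obtain ⟨c', hc'⟩ := S.k'_x₂ p1 p6 hkk'
  obtain ⟨c'', hc''⟩ := S.symm.k'_x₂ q1 q6 hkk''
  -- `V` acts on `F`
  have hzz := S.h₁.zz
  have hττ := S.h₁.ττ
  have hzτ := S.h₁.zτ
  have hzF : ∀ f ∈ F, z * f * z⁻¹ ∈ F := by
    intro f hf
    obtain ⟨h1, h2⟩ := (hFmem f).1 hf
    refine (hFmem _).2 ⟨?_, ?_⟩
    · have h3 : Commute (z * f * z⁻¹) (z * k * z⁻¹) := by
        show z * f * z⁻¹ * (z * k * z⁻¹) = z * k * z⁻¹ * (z * f * z⁻¹)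
        calc z * f * z⁻¹ * (z * k * z⁻¹) = z * (f * k) * z⁻¹ := by group
          _ = z * k * z⁻¹ * (z * f * z⁻¹) := by rw [h1]; group
      rw [S.kz] at h3
      simpa only [_root_.inv_inv] using h3.inv_right.eq
    · have := (MulAut.conj z).orderOf_eq f
      simp only [MulAut.conj_apply] at this
      rwa [this]
  have hτF : ∀ f ∈ F, τ * f * τ⁻¹ ∈ F := hFnor τ S.kτ.symm
  have hzτF : ∀ f ∈ F, (z * τ) * f * (z * τ)⁻¹ ∈ F := by
    intro f hf
    have := hzF _ (hτF f hf)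
    convert this using 1
    group
  have hV : ∀ f ∈ F, f * z = z * f → f * τ = τ * f → f = 1 := fun f hf h1 h2 =>
    S.vcent f h1 h2 ((hFmem f).1 hf).2
  have hV2 : ∀ f ∈ F, f * z = z * f → f * (z * τ) = z * τ * f → f = 1 := by
    intro f hf h1 h2
    refine hV f hf h1 ?_
    have c1 : Commute f z := h1
    have c2 : Commute f (z * τ) := h2
    have : Commute f (z⁻¹ * (z * τ)) := c1.inv_right.mul_right c2
    rw [inv_mul_cancel_left] at this
    exact this.eq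
  have hV3 : ∀ f ∈ F, f * τ = τ * f → f * (z * τ) = z * τ * f → f = 1 := by
    intro f hf h1 h2
    refine hV f hf ?_ h1
    have c1 : Commute f τ := h1
    have c2 : Commute f (z * τ) := h2
    have : Commute f (z * τ * τ⁻¹) := c2.mul_right c1.inv_right
    rw [mul_inv_cancel_right] at this
    exact this.eq
  have i1 : ∀ f ∈ F, f * τ = τ * f → z * f * z⁻¹ = f⁻¹ := fun f hf h1 =>
    inv_of_comm F hFodd hzz hzτ hzF (fun f hf h1 h2 => hV f hf h1 h2) hf h1
  have i2 : ∀ f ∈ F, f * z = z * f → τ * f * τ⁻¹ = f⁻¹ := fun f hf h1 =>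
    inv_of_comm F hFodd hττ hzτ.symm hτF (fun f hf h1 h2 => hV f hf h2 h1) hf h1
  have cτzτ : τ * (z * τ) = z * τ * τ := by rw [← mul_assoc, ← hzτ]
  have i3 : ∀ f ∈ F, f * (z * τ) = z * τ * f → τ * f * τ⁻¹ = f⁻¹ := fun f hf h1 =>
    inv_of_comm F hFodd hττ cτzτ hτF (fun f hf h1 h2 => hV3 f hf h1 h2) hf h1
  -- members of `F`
  have m1 : x₁ ∈ F := (hFmem _).2 ⟨S.kx1, hodd3 _ S.h₁.x3⟩
  have m2 : x₂ ∈ F := (hFmem _).2 ⟨S.kx2, hodd3 _ S.h₂.x3⟩
  have m3 : k ∈ F := (hFmem _).2 ⟨rfl, hodd3 _ S.k3⟩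
  have m4 : k' ∈ F := (hFmem _).2 ⟨hkk'.symm, hodd3 _ p3⟩
  have m5 : k'' ∈ F := (hFmem _).2 ⟨hkk''.symm, hodd3 _ q3⟩
  have hkg : k = g * (x₁ ^ a * x₂ ^ b) * g⁻¹ := by rw [← hgk]; group
  have hxg : ∀ c d : ℤ, g * (x₁ ^ c * x₂ ^ d) * g⁻¹ ∈ F := by
    intro c d
    refine (hFmem _).2 ⟨?_, ?_⟩
    · have c1 : Commute (x₁ ^ c * x₂ ^ d) (x₁ ^ a * x₂ ^ b) :=
        ThreeLocal.pGrp_comm (h := S.h₁.xy) ⟨c, d, rfl⟩ ⟨a, b, rfl⟩
      rw [hkg]
      calc g * (x₁ ^ c * x₂ ^ d) * g⁻¹ * (g * (x₁ ^ a * x₂ ^ b) * g⁻¹)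
          = g * (x₁ ^ c * x₂ ^ d * (x₁ ^ a * x₂ ^ b)) * g⁻¹ := by group
        _ = g * (x₁ ^ a * x₂ ^ b) * g⁻¹ * (g * (x₁ ^ c * x₂ ^ d) * g⁻¹) := by rw [c1.eq]; group
    · apply hodd3
      rw [conj_pow, S.h₁.xy_cube]; group
  have hτg : ∀ w : G, w * z = z * w → g * w * g⁻¹ * τ = τ * (g * w * g⁻¹) := by
    intro w hw
    rw [← hg]
    calc g * w * g⁻¹ * (g * z * g⁻¹) = g * (w * z) * g⁻¹ := by group
      _ = g * z * g⁻¹ * (g * w * g⁻¹) := by rw [hw]; group
  -- orders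
  have hsub : ∀ A : Subgroup G, A ≤ F → Odd (Nat.card A) := fun A hA =>
    Odd.of_dvd_nat hFodd (Subgroup.card_dvd_of_le hA)
  have hcz9 : Nat.card (F ⊓ Subgroup.centralizer ({z} : Set G) : Subgroup G) ∣ 9 :=
    S.nine _ (fun f hf => mem_cent.1 hf.2) (hsub _ inf_le_left)
  have hcτ9 : Nat.card (F ⊓ Subgroup.centralizer ({τ} : Set G) : Subgroup G) ∣ 9 :=
    S.nine_τ _ (fun f hf => mem_cent.1 hf.2) (hsub _ inf_le_left)
  have hczτ9 : Nat.card (F ⊓ Subgroup.centralizer ({z * τ} : Set G) : Subgroup G) ∣ 9 :=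
    S.nine_zτ _ (fun f hf => mem_cent.1 hf.2) (hsub _ inf_le_left)
  have hPle : pGrp x₁ x₂ S.h₁.xy ≤ F ⊓ Subgroup.centralizer ({z} : Set G) := by
    rintro _ ⟨c, d, rfl⟩
    exact ⟨F.mul_mem (F.zpow_mem m1 c) (F.zpow_mem m2 d), mem_cent.2 (S.z_P c d).symm⟩
  have hPeq : pGrp x₁ x₂ S.h₁.xy = F ⊓ Subgroup.centralizer ({z} : Set G) := by
    apply Subgroup.eq_of_le_of_card_ge hPle
    rw [S.card_P]
    exact Nat.le_of_dvd (by norm_num) hcz9
  have hcz : Nat.card (F ⊓ Subgroup.centralizer ({z} : Set G) : Subgroup G) = 9 := by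
    rw [← hPeq, S.card_P]
  have hcτ : Nat.card (F ⊓ Subgroup.centralizer ({τ} : Set G) : Subgroup G) = 9 := by
    apply le_antisymm (Nat.le_of_dvd (by norm_num) hcτ9)
    have e : Nat.card ((pGrp x₁ x₂ S.h₁.xy).map (MulAut.conj g).toMonoidHom) = 9 := by
      rw [Subgroup.card_map_of_injective (MulAut.conj g).injective, S.card_P]
    rw [← e]
    apply Subgroup.card_le_of_le
    rintro _ ⟨_, ⟨c, d, rfl⟩, rfl⟩
    exact ⟨hxg c d, mem_cent.2 (hτg _ (S.z_P c d).symm)⟩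
  have hk'k'' : k'' ∉ Subgroup.zpowers k' := by
    rintro ⟨n, hn⟩
    have hn' : k' ^ n = k'' := hn
    apply q5
    rw [← hn']
    exact ((show Commute k' x₁ from core_comm p1).zpow_left n).eq
  have hczτ : Nat.card (F ⊓ Subgroup.centralizer ({z * τ} : Set G) : Subgroup G) = 9 := by
    have hlt : Subgroup.zpowers k' < F ⊓ Subgroup.centralizer ({z * τ} : Set G) := by
      refine lt_of_le_of_ne ?_ ?_
      · rw [Subgroup.zpowers_le]
        exact ⟨m4, mem_cent.2 p2⟩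
      · intro he
        apply hk'k''
        rw [he]
        exact ⟨m5, mem_cent.2 q2⟩
    have h3 : 3 < Nat.card (F ⊓ Subgroup.centralizer ({z * τ} : Set G) : Subgroup G) := by
      rw [← card_zpowers_three p3 p4]
      by_contra hle
      push Not at hle
      exact hlt.ne (Subgroup.eq_of_le_of_card_ge hlt.le hle)
    have h4 : Nat.card (F ⊓ Subgroup.centralizer ({z * τ} : Set G) : Subgroup G) ∈ Nat.divisors 9 :=
      Nat.mem_divisors.2 ⟨hczτ9, by norm_num⟩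
    have h5 : Nat.divisors 9 = {1, 3, 9} := by decide
    rw [h5] at h4
    simp only [Finset.mem_insert, Finset.mem_singleton] at h4
    omega
  have hcV : ∀ A : Subgroup G, A ≤ F → Nat.card (A ⊓ Subgroup.centralizer {z} ⊓ Subgroup.centralizer {τ} :
      Subgroup G) = 1 := by
    intro A hA
    rw [Subgroup.card_eq_one, eq_bot_iff]
    rintro f ⟨⟨h1, h2⟩, h3⟩
    exact hV f (hA h1) (mem_cent.1 h2) (mem_cent.1 h3)
  have hcF : Nat.card F = 729 := by
    have h0 := Cfsg.Agent.Lib.KleinOrder.card_klein F hFodd hzz hττ hzτ hzF hτF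
    rw [hcV F le_rfl, hcz, hcτ, hczτ, one_pow, mul_one] at h0
    rw [h0]
  -- the subgroup `U`
  set! U := F ⊓ kGrp k x₁ ⊓ kGrp k x₂ with hU
  have hUF : U ≤ F := fun u hu => hu.1.1
  have kk1 : k * x₁ = x₁ * k := S.kx1.symm
  have kk2 : k * x₂ = x₂ * k := S.kx2.symm
  have zx1 : z * x₁ * z⁻¹ = x₁ := by rw [S.h₁.zx]; group
  have zx2 : z * x₂ * z⁻¹ = x₂ := by rw [S.h₂.zx]; group
  have τk : τ * k * τ⁻¹ = k := by rw [← S.kτ]; group
  have hzU : ∀ u ∈ U, z * u * z⁻¹ ∈ U := by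
    rintro u ⟨⟨h1, h2⟩, h3⟩
    exact ⟨⟨hzF u h1, kGrp_conj (Or.inr S.kz) (Or.inl zx1) kk1 h2⟩, kGrp_conj (Or.inr S.kz) (Or.inl zx2) kk2 h3⟩
  have hτU : ∀ u ∈ U, τ * u * τ⁻¹ ∈ U := by
    rintro u ⟨⟨h1, h2⟩, h3⟩
    exact ⟨⟨hτF u h1, kGrp_conj (Or.inl τk) (Or.inr S.h₁.τx) kk1 h2⟩,
      kGrp_conj (Or.inl τk) (Or.inr S.h₂.τx) kk2 h3⟩
  -- `U ∩ C(τ) = ⟨k⟩`
  have hUτ : ∀ u ∈ U, u * τ = τ * u → u ∈ Subgroup.zpowers k := by
    rintro u ⟨⟨h1, h2⟩, h3⟩ huτ
    have key : ∀ x : G, u ∈ kGrp k x → x * k = k * x → τ * x * τ⁻¹ = x⁻¹ → u * x = x * u := by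
      intro x hux hxk hτx
      obtain ⟨hx1, n, hn⟩ := kGrp_symm hux hxk
      exact (ThreeLocal.comm_of_mem_k S.k3 S.kτ.symm huτ.symm hτx hx1 n hn).eq
    have h4 := key x₁ h2 S.kx1 S.h₁.τx
    have h5 := key x₂ h3 S.kx2 S.h₂.τx
    have h6 := S.cent_P_odd h4 h5 ((hFmem u).1 h1).2
    obtain ⟨c, hc⟩ := S.R_τ h6 (by rw [← huτ]; group)
    rw [hc]
    exact Subgroup.zpow_mem_zpowers k c
  have hkU : k ∈ U := by
    refine ⟨⟨m3, rfl, 0, ?_⟩, rfl, 0, ?_⟩
    · rw [← S.kx1]; group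
    · rw [← S.kx2]; group
  have hPU : pGrp x₁ x₂ S.h₁.xy ≤ U := by
    have hx : ∀ x y : G, x * k = k * x → x * y = y * x → x ∈ kGrp k y := by
      intro x y hxk hxy
      exact ⟨hxk, 0, by rw [hxy]; group⟩
    rw [ThreeLocal.pGrp_eq, Subgroup.closure_le]
    rintro x (rfl | rfl)
    · exact ⟨⟨m1, hx _ _ S.kx1 rfl⟩, hx _ _ S.kx1 S.h₁.xy⟩
    · exact ⟨⟨m2, hx _ _ S.kx2 S.h₁.xy.symm⟩, hx _ _ S.kx2 rfl⟩
  have hkp : ∀ u ∈ F, u * k = k * u := fun u hu => ((hFmem u).1 hu).1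
  have hk'U : k' ∈ U := by
    refine ⟨⟨m4, hkk'.symm, 0, ?_⟩, hkk'.symm, c', hc'⟩
    rw [core_comm p1]; group
  have hk''U : k'' ∈ U := by
    refine ⟨⟨m5, hkk''.symm, c'', hc''⟩, hkk''.symm, 0, ?_⟩
    rw [core_comm q1]; group
  -- `F ∩ C(z τ) = ⟨k', k''⟩`
  have hTeq : pGrp k' k'' hcc = F ⊓ Subgroup.centralizer ({z * τ} : Set G) := by
    apply Subgroup.eq_of_le_of_card_ge
    · rw [ThreeLocal.pGrp_eq, Subgroup.closure_le]
      rintro x (rfl | rfl)
      · exact ⟨m4, mem_cent.2 p2⟩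
      · exact ⟨m5, mem_cent.2 q2⟩
    · rw [hczτ]
      calc 9 = Nat.card (Subgroup.zpowers k') * Nat.card (Subgroup.zpowers k'') := by
            rw [card_zpowers_three p3 p4, card_zpowers_three q3 q4]
        _ ≤ _ := mul_card_le _ _ _ (by
            rw [Subgroup.zpowers_le]; exact ⟨1, 0, by simp⟩) (by
            rw [Subgroup.zpowers_le]; exact ⟨0, 1, by simp⟩) (by
            rintro _ ⟨n, rfl⟩ ⟨m, hm⟩
            have hm' : k'' ^ m = k' ^ n := hm
            rcases zpow_three_cases q3 m with h1 | h1 | h1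
            · rw [h1] at hm'; exact hm'.symm
            · exact absurd ⟨n, by show k' ^ n = k''; rw [← hm', h1]⟩ hk'k''
            · exact absurd ⟨-n, by show k' ^ (-n) = k''; rw [zpow_neg, ← hm', h1, inv_inv]⟩ hk'k'')
  have hTU : F ⊓ Subgroup.centralizer ({z * τ} : Set G) ≤ U := by
    rw [← hTeq, ThreeLocal.pGrp_eq, Subgroup.closure_le]
    rintro x (rfl | rfl)
    · exact hk'U
    · exact hk''U
  have hcU : Nat.card U = 243 := by
    have h0 := Cfsg.Agent.Lib.KleinOrder.card_klein U (hsub U hUF) hzz hττ hzτ hzU hτU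
    have e1 : (U ⊓ Subgroup.centralizer ({z} : Set G) : Subgroup G) = F ⊓ Subgroup.centralizer ({z} : Set G) := by
      apply le_antisymm (inf_le_inf_right _ hUF)
      rw [← hPeq]
      refine le_inf hPU ?_
      rw [hPeq]
      exact inf_le_right
    have e2 : (U ⊓ Subgroup.centralizer ({z * τ} : Set G) : Subgroup G) =
        F ⊓ Subgroup.centralizer ({z * τ} : Set G) := by
      apply le_antisymm (inf_le_inf_right _ hUF)
      exact le_inf hTU inf_le_right
    have e3 : (U ⊓ Subgroup.centralizer ({τ} : Set G) : Subgroup G) = Subgroup.zpowers k := by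
      apply le_antisymm
      · rintro u ⟨h1, h2⟩
        exact hUτ u h1 (mem_cent.1 h2)
      · rw [Subgroup.zpowers_le]
        exact ⟨hkU, mem_cent.2 S.kτ⟩
    rw [hcV U hUF, e1, e2, e3, hcz, hczτ, card_zpowers_three S.k3 S.kne, one_pow, mul_one] at h0
    rw [h0]
  -- generation of `U`
  have hgen : ∀ M : Subgroup G, x₁ ∈ M → x₂ ∈ M → k ∈ M → k' ∈ M → k'' ∈ M → U ≤ M := by
    intro M h1 h2 h3 h4 h5
    refine Cfsg.Agent.Lib.KleinGen.le_of_klein U M (hsub U hUF) z τ hzz hττ hzτ hzU hτU ?_ ?_ ?_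
    · rintro u ⟨hu, huz⟩
      have : u ∈ pGrp x₁ x₂ S.h₁.xy := by
        rw [hPeq]; exact ⟨hUF hu, huz⟩
      obtain ⟨c, d, rfl⟩ := this
      exact M.mul_mem (M.zpow_mem h1 c) (M.zpow_mem h2 d)
    · rintro u ⟨hu, huz⟩
      obtain ⟨n, rfl⟩ := hUτ u hu (mem_cent.1 huz)
      exact M.zpow_mem h3 n
    · rintro u ⟨hu, huz⟩
      have : u ∈ pGrp k' k'' hcc := by
        rw [hTeq]; exact ⟨hUF hu, huz⟩
      obtain ⟨c, d, rfl⟩ := this
      exact M.mul_mem (M.zpow_mem h4 c) (M.zpow_mem h5 d)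
  have hself : ∀ x y : G, x * k = k * x → x * y = y * x → x ∈ kGrp k y := by
    intro x y hxk hxy
    exact ⟨hxk, 0, by rw [hxy]; group⟩
  have hUk' : U ≤ kGrp k k' := by
    apply hgen
    · exact kGrp_symm hk'U.1.2 S.kx1
    · exact kGrp_symm hk'U.2 S.kx2
    · exact hself _ _ rfl hkk'
    · exact hself _ _ hkk'.symm rfl
    · exact hself _ _ hkk''.symm hcc.symm
  have hUk'' : U ≤ kGrp k k'' := by
    apply hgen
    · exact kGrp_symm hk''U.1.2 S.kx1
    · exact kGrp_symm hk''U.2 S.kx2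
    · exact hself _ _ rfl hkk''
    · exact hself _ _ hkk'.symm hcc
    · exact hself _ _ hkk''.symm rfl
  have hUU : ∀ v ∈ U, U ≤ kGrp k v := by
    intro v hv
    have hvk := hkp v (hUF hv)
    apply hgen
    · exact kGrp_symm hv.1.2 S.kx1
    · exact kGrp_symm hv.2 S.kx2
    · exact hself _ _ rfl hvk.symm
    · exact kGrp_symm (hUk' hv) hkk'.symm
    · exact kGrp_symm (hUk'' hv) hkk''.symm
  -- cubes
  let M3 : Subgroup G :=
    { carrier := {u | u ∈ U ∧ u ^ 3 = 1}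
      one_mem' := ⟨U.one_mem, one_pow 3⟩
      mul_mem' := by
        rintro u v ⟨hu, hu3⟩ ⟨hv, hv3⟩
        refine ⟨U.mul_mem hu hv, ?_⟩
        obtain ⟨-, n, hn⟩ := hUU u hu hv
        have cu : Commute u (k ^ n) := (show Commute u k from hkp u (hUF hu)).zpow_right n
        have cv : Commute v (k ^ n) := (show Commute v k from hkp v (hUF hv)).zpow_right n
        have e : v * u = u * v * k ^ n := by
          calc v * u = (v * u * v⁻¹) * v := by group
            _ = u * (k ^ n * v) := by rw [hn]; group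
            _ = u * v * k ^ n := by rw [← cv.eq]; group
        rw [mul_cube e cu cv (zpow_cube S.k3 n), hu3, hv3, mul_one]
      inv_mem' := by
        rintro u ⟨hu, hu3⟩
        exact ⟨U.inv_mem hu, by rw [inv_pow, hu3, inv_one]⟩ }
  have hx1U : x₁ ∈ U := hPU ⟨1, 0, by simp⟩
  have hx2U : x₂ ∈ U := hPU ⟨0, 1, by simp⟩
  have hU3 : U ≤ M3 := hgen M3 ⟨hx1U, S.h₁.x3⟩ ⟨hx2U, S.h₂.x3⟩ ⟨hkU, S.k3⟩ ⟨hk'U, p3⟩ ⟨hk''U, q3⟩
  -- the element `x° = g x₁ g⁻¹`
  set! xo := g * x₁ * g⁻¹ with hxo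
  have hxoF : xo ∈ F := by
    have := hxg 1 0
    simpa using this
  have hxok := hkp xo hxoF
  have hxo3 : xo ^ 3 = 1 := by rw [hxo, conj_pow, S.h₁.x3]; group
  have hxoτ : xo * τ = τ * xo := hτg x₁ S.h₁.zx.symm
  have hxoz : z * xo * z⁻¹ = xo⁻¹ := i1 xo hxoF hxoτ
  have hnorU : ∀ u ∈ U, xo * u * xo⁻¹ ∈ U := by
    have hidx : (U.subgroupOf F).index = 3 := by
      have h1 := Subgroup.card_mul_index (U.subgroupOf F)
      rw [Nat.card_congr (Subgroup.subgroupOfEquivOfLe hUF).toEquiv, hcU, hcF] at h1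
      omega
    have hnor : (U.subgroupOf F).Normal := by
      apply Subgroup.normal_of_index_eq_minFac_card
      rw [hidx, hcF]
      norm_num
    intro u hu
    exact hnor.conj_mem ⟨u, hUF hu⟩ hu ⟨xo, hxoF⟩
  -- `C_U(x°)`
  set! D := U ⊓ kGrp k xo with hD
  have hDU : D ≤ U := inf_le_left
  have hDle : D ≤ Subgroup.centralizer ({xo} : Set G) := by
    refine Cfsg.Agent.Lib.KleinGen.le_of_klein D _ (hsub D (hDU.trans hUF)) z τ hzz hττ hzτ ?_ ?_ ?_ ?_ ?_
    · rintro d ⟨h1, h2⟩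
      exact ⟨hzU d h1, kGrp_conj (Or.inr S.kz) (Or.inr hxoz) hxok.symm h2⟩
    · rintro d ⟨h1, h2⟩
      exact ⟨hτU d h1, kGrp_conj (Or.inl τk) (Or.inl (by rw [← hxoτ]; group)) hxok.symm h2⟩
    · rintro u ⟨⟨h1, h2, n, hn⟩, huz⟩
      have h3 := i2 u (hUF h1) (mem_cent.1 huz)
      exact mem_cent.2 (ThreeLocal.comm_of_mem_k S.k3 S.kτ.symm hxoτ.symm h3 h2 n hn).symm.eq
    · rintro u ⟨⟨h1, h2⟩, huz⟩
      obtain ⟨n, rfl⟩ := hUτ u h1 (mem_cent.1 huz)
      exact mem_cent.2 ((show Commute k xo from hxok.symm).zpow_left n).eq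
    · rintro u ⟨⟨h1, h2, n, hn⟩, huz⟩
      have h3 := i3 u (hUF h1) (mem_cent.1 huz)
      exact mem_cent.2 (ThreeLocal.comm_of_mem_k S.k3 S.kτ.symm hxoτ.symm h3 h2 n hn).symm.eq
  set! N := S.R.map (MulAut.conj g).toMonoidHom with hN
  have hDN : D ≤ N := by
    intro u hu
    have hux : u * xo = xo * u := mem_cent.1 (hDle hu)
    have huk := hkp u (hUF (hDU hu))
    set! w := g⁻¹ * u * g with hw
    have hw1 : w * x₁ = x₁ * w := by
      calc w * x₁ = g⁻¹ * (u * xo) * g := by rw [hw, hxo]; group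
        _ = x₁ * w := by rw [hux, hw, hxo]; group
    have hw2 : w * (x₁ ^ a * x₂ ^ b) = x₁ ^ a * x₂ ^ b * w := by
      rw [← hgk]
      calc w * (g⁻¹ * k * g) = g⁻¹ * (u * k) * g := by rw [hw]; group
        _ = g⁻¹ * k * g * w := by rw [huk, hw]; group
    have hw3 : w * x₂ = x₂ * w := by
      have c1 : Commute w (x₂ ^ b) := by
        have e : x₂ ^ b = (x₁ ^ a)⁻¹ * (x₁ ^ a * x₂ ^ b) := by group
        rw [e]
        exact ((show Commute w x₁ from hw1).zpow_right a).inv_right.mul_right hw2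
      rcases zpow_three_cases S.h₂.x3 b with h4 | h4 | h4
      · exact absurd h4 hb
      · rw [h4] at c1; exact c1.eq
      · rw [h4] at c1; simpa only [_root_.inv_inv] using c1.inv_right.eq
    have hwo : Odd (orderOf w) := by
      have := (MulAut.conj g⁻¹).orderOf_eq u
      simp only [MulAut.conj_apply, inv_inv] at this
      rw [hw, this]
      exact ((hFmem u).1 (hUF (hDU hu))).2
    refine ⟨w, S.cent_P_odd hw1 hw3 hwo, ?_⟩
    show g * w * g⁻¹ = u
    rw [hw]; group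
  have hcN : Nat.card N = 27 := by
    rw [hN, Subgroup.card_map_of_injective (MulAut.conj g).injective, S.card_R]
  have hxoN : xo ∈ N := ⟨x₁, S.x₁_R, rfl⟩
  have hxoU : xo ∉ U := by
    intro hx
    obtain ⟨n, hn⟩ := hUτ xo hx hxoτ
    have hn' : k ^ n = xo := hn
    have hxo1 : xo ≠ 1 := by
      intro h1
      apply S.h₁.x1
      calc x₁ = g⁻¹ * xo * g := by rw [hxo]; group
        _ = 1 := by rw [h1]; group
    have hkx : ∃ m : ℤ, k = xo ^ m := by
      rcases zpow_three_cases S.k3 n with h1 | h1 | h1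
      · rw [h1] at hn'; exact absurd hn'.symm hxo1
      · exact ⟨1, by rw [zpow_one, ← hn', h1]⟩
      · exact ⟨-1, by rw [zpow_neg, zpow_one, ← hn', h1, inv_inv]⟩
    obtain ⟨m, hm⟩ := hkx
    apply hb
    have e : x₁ ^ a * x₂ ^ b = x₁ ^ m := by
      rw [← hgk, hm, hxo, conj_zpow]; group
    exact (S.toTwo.inter (a := a - m) (b := b) (by
      rw [sub_eq_add_neg, add_comm, zpow_add, mul_assoc, e, ← zpow_add, neg_add_cancel, zpow_zero])).2
  have hcD : Nat.card D ≤ 9 := by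
    have h1 := Subgroup.card_dvd_of_le hDN
    rw [hcN] at h1
    have h2 : Nat.card D ≠ 27 := by
      intro h2
      have h3 : D = N := Subgroup.eq_of_le_of_card_ge hDN (by rw [hcN, h2])
      apply hxoU
      apply hDU
      rw [h3]
      exact hxoN
    have h3 : Nat.card D ∈ Nat.divisors 27 := Nat.mem_divisors.2 ⟨h1, by norm_num⟩
    have h4 : Nat.divisors 27 = {1, 3, 9, 27} := by decide
    rw [h4] at h3
    simp only [Finset.mem_insert, Finset.mem_singleton] at h3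
    omega
  have hmain := card_fix_mod U (Subgroup.zpowers k) D (by rw [Subgroup.zpowers_le]; exact hkU)
    (by
      rintro u hu _ ⟨n, rfl⟩
      refine ⟨n, ?_⟩
      show k ^ n = u * k ^ n * u⁻¹
      rw [((show Commute u k from hkp u (hUF hu)).zpow_right n).eq]; group)
    (by
      rintro u hu v hv
      obtain ⟨-, n, hn⟩ := hUU v hv hu
      refine ⟨n, ?_⟩
      show k ^ n = u * v * u⁻¹ * v⁻¹
      have cv : Commute v (k ^ n) := (show Commute v k from hkp v (hUF hv)).zpow_right n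
      rw [hn, cv.eq]; group)
    (by
      intro u hu
      exact ⟨0, by show k ^ (0 : ℤ) = u ^ 3; rw [zpow_zero, (hU3 hu).2]⟩)
    xo hxo3 hnorU
    (by
      rintro _ ⟨n, rfl⟩
      refine ⟨n, ?_⟩
      show k ^ n = xo * k ^ n * xo⁻¹
      rw [((show Commute xo k from hxok).zpow_right n).eq]; group)
    (by
      rintro u hu ⟨n, hn⟩
      have hn' : k ^ n = xo * u * xo⁻¹ * u⁻¹ := hn
      refine ⟨hu, hkp u (hUF hu), -n, ?_⟩
      have cx : Commute xo (k ^ (-n)) := (show Commute xo k from hxok).zpow_right (-n)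
      calc u * xo * u⁻¹ = (xo * u * xo⁻¹ * u⁻¹)⁻¹ * xo := by group
        _ = k ^ (-n) * xo := by rw [← hn', zpow_neg]
        _ = xo * k ^ (-n) := cx.eq.symm)
  rw [hcU, card_zpowers_three S.k3 S.kne] at hmain
  have h5 := Nat.pow_le_pow_left hcD 3
  omega

end Cfsg.Agent.LargeExtra.W2.ThreeC
end

-- part: LargeExtra/W2/ThreeD
section
/-!
# 3-local analysis for `G₂(3)`: the dichotomy (S1759; helper865)

`dichotomy`: either `C_G(x₁), C_G(x₂) ≤ C_G(z)`, or `x₁` and `x₂` each commute with a full Sylow 3-subgroup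
`h P h⁻¹` of `C_G(τ)` where `h ∈ N_G(⟨z, τ⟩)` maps `z` to `τ` (`nine_relation`).
-/

set_option autoImplicit false

namespace Cfsg.Agent.LargeExtra.W2.ThreeD

open Cfsg Cfsg.Agent.StandardComponent.CentCore ThreeA ThreeB ThreeC
open ThreeLocal (kGrp pGrp)

variable {G : Type*} [Group G] [Finite G]

/-- existence of `k` -/
theorem exists_k {z τ x y : G} {Q : Subgroup G} (h : Half z τ x y Q) {m : ℕ}
    (hm : Nat.card (centralizerPPrimeCore 2 x) = 3 ^ m) (hy1 : y ≠ 1)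
    (hne : ¬ centralizerPPrimeCore 2 x ≤ Subgroup.zpowers x) :
    ∃ k ∈ centralizerPPrimeCore 2 x, k ≠ 1 ∧ k * y = y * k ∧ (k * τ = τ * k ∨ k * (z * τ) = z * τ * k) := by
  have : Fact (Nat.Prime 3) := ⟨Nat.prime_three⟩
  -- `y^b ∈ K` implies `y^b ∈ ⟨x⟩`
  have hyK : ∀ b : ℤ, y ^ b ∈ centralizerPPrimeCore 2 x → y ^ b ∈ Subgroup.zpowers x := fun b hb =>
    h.core_z hb (((show Commute z y from h.zy).zpow_right b).symm.eq)
  have hynot : y ∉ Subgroup.zpowers x := by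
    rintro ⟨n, hn⟩
    have hn' : x ^ n = y := hn
    obtain ⟨q, hq, hne⟩ := h.ne
    apply hne
    rw [← hn']
    exact (h.x_zpow_comm hq n).symm
  have hyK1 : ∀ b : ℤ, y ^ b ∈ centralizerPPrimeCore 2 x → y ^ b = 1 := by
    intro b hb
    obtain ⟨n, hn⟩ := hyK b hb
    have hn' : x ^ n = y ^ b := hn
    rcases zpow_three_cases h.y3 b with h1 | h1 | h1
    · exact h1
    · exact absurd ⟨n, by show x ^ n = y; rw [hn', h1]⟩ hynot
    · exact absurd ⟨-n, by show x ^ (-n) = y; rw [zpow_neg, hn', h1, inv_inv]⟩ hynot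
  let T : Subgroup G :=
    { carrier := {t | ∃ u ∈ centralizerPPrimeCore 2 x, ∃ b : ℤ, t = u * y ^ b}
      one_mem' := ⟨1, Subgroup.one_mem _, 0, by simp⟩
      mul_mem' := by
        rintro _ _ ⟨u, hu, b, rfl⟩ ⟨u', hu', b', rfl⟩
        have hx : y ^ b * x = x * y ^ b := ((show Commute y x from h.xy.symm).zpow_left b).eq
        refine ⟨u * (y ^ b * u' * (y ^ b)⁻¹), Subgroup.mul_mem _ hu (core_conj_mem hx hu'), b + b', ?_⟩
        rw [zpow_add]; group
      inv_mem' := by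
        rintro _ ⟨u, hu, b, rfl⟩
        have hx : y ^ (-b) * x = x * y ^ (-b) := ((show Commute y x from h.xy.symm).zpow_left (-b)).eq
        refine ⟨y ^ (-b) * u⁻¹ * (y ^ (-b))⁻¹, core_conj_mem hx (Subgroup.inv_mem _ hu), -b, ?_⟩
        group }
  have hcT : Nat.card T = 3 ^ (m + 1) := by
    apply le_antisymm
    · calc Nat.card T ≤ Nat.card (centralizerPPrimeCore 2 x) * Nat.card (Subgroup.zpowers y) :=
          card_le_mul _ _ _ (by
            rintro _ ⟨u, hu, b, rfl⟩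
            exact ⟨u, hu, _, Subgroup.zpow_mem_zpowers y b, rfl⟩)
        _ = 3 ^ (m + 1) := by rw [hm, card_zpowers_three h.y3 hy1, pow_succ]
    · calc 3 ^ (m + 1) = Nat.card (centralizerPPrimeCore 2 x) * Nat.card (Subgroup.zpowers y) := by
            rw [hm, card_zpowers_three h.y3 hy1, pow_succ]
        _ ≤ _ := mul_card_le _ _ _ (by intro u hu; exact ⟨u, hu, 0, by simp⟩) (by
            rw [Subgroup.zpowers_le]; exact ⟨1, Subgroup.one_mem _, 1, by simp⟩) (by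
            rintro u hu ⟨b, hb⟩
            have hb' : y ^ b = u := hb
            rw [← hb'] at hu ⊢
            exact hyK1 b hu)
  have hT3 : IsPGroup 3 T := IsPGroup.of_card hcT
  have hPT : pGrp x y h.xy ≤ T := by
    rintro _ ⟨a, b, rfl⟩
    exact ⟨x ^ a, Subgroup.zpow_mem _ h.x_mem a, b, rfl⟩
  -- `K ∩ P = ⟨x⟩`
  have hKP : ∀ u ∈ centralizerPPrimeCore 2 x, u ∈ pGrp x y h.xy → u ∈ Subgroup.zpowers x := by
    rintro _ hu ⟨a, b, rfl⟩
    have h1 : y ^ b ∈ centralizerPPrimeCore 2 x := by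
      have e : y ^ b = (x ^ a)⁻¹ * (x ^ a * y ^ b) := by group
      rw [e]
      exact Subgroup.mul_mem _ (Subgroup.inv_mem _ (Subgroup.zpow_mem _ h.x_mem a)) hu
    rw [hyK1 b h1, mul_one]
    exact Subgroup.zpow_mem_zpowers x a
  have hPne : pGrp x y h.xy ≠ T := by
    intro he
    apply hne
    intro u hu
    apply hKP u hu
    rw [he]
    exact ⟨u, hu, 0, by simp⟩
  obtain ⟨r, ⟨u, hu, b, rfl⟩, hr2, hr3⟩ := exists_normalizing hT3 hPT hPne
  have huP : u ∉ pGrp x y h.xy := by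
    intro h1
    apply hr2
    exact (pGrp x y h.xy).mul_mem h1 ⟨0, b, by simp⟩
  have huy : u * y = y * u := by
    apply half_le_cent h hu
    obtain ⟨i, j, hij⟩ := hr3 y ⟨0, 1, by simp⟩
    have e1 : u * y * u⁻¹ = x ^ i * y ^ j := by
      rw [← hij]
      have : Commute (y ^ b) y := (Commute.refl y).zpow_left b
      calc u * y * u⁻¹ = u * (y * y ^ b) * (y ^ b)⁻¹ * u⁻¹ := by group
        _ = u * y ^ b * y * (u * y ^ b)⁻¹ := by rw [← this.eq]; group
    have h1 : y ^ (j - 1) ∈ centralizerPPrimeCore 2 x := by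
      have h2 : u * (y * u⁻¹ * y⁻¹) ∈ centralizerPPrimeCore 2 x :=
        Subgroup.mul_mem _ hu (core_conj_mem h.xy.symm (Subgroup.inv_mem _ hu))
      have e : y ^ (j - 1) = (x ^ i)⁻¹ * (u * (y * u⁻¹ * y⁻¹)) := by
        have e2 : u * (y * u⁻¹ * y⁻¹) = x ^ i * y ^ j * y⁻¹ := by rw [← e1]; group
        rw [e2, zpow_sub, zpow_one]; group
      rw [e]
      exact Subgroup.mul_mem _ (Subgroup.inv_mem _ (Subgroup.zpow_mem _ h.x_mem i)) h2
    have h2 := hyK1 _ h1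
    refine ⟨i, ?_⟩
    have e3 : y ^ j = y := by
      calc y ^ j = y ^ (j - 1) * y := by group
        _ = y := by rw [h2, one_mul]
    rw [e1, e3, ((show Commute y x from h.xy.symm).zpow_right i).eq]
  -- Klein generation
  by_contra hcon
  push Not at hcon
  set! E := centralizerPPrimeCore 2 x ⊓ Subgroup.centralizer ({y} : Set G) with hE
  have hEle : E ≤ Subgroup.zpowers x := by
    refine Cfsg.Agent.Lib.KleinGen.le_of_klein E _ (Odd.of_dvd_nat (core_odd x)
      (Subgroup.card_dvd_of_le inf_le_left)) z τ h.zz h.ττ h.zτ ?_ ?_ ?_ ?_ ?_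
    · rintro e ⟨h1, h2⟩
      refine ⟨h.z_core h1, mem_cent.2 ?_⟩
      have c1 : Commute e y := mem_cent.1 h2
      have c2 : Commute z y := h.zy
      exact ((c2.mul_left c1).mul_left c2.inv_left).eq
    · rintro e ⟨h1, h2⟩
      refine ⟨h.τ_core h1, mem_cent.2 ?_⟩
      have c1 : e * y = y * e := mem_cent.1 h2
      have c2 : Commute e y⁻¹ := (show Commute e y from c1).inv_right
      have e1 : τ⁻¹ * y * τ = y⁻¹ := by rw [h.τ_inv, ← h.τy, h.τ_inv]
      calc τ * e * τ⁻¹ * y = τ * (e * (τ⁻¹ * y * τ)) * τ⁻¹ := by group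
        _ = τ * (τ⁻¹ * y * τ * e) * τ⁻¹ := by rw [e1, c2.eq]
        _ = y * (τ * e * τ⁻¹) := by group
    · rintro e ⟨⟨h1, h2⟩, h3⟩
      exact h.core_z h1 (mem_cent.1 h3)
    · rintro e ⟨⟨h1, h2⟩, h3⟩
      have : e = 1 := by
        by_contra h4
        exact (hcon e h1 h4 (mem_cent.1 h2)).1 (mem_cent.1 h3)
      rw [this]; exact Subgroup.one_mem _
    · rintro e ⟨⟨h1, h2⟩, h3⟩
      have : e = 1 := by
        by_contra h4
        exact (hcon e h1 h4 (mem_cent.1 h2)).2 (mem_cent.1 h3)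
      rw [this]; exact Subgroup.one_mem _
  apply huP
  obtain ⟨n, hn⟩ := hEle ⟨hu, mem_cent.2 huy⟩
  have hn' : x ^ n = u := hn
  exact ⟨n, 0, by rw [← hn']; simp⟩

variable {z τ x₁ x₂ : G} {Q₁ Q₂ : Subgroup G}

theorem card_cases (h : Two z τ x₁ x₂ Q₁ Q₂) :
    Nat.card (centralizerPPrimeCore 2 x₁ ⊓ Subgroup.centralizer {τ} : Subgroup G) = 1 ∨
    Nat.card (centralizerPPrimeCore 2 x₁ ⊓ Subgroup.centralizer {τ} : Subgroup G) = 3 ∨
    Nat.card (centralizerPPrimeCore 2 x₁ ⊓ Subgroup.centralizer {τ} : Subgroup G) = 9 := by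
  have hA9 := h.nine_τ (centralizerPPrimeCore 2 x₁ ⊓ Subgroup.centralizer {τ}) (fun a ha => mem_cent.1 ha.2)
    (Odd.of_dvd_nat (core_odd x₁) (Subgroup.card_dvd_of_le inf_le_left))
  have h3 : Nat.card (centralizerPPrimeCore 2 x₁ ⊓ Subgroup.centralizer {τ} : Subgroup G) ∈ Nat.divisors 9 :=
    Nat.mem_divisors.2 ⟨hA9, by norm_num⟩
  have h4 : Nat.divisors 9 = {1, 3, 9} := by decide
  rw [h4] at h3
  simpa only [_root_.Subgroup.mem_inf, _root_.Finset.mem_insert, _root_.Finset.mem_singleton] using h3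

theorem not_three (h : Two z τ x₁ x₂ Q₁ Q₂) :
    Nat.card (centralizerPPrimeCore 2 x₁ ⊓ Subgroup.centralizer {τ} : Subgroup G) ≠ 3 := by
  intro h3
  have hc := h.h₁.card_core
  rw [h3] at hc
  have hc27 : Nat.card (centralizerPPrimeCore 2 x₁) = 27 := by rw [hc]; norm_num
  obtain ⟨k, hk, hk1, hkx, hkτ⟩ := exists_k h.h₁ (m := 3) (by rw [hc27]; norm_num) h.h₂.x1 (by
    intro hle
    have := Subgroup.card_le_of_le hle
    rw [hc27, card_zpowers_three h.h₁.x3 h.h₁.x1] at this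
    omega)
  rcases hkτ with hkτ | hkτ
  · exact Sit.false (k := k) ⟨h, hc27, hk, hk1, h.cube_of_τ hkτ (core_odd_order hk), hkτ, (core_comm hk).symm,
      hkx.symm⟩
  · exact Sit.false (k := k) ⟨h.swap, hc27, hk, hk1, h.swap.cube_of_τ hkτ (core_odd_order hk), hkτ,
      (core_comm hk).symm, hkx.symm⟩

/-- `a = 1` for `x₁` and `a = 9` for `x₂` is impossible. -/
theorem not_one_nine (h : Two z τ x₁ x₂ Q₁ Q₂)
    (h1 : Nat.card (centralizerPPrimeCore 2 x₁ ⊓ Subgroup.centralizer {τ} : Subgroup G) = 1)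
    (h9 : Nat.card (centralizerPPrimeCore 2 x₂ ⊓ Subgroup.centralizer {τ} : Subgroup G) = 9) : False := by
  have hc := h.h₂.card_core
  rw [h9] at hc
  have hcz : ∀ g, g * x₁ = x₁ * g → g * z = z * g := fun g hg => h.h₁.comm_z_of_trivial (by
    intro k hk hkτ
    rw [Subgroup.card_eq_one, eq_bot_iff] at h1
    exact h1 ⟨hk, mem_cent.2 hkτ⟩) hg
  obtain ⟨k, hk, hk1, hkx, hkτ⟩ := exists_k h.h₂ (m := 5) (by rw [hc]; norm_num) h.h₁.x1 (by
    intro hle
    have := Subgroup.card_le_of_le hle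
    rw [hc, card_zpowers_three h.h₂.x3 h.h₂.x1] at this
    omega)
  have hkz := hcz k hkx
  have hkτ' : k * τ = τ * k := by
    rcases hkτ with hkτ | hkτ
    · exact hkτ
    · have c1 : Commute k z := hkz
      have c2 : Commute k (z * τ) := hkτ
      have : Commute k (z⁻¹ * (z * τ)) := c1.inv_right.mul_right c2
      rw [inv_mul_cancel_left] at this
      exact this.eq
  exact hk1 (h.h₂.core_zτ hk hkz hkτ')

/-- **Dichotomy.** -/
theorem dichotomy (h : Two z τ x₁ x₂ Q₁ Q₂) :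
    ((∀ g, g * x₁ = x₁ * g → g * z = z * g) ∧ (∀ g, g * x₂ = x₂ * g → g * z = z * g)) ∨
    (Nat.card (centralizerPPrimeCore 2 x₁ ⊓ Subgroup.centralizer {τ} : Subgroup G) = 9 ∧
      Nat.card (centralizerPPrimeCore 2 x₂ ⊓ Subgroup.centralizer {τ} : Subgroup G) = 9) := by
  have t1 := not_three h
  have t2 := not_three h.symm
  have hone : ∀ {z τ x₁ x₂ : G} {Q₁ Q₂ : Subgroup G} (h : Two z τ x₁ x₂ Q₁ Q₂),
      Nat.card (centralizerPPrimeCore 2 x₁ ⊓ Subgroup.centralizer {τ} : Subgroup G) = 1 →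
      ∀ g, g * x₁ = x₁ * g → g * z = z * g := by
    intro z τ x₁ x₂ Q₁ Q₂ h h1 g hg
    apply h.h₁.comm_z_of_trivial _ hg
    intro k hk hkτ
    rw [Subgroup.card_eq_one, eq_bot_iff] at h1
    exact h1 ⟨hk, mem_cent.2 hkτ⟩
  rcases card_cases h with c1 | c1 | c1
  · rcases card_cases h.symm with c2 | c2 | c2
    · exact Or.inl ⟨hone h c1, hone h.symm c2⟩
    · exact absurd c2 t2
    · exact (not_one_nine h c1 c2).elim
  · exact absurd c1 t1
  · rcases card_cases h.symm with c2 | c2 | c2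
    · exact (not_one_nine h.symm c2 c1).elim
    · exact absurd c2 t2
    · exact Or.inr ⟨c1, c2⟩

end Cfsg.Agent.LargeExtra.W2.ThreeD
end

-- part: LargeExtra/W2/ThreeG/Two
section
/-!
# Case `9c` of S1759 (`G₂(3)`): the hypotheses of the 3-local analysis hold (helper865)
-/

set_option autoImplicit false

namespace Cfsg.Agent.LargeExtra.W2.ThreeG.Main

open Cfsg Cfsg.Agent.LargeExtra.W2 Cfsg.Agent.LargeExtra.W2.ThreeG.Model
open Cfsg.Agent.SmallExtra438.Frame (L kap kap_of L_0 L_1 L_2 L_4 L_12 L_16)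
open Cfsg.Agent.LargeExtra.W2.ThreeG.Dec
open Cfsg.Agent.LargeExtra.W2.ThreeA Cfsg.Agent.LargeExtra.W2.ThreeC Cfsg.Agent.LargeExtra.W2.ThreeD

variable {G : Type*} [Group G] {Q : Subgroup G} {z i j k l x₁ x₂ y : G}

theorem F_p {a b : ℕ} (ha : a < 3) (hb : b < 3) : F z i j k l x₁ x₂ y (32 * a + 96 * b) = x₁ ^ a * x₂ ^ b := by
  have h1 : (32 * a + 96 * b) % 32 = 0 := by omega
  have h2 : (32 * a + 96 * b) / 32 = a + 3 * b + 9 * 0 := by omega
  rw [F, h1, h2, kap_of ha hb, L_0, one_mul, pow_zero, mul_one]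

theorem exists_nat {x : G} (hx : x ^ 3 = 1) (a : ℤ) : ∃ n : ℕ, n < 3 ∧ x ^ a = x ^ n ∧ (x ^ a ≠ 1 → n ≠ 0) := by
  rcases zpow_three_cases hx a with h1 | h1 | h1
  · exact ⟨0, by norm_num, by rw [h1, pow_zero], fun h2 => absurd h1 h2⟩
  · exact ⟨1, by norm_num, by rw [h1, pow_one], fun _ => by norm_num⟩
  · refine ⟨2, by norm_num, ?_, fun _ => by norm_num⟩
    rw [h1, inv_eq_iff_mul_eq_one, ← pow_succ', hx]

variable (h : Case9c Q z i j k l x₁ x₂ y) (hy : y * y = 1)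

/-- the subgroup with a given list of codes -/
def sub [Finite G] (S : List ℕ) (h0 : 0 ∈ S) (hlt : ∀ a ∈ S, a < 576) (hmul : ∀ a ∈ S, ∀ b ∈ S, mm a b ∈ S)
    (h : Case9c Q z i j k l x₁ x₂ y) (hy : y * y = 1) : Subgroup G :=
  let K₀ : Submonoid G :=
    { carrier := {g | ∃ m ∈ S, F z i j k l x₁ x₂ y m = g}
      one_mem' := ⟨0, h0, F_0⟩
      mul_mem' := by
        rintro _ _ ⟨m, hm, rfl⟩ ⟨n, hn, rfl⟩
        exact ⟨mm m n, hmul m hm n hn, F_mul h hy (hlt m hm) (hlt n hn)⟩ }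
  { K₀ with
    inv_mem' := by
      intro g hg
      have h1 : g⁻¹ = g ^ (orderOf g - 1) := by
        rw [inv_eq_iff_mul_eq_one, ← pow_succ', Nat.sub_add_cancel (orderOf_pos g),
          pow_orderOf_eq_one]
      rw [h1]
      exact K₀.pow_mem hg _ }

theorem mem_sub [Finite G] {S : List ℕ} {h0 : 0 ∈ S} {hlt : ∀ a ∈ S, a < 576}
    {hmul : ∀ a ∈ S, ∀ b ∈ S, mm a b ∈ S} {g : G} :
    g ∈ sub S h0 hlt hmul h hy ↔ ∃ m ∈ S, F z i j k l x₁ x₂ y m = g := Iff.rfl

/-- `⟨k, l⟩` -/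
def Q2 [Finite G] : Subgroup G := sub S2 (by decide) S2_lt S2_mul h hy
/-- `⟨i, j⟩` -/
def Q1 [Finite G] : Subgroup G := sub S1 (by decide) S1_lt S1_mul h hy

section basic
include h

theorem comm_z1 : z * x₁ = x₁ * z := by
  have := h.x₁_act.z
  calc z * x₁ = (x₁ * z * x₁⁻¹) * x₁ := by rw [this]
    _ = x₁ * z := by group

theorem comm_z2 : z * x₂ = x₂ * z := by
  have := h.x₂_act.z
  calc z * x₂ = (x₂ * z * x₂⁻¹) * x₂ := by rw [this]
    _ = x₂ * z := by group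

theorem comm_zy : z * y = y * z := by
  have := h.y_act.z
  calc z * y = (y * z * y⁻¹) * y := by rw [this]
    _ = y * z := by group

theorem x1_ne : x₁ ≠ 1 := by
  intro h1
  have h2 := h.x₁_act.i
  have h3 := h.ji
  rw [h1] at h2
  simp only [one_mul, inv_one, mul_one] at h2
  rw [← h2] at h3
  exact h.large.z_ne (by simpa using h3)

theorem x2_ne : x₂ ≠ 1 := by
  intro h1
  have h2 := h.x₂_act.k
  have h3 := h.lk
  rw [h1] at h2
  simp only [one_mul, inv_one, mul_one] at h2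
  rw [← h2] at h3
  exact h.large.z_ne (by simpa using h3)

end basic

theorem isPGroup_sub [Finite G] {S : List ℕ} {h0 : 0 ∈ S} {hlt : ∀ a ∈ S, a < 576}
    {hmul : ∀ a ∈ S, ∀ b ∈ S, mm a b ∈ S} (h4 : ∀ a ∈ S, mm (mm a a) (mm a a) = 0) :
    IsPGroup 2 (sub S h0 hlt hmul h hy) := by
  rintro ⟨g, hg⟩
  obtain ⟨m, hm, rfl⟩ := hg
  refine ⟨2, ?_⟩
  apply Subtype.ext
  show (F z i j k l x₁ x₂ y m) ^ 2 ^ 2 = 1
  have h1 : (F z i j k l x₁ x₂ y m) ^ 2 ^ 2 = F z i j k l x₁ x₂ y (mm (mm m m) (mm m m)) := by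
    rw [F_mul h hy (hlt _ (hmul m hm m hm)) (hlt _ (hmul m hm m hm)), F_mul h hy (hlt m hm) (hlt m hm)]
    show (F z i j k l x₁ x₂ y m) ^ 4 = _
    simp only [pow_succ, pow_zero, one_mul, mul_assoc]
  rw [h1, h4 m hm, F_0]

theorem cube_eq {x : G} (hx : x ^ 9 = 1) : x * (x * x) * (x * (x * x)) * (x * (x * x)) = 1 := by
  rw [← hx]
  simp only [pow_succ, pow_zero, one_mul, mul_assoc]

theorem half2 [Finite G] : Half z y x₁ x₂ (Q2 h hy) where
  z1 := h.large.z_ne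
  zz := h.large.z_sq
  ττ := hy
  zτ := comm_zy h
  x3 := h.x₁3
  x1 := x1_ne h
  y3 := h.x₂3
  xy := h.xx
  zx := comm_z1 h
  zy := comm_z2 h
  τx := h.y1
  τy := h.y2
  two := isPGroup_sub h hy S2_four
  z_mem := ⟨16, by decide, F_16⟩
  uniq := by
    rintro _ ⟨m, hm, rfl⟩ hq
    rw [← F_mul h hy (S2_lt m hm) (S2_lt m hm)] at hq
    have h1 : mm m m = 0 := F_inj h hy (mm_lt (S2_lt m hm) (S2_lt m hm)) (by norm_num) (by rw [hq, F_0])
    rcases S2_uniq m hm h1 with rfl | rfl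
    · left; exact F_0
    · right; exact F_16
  Qx := by
    rintro _ ⟨m, hm, rfl⟩
    have h1 := congrArg (F z i j k l x₁ x₂ y) (S2_x1 m hm)
    rw [F_mul h hy (S2_lt m hm) (by norm_num), F_mul h hy (by norm_num) (S2_lt m hm), F_32] at h1
    exact h1
  Qy := by
    rintro _ ⟨m, hm, rfl⟩
    obtain ⟨b, hb, h0⟩ := S2_x2 m hm
    have h1 := congrArg (F z i j k l x₁ x₂ y) h0
    rw [F_mul h hy (by norm_num) (S2_lt m hm), F_mul h hy (S2_lt b hb) (by norm_num), F_96] at h1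
    refine ⟨b, hb, ?_⟩
    rw [h1]; group
  fpf := by
    rintro _ ⟨m, hm, rfl⟩ hc
    have h1 : mm 96 m = mm m 96 := by
      apply F_commute h hy (by norm_num) (S2_lt m hm)
      rw [F_96]; exact hc
    rcases S2_fpf m hm h1 with rfl | rfl
    · left; exact F_0
    · right; exact F_16
  ne := by
    refine ⟨F z i j k l x₁ x₂ y 4, ⟨4, by decide, rfl⟩, ?_⟩
    intro hc
    apply S2_ne
    apply F_commute h hy (by norm_num) (by norm_num)
    rw [F_96]; exact hc
  cent := by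
    intro g hgz hgx
    obtain ⟨m, hm, rfl⟩ := exists_code h hy hgz
    have h1 : mm m 32 = mm 32 m := by
      apply F_commute h hy hm (by norm_num)
      rw [F_32]; exact hgx
    obtain ⟨a, ha, b, hb, q, hq, rfl⟩ := cent_x1 m hm h1
    refine ⟨a, b, F z i j k l x₁ x₂ y q, ⟨q, hq, rfl⟩, ?_⟩
    rw [F_mul h hy (by omega) (S2_lt q hq), F_p ha hb, zpow_natCast, zpow_natCast, mul_assoc]
  sw := by
    refine ⟨F z i j k l x₁ x₂ y 12, ⟨12, by decide, rfl⟩, ?_⟩
    have h1 := congrArg (F z i j k l x₁ x₂ y) S2_sw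
    rw [F_mul h hy (by norm_num) (by norm_num), F_mul h hy (mm_lt (by norm_num) (by norm_num)) (by norm_num),
      F_mul h hy (by norm_num) (by norm_num), F_288, F_16] at h1
    rw [h1]; group
  sq := by
    refine ⟨k, ⟨4, by decide, ?_⟩, h.kk⟩
    rw [F_lt (by norm_num), L_4]

theorem half1 [Finite G] : Half z y x₂ x₁ (Q1 h hy) where
  z1 := h.large.z_ne
  zz := h.large.z_sq
  ττ := hy
  zτ := comm_zy h
  x3 := h.x₂3
  x1 := x2_ne h
  y3 := h.x₁3
  xy := h.xx.symm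
  zx := comm_z2 h
  zy := comm_z1 h
  τx := h.y2
  τy := h.y1
  two := isPGroup_sub h hy S1_four
  z_mem := ⟨16, by decide, F_16⟩
  uniq := by
    rintro _ ⟨m, hm, rfl⟩ hq
    rw [← F_mul h hy (S1_lt m hm) (S1_lt m hm)] at hq
    have h1 : mm m m = 0 := F_inj h hy (mm_lt (S1_lt m hm) (S1_lt m hm)) (by norm_num) (by rw [hq, F_0])
    rcases S1_uniq m hm h1 with rfl | rfl
    · left; exact F_0
    · right; exact F_16
  Qx := by
    rintro _ ⟨m, hm, rfl⟩
    have h1 := congrArg (F z i j k l x₁ x₂ y) (S1_x2 m hm)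
    rw [F_mul h hy (S1_lt m hm) (by norm_num), F_mul h hy (by norm_num) (S1_lt m hm), F_96] at h1
    exact h1
  Qy := by
    rintro _ ⟨m, hm, rfl⟩
    obtain ⟨b, hb, h0⟩ := S1_x1 m hm
    have h1 := congrArg (F z i j k l x₁ x₂ y) h0
    rw [F_mul h hy (by norm_num) (S1_lt m hm), F_mul h hy (S1_lt b hb) (by norm_num), F_32] at h1
    refine ⟨b, hb, ?_⟩
    rw [h1]; group
  fpf := by
    rintro _ ⟨m, hm, rfl⟩ hc
    have h1 : mm 32 m = mm m 32 := by
      apply F_commute h hy (by norm_num) (S1_lt m hm)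
      rw [F_32]; exact hc
    rcases S1_fpf m hm h1 with rfl | rfl
    · left; exact F_0
    · right; exact F_16
  ne := by
    refine ⟨F z i j k l x₁ x₂ y 1, ⟨1, by decide, rfl⟩, ?_⟩
    intro hc
    apply S1_ne
    apply F_commute h hy (by norm_num) (by norm_num)
    rw [F_32]; exact hc
  cent := by
    intro g hgz hgx
    obtain ⟨m, hm, rfl⟩ := exists_code h hy hgz
    have h1 : mm m 96 = mm 96 m := by
      apply F_commute h hy hm (by norm_num)
      rw [F_96]; exact hgx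
    obtain ⟨a, ha, b, hb, q, hq, rfl⟩ := cent_x2 m hm h1
    refine ⟨b, a, F z i j k l x₁ x₂ y q, ⟨q, hq, rfl⟩, ?_⟩
    rw [F_mul h hy (by omega) (S1_lt q hq), F_p ha hb, zpow_natCast, zpow_natCast, ← mul_assoc]
    congr 1
    exact ((show Commute x₁ x₂ from h.xx).pow_pow a b).eq
  sw := by
    refine ⟨F z i j k l x₁ x₂ y 3, ⟨3, by decide, rfl⟩, ?_⟩
    have h1 := congrArg (F z i j k l x₁ x₂ y) S1_sw
    rw [F_mul h hy (by norm_num) (by norm_num), F_mul h hy (mm_lt (by norm_num) (by norm_num)) (by norm_num),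
      F_mul h hy (by norm_num) (by norm_num), F_288, F_16] at h1
    rw [h1]; group
  sq := by
    refine ⟨i, ⟨1, by decide, ?_⟩, h.ii⟩
    rw [F_lt (by norm_num), L_1]

theorem two [Finite G] {g : G} (hg1 : g * z * g⁻¹ = y) (hg2 : g * y * g⁻¹ = z * y) :
    Two z y x₁ x₂ (Q1 h hy) (Q2 h hy) where
  h₁ := half2 h hy
  h₂ := half1 h hy
  nine := by
    intro A hA hodd
    have h1 : A ≤ Subgroup.centralizer {z} := fun a ha => Subgroup.mem_centralizer_singleton_iff.2 (hA a ha)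
    have h2 := Subgroup.card_dvd_of_le h1
    rw [h.card_cent] at h2
    have h3 : Nat.Coprime (Nat.card A) 64 := by
      rw [show 64 = 2 ^ 6 by norm_num]
      exact Nat.Coprime.pow_right 6 (Nat.coprime_two_right.2 hodd)
    rw [show 576 = 64 * 9 by norm_num] at h2
    exact h3.dvd_of_dvd_mul_left h2
  fuse := ⟨g, hg1, hg2⟩
  syl := by
    intro g' hz hodd
    obtain ⟨m, hm, rfl⟩ := exists_code h hy hz
    have h9 : (F z i j k l x₁ x₂ y m) ^ 9 = 1 := by
      rw [← orderOf_dvd_iff_pow_eq_one]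
      have h1 : Subgroup.zpowers (F z i j k l x₁ x₂ y m) ≤ Subgroup.centralizer {z} := by
        rw [Subgroup.zpowers_le]; exact Subgroup.mem_centralizer_singleton_iff.2 hz
      have h2 := Subgroup.card_dvd_of_le h1
      rw [h.card_cent, Nat.card_zpowers] at h2
      have h3 : Nat.Coprime (orderOf (F z i j k l x₁ x₂ y m)) 64 := by
        rw [show 64 = 2 ^ 6 by norm_num]
        exact Nat.Coprime.pow_right 6 (Nat.coprime_two_right.2 hodd)
      rw [show 576 = 64 * 9 by norm_num] at h2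
      exact h3.dvd_of_dvd_mul_left h2
    have hmm := mm_lt hm hm
    have h3 := mm_lt hm hmm
    have h33 := mm_lt h3 h3
    have h0 : mm (mm m (mm m m)) (mm (mm m (mm m m)) (mm m (mm m m))) = 0 := by
      apply F_inj h hy (mm_lt h3 h33) (by norm_num)
      rw [F_mul h hy h3 h33, F_mul h hy h3 h3, F_mul h hy hm hmm, F_mul h hy hm hm, F_0]
      rw [← cube_eq h9]
      simp only [mul_assoc]
    obtain ⟨c, hc, a, ha, b, hb, he⟩ := syl m hm h0
    refine ⟨F z i j k l x₁ x₂ y c, F_comm h, a, b, ?_⟩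
    have h1 := congrArg (F z i j k l x₁ x₂ y) he
    rw [F_mul h hy (by omega) hm, F_mul h hy (by omega) (by omega), F_p ha hb] at h1
    rw [zpow_natCast, zpow_natCast, h1]; group
  vw := by
    intro a b ha hb g' hz hcom
    obtain ⟨na, hna, ea, ea'⟩ := exists_nat h.x₁3 a
    obtain ⟨nb, hnb, eb, eb'⟩ := exists_nat h.x₂3 b
    obtain ⟨m, hm, rfl⟩ := exists_code h hy hz
    have h1 : mm m (32 * na + 96 * nb) = mm (32 * na + 96 * nb) m := by
      apply F_commute h hy hm (by omega)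
      rw [F_p hna hnb, ← ea, ← eb]; exact hcom
    obtain ⟨c, hc, d, hd, rfl | rfl⟩ := cent_v hna hnb (ea' ha) (eb' hb) hm h1
    · refine ⟨c, d, Or.inl ?_⟩
      rw [F_p hc hd, zpow_natCast, zpow_natCast]
    · refine ⟨c, d, Or.inr ?_⟩
      rw [F_mul h hy (by omega) (by norm_num), F_p hc hd, zpow_natCast, zpow_natCast, F_16]
  nor := by
    rintro n hz ⟨a, b, h1⟩ ⟨a', b', h2⟩
    obtain ⟨m, hm, rfl⟩ := exists_code h hy hz
    obtain ⟨na, hna, ea, -⟩ := exists_nat h.x₁3 a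
    obtain ⟨nb, hnb, eb, -⟩ := exists_nat h.x₂3 b
    obtain ⟨na', hna', ea', -⟩ := exists_nat h.x₁3 a'
    obtain ⟨nb', hnb', eb', -⟩ := exists_nat h.x₂3 b'
    have e1 : ∃ a < 3, ∃ b < 3, mm m 32 = mm (32 * a + 96 * b) m := by
      refine ⟨na, hna, nb, hnb, ?_⟩
      apply F_inj h hy (mm_lt hm (by norm_num)) (mm_lt (by omega) hm)
      rw [F_mul h hy hm (by norm_num), F_mul h hy (by omega) hm, F_p hna hnb, F_32, ← ea, ← eb, ← h1]
      group
    have e2 : ∃ a < 3, ∃ b < 3, mm m 96 = mm (32 * a + 96 * b) m := by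
      refine ⟨na', hna', nb', hnb', ?_⟩
      apply F_inj h hy (mm_lt hm (by norm_num)) (mm_lt (by omega) hm)
      rw [F_mul h hy hm (by norm_num), F_mul h hy (by omega) hm, F_p hna' hnb', F_96, ← ea', ← eb', ← h2]
      group
    obtain ⟨c, hc, d, hd, hh⟩ := norm_p m hm e1 e2
    refine ⟨c, d, ?_⟩
    rcases hh with rfl | rfl | rfl | rfl
    · left; rw [F_p hc hd, zpow_natCast, zpow_natCast]
    · right; left
      rw [F_mul h hy (by omega) (by norm_num), F_p hc hd, zpow_natCast, zpow_natCast, F_16]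
    · right; right; left
      rw [F_mul h hy (by omega) (by norm_num), F_p hc hd, zpow_natCast, zpow_natCast, F_288]
    · right; right; right
      rw [F_mul h hy (by omega) (mm_lt (by norm_num) (by norm_num)), F_p hc hd, zpow_natCast, zpow_natCast,
        F_mul h hy (by norm_num) (by norm_num), F_16, F_288]
  vcent := by
    intro g' hz hy' hodd
    obtain ⟨m, hm, rfl⟩ := exists_code h hy hz
    have h1 : mm m 288 = mm 288 m := by
      apply F_commute h hy hm (by norm_num)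
      rw [F_288]; exact hy'
    have h2 := congrArg (F z i j k l x₁ x₂ y) (cent_y m hm h1)
    rw [F_mul h hy hm hm, F_0] at h2
    have h3 : orderOf (F z i j k l x₁ x₂ y m) ∣ 2 := orderOf_dvd_of_pow_eq_one (by rw [pow_two, h2])
    rcases (Nat.dvd_prime Nat.prime_two).1 h3 with h4 | h4
    · exact orderOf_eq_one_iff.1 h4
    · rw [h4] at hodd; exact absurd hodd (by decide)

end Cfsg.Agent.LargeExtra.W2.ThreeG.Main
end

-- part: LargeExtra/W2/CharKill/Comb
section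
/-!
# Four vectors of norm three with inner products two (helper860)
-/

set_option autoImplicit false

namespace Cfsg.Agent.LargeExtra.W2.CharKill

open Finset

/-- An integer vector of squared norm two with value one at a positive vector is the difference of two
distinct unit vectors. -/
theorem exists_single_sub_single {I : Type*} [Fintype I] [DecidableEq I] (a d : I → ℤ)
    (hd : ∀ i, 0 < d i) (h2 : ∑ i, a i * a i = 2) (h0 : ∑ i, a i * d i = 1) :
    ∃ x y : I, x ≠ y ∧ a = Pi.single x 1 - Pi.single y 1 := by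
  have hle : ∀ i, a i * a i ≤ 2 := fun i => by
    rw [← h2]
    exact Finset.single_le_sum (f := fun i => a i * a i) (fun j _ => mul_self_nonneg _) (mem_univ i)
  have hval : ∀ i, a i = -1 ∨ a i = 0 ∨ a i = 1 := fun i => by
    have h := hle i
    have h1 : a i ≤ 1 := by nlinarith only [h]
    have h1' : -1 ≤ a i := by nlinarith only [h]
    omega
  have hpos : ∃ i, a i = 1 := by
    by_contra hcon
    push Not at hcon
    have hnp : ∀ i, a i ≤ 0 := fun i => by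
      rcases hval i with h | h | h
      · omega
      · omega
      · exact absurd h (hcon i)
    have hlt : ∑ i, a i * d i ≤ 0 :=
      Finset.sum_nonpos (fun j _ => mul_nonpos_of_nonpos_of_nonneg (hnp j) (hd j).le)
    omega
  have hneg : ∃ i, a i = -1 := by
    by_contra hcon
    push Not at hcon
    have hlt : ∑ i, a i * a i ≤ ∑ i, a i * d i := by
      refine Finset.sum_le_sum fun i _ => ?_
      rcases hval i with h | h | h
      · exact absurd h (hcon i)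
      · rw [h]; simp
      · rw [h]; have := hd i; omega
    omega
  obtain ⟨x, hx⟩ := hpos
  obtain ⟨y, hy⟩ := hneg
  have hxy : x ≠ y := by
    rintro rfl
    omega
  refine ⟨x, y, hxy, ?_⟩
  funext z
  by_cases hzx : z = x
  · subst hzx
    simp [hx, hxy]
  by_cases hzy : z = y
  · subst hzy
    simp [hy, hzx]
  simp only [Pi.sub_apply, Pi.single_apply, hzx, hzy, if_false, sub_zero]
  have h3 : ∑ i ∈ ({x, y, z} : Finset I), a i * a i ≤ ∑ i, a i * a i :=
    Finset.sum_le_sum_of_subset_of_nonneg (subset_univ _) (fun j _ _ => mul_self_nonneg _)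
  rw [h2, Finset.sum_insert (by simp [hxy, Ne.symm hzx]), Finset.sum_insert (by simpa using Ne.symm hzy),
    Finset.sum_singleton, hx, hy] at h3
  have : a z * a z ≤ 0 := by linarith
  nlinarith only [h3]

/-- The configuration -/
structure Star {I : Type*} [DecidableEq I] (m : Fin 4 → I → ℤ) (e θ : I) (χ : Fin 4 → I) (ε : ℤ) : Prop where
  sq : ε * ε = 1
  inj : ∀ j k, j ≠ k → χ j ≠ χ k
  ne : ∀ j, χ j ≠ θ
  θe : θ ≠ e
  χe : ∀ j, χ j ≠ e
  eq : ∀ j, m j = ε • Pi.single (χ j) 1 - Pi.single e 1 - ε • Pi.single θ 1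

theorem exists_star {I : Type*} [Fintype I] [DecidableEq I] (m : Fin 4 → I → ℤ) (d : I → ℤ) (e : I)
    (hd : ∀ i, 0 < d i) (hde : d e = 1) (hnorm : ∀ j, ∑ i, m j i * m j i = 3)
    (hgram : ∀ j k, j ≠ k → ∑ i, m j i * m k i = 2) (he : ∀ j, m j e = -1)
    (h0 : ∀ j, ∑ i, m j i * d i = 0) : ∃ θ χ ε, Star m e θ χ ε := by
  have key : ∀ (f g : I → ℤ), f e = -1 → g e = -1 →
      ∑ i, (f i + (Pi.single e 1 : I → ℤ) i) * (g i + (Pi.single e 1 : I → ℤ) i) = ∑ i, f i * g i - 1 := by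
    intro f g hf hg
    have h1 : ∀ i, (f i + (Pi.single e 1 : I → ℤ) i) * (g i + (Pi.single e 1 : I → ℤ) i) =
        f i * g i + (Pi.single e (f e + g e + 1) : I → ℤ) i := by
      intro i
      by_cases hi : i = e
      · subst hi
        simp only [Pi.single_eq_same]
        ring
      · simp only [Pi.single_apply, hi, if_false]
        ring
    rw [Finset.sum_congr rfl (fun i _ => h1 i), Finset.sum_add_distrib, Finset.sum_pi_single', if_pos (mem_univ _),
      hf, hg]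
    ring
  have key0 : ∀ (f : I → ℤ), ∑ i, (f i + (Pi.single e 1 : I → ℤ) i) * d i = ∑ i, f i * d i + 1 := by
    intro f
    have h1 : ∀ i, (f i + (Pi.single e 1 : I → ℤ) i) * d i = f i * d i + (Pi.single e (d e) : I → ℤ) i := by
      intro i
      by_cases hi : i = e
      · subst hi
        simp only [Pi.single_eq_same]
        ring
      · simp only [Pi.single_apply, hi, if_false]
        ring
    rw [Finset.sum_congr rfl (fun i _ => h1 i), Finset.sum_add_distrib, Finset.sum_pi_single', if_pos (mem_univ _),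
      hde]
  have hex : ∀ j, ∃ x y : I, x ≠ y ∧ (fun i => m j i + (Pi.single e 1 : I → ℤ) i) =
      Pi.single x 1 - Pi.single y 1 := by
    intro j
    apply exists_single_sub_single _ d hd
    · rw [key _ _ (he j) (he j), hnorm j]; norm_num
    · rw [key0, h0 j]; norm_num
  choose x y hxy hm using hex
  have hval : ∀ j i, m j i + (Pi.single e 1 : I → ℤ) i = (Pi.single (x j) 1 : I → ℤ) i - (Pi.single (y j) 1 : I → ℤ) i :=
    fun j i => congrFun (hm j) i
  have hxe : ∀ j, x j ≠ e := by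
    intro j h
    have := hval j e
    rw [he j, h] at this
    simp only [Pi.single_eq_same, Pi.single_apply] at this
    split_ifs at this with h1
    · exact hxy j (h.trans h1)
    · omega
  have hye : ∀ j, y j ≠ e := by
    intro j h
    have := hval j e
    rw [he j, h] at this
    simp only [Pi.single_eq_same, Pi.single_apply] at this
    split_ifs at this with h1
    · exact hxe j h1.symm
    · omega
  have hgr : ∀ j k, j ≠ k →
      ((if x j = x k then 1 else 0) - (if x j = y k then 1 else 0) - (if y j = x k then 1 else 0)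
        + (if y j = y k then 1 else 0) : ℤ) = 1 := by
    intro j k hjk
    have h1 := key _ _ (he j) (he k)
    rw [hgram j k hjk] at h1
    simp only [hval] at h1
    have h2 : ∀ i, ((Pi.single (x j) 1 : I → ℤ) i - (Pi.single (y j) 1 : I → ℤ) i) *
        ((Pi.single (x k) 1 : I → ℤ) i - (Pi.single (y k) 1 : I → ℤ) i) =
        (Pi.single (x j) (if x j = x k then 1 else 0) : I → ℤ) i
          - (Pi.single (x j) (if x j = y k then 1 else 0) : I → ℤ) i
          - (Pi.single (y j) (if y j = x k then 1 else 0) : I → ℤ) i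
          + (Pi.single (y j) (if y j = y k then 1 else 0) : I → ℤ) i := by
      intro i
      simp only [Pi.single_apply]
      by_cases h1 : i = x j
      · subst h1
        by_cases h2 : x j = y j
        · exact absurd h2 (hxy j)
        · simp only [h2, if_false, if_true]
          ring
      · by_cases h2 : i = y j
        · subst h2
          simp only [h1, if_false, if_true]
          ring
        · simp only [h1, h2, if_false]
          ring
    rw [Finset.sum_congr rfl (fun i _ => h2 i), Finset.sum_add_distrib, Finset.sum_sub_distrib,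
      Finset.sum_sub_distrib] at h1
    simp only [Finset.sum_pi_single', mem_univ, if_true] at h1
    rw [h1]
    norm_num
  have hmj : ∀ j, m j = Pi.single (x j) 1 - Pi.single (y j) 1 - Pi.single e 1 := by
    intro j
    rw [← hm j]
    funext i
    simp
  rcases Cfsg.Agent.Characters.ExceptionalIsometry.all_left_or_all_right x y hxy hgr with h | h
  · refine ⟨x 0, y, -1, ⟨by norm_num, fun j k hjk => (h j k hjk).2, ?_, hxe 0, hye, ?_⟩⟩
    · intro j e1
      by_cases hj : j = 0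
      · subst hj
        exact hxy 0 e1.symm
      · have := (h j 0 hj).1
        exact hxy j (this.trans e1.symm)
    · intro j
      have hx0 : x j = x 0 := by
        by_cases hj : j = 0
        · rw [hj]
        · exact (h j 0 hj).1
      rw [hmj j, hx0]
      simp only [neg_smul, one_smul]
      ring
  · refine ⟨y 0, x, 1, ⟨by norm_num, fun j k hjk => (h j k hjk).1, ?_, hye 0, hxe, ?_⟩⟩
    · intro j e1
      by_cases hj : j = 0
      · subst hj
        exact hxy 0 e1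
      · have := (h j 0 hj).2
        exact hxy j (e1.trans this.symm)
    · intro j
      have hy0 : y j = y 0 := by
        by_cases hj : j = 0
        · rw [hj]
        · exact (h j 0 hj).2
      rw [hmj j, hy0]
      simp only [one_smul]
      ring

/-- A vector of norm three orthogonal to the configuration and to `e` is orthogonal to `θ`. -/
theorem Star.eq_zero {I : Type*} [Fintype I] [DecidableEq I] {m : Fin 4 → I → ℤ} {e θ : I} {χ : Fin 4 → I}
    {ε : ℤ} (h : Star m e θ χ ε) (n : I → ℤ) (hn : ∑ i, n i * n i = 3) (he : n e = 0)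
    (h0 : ∀ j, ∑ i, n i * m j i = 0) : n θ = 0 := by
  have hε := h.sq
  have h1 : ∀ j, n (χ j) = n θ := by
    intro j
    have h2 := h0 j
    rw [h.eq j] at h2
    have h3 : ∀ i, n i * (ε • Pi.single (χ j) 1 - Pi.single e 1 - ε • Pi.single θ 1 : I → ℤ) i =
        ε * (Pi.single (χ j) (n (χ j)) : I → ℤ) i - (Pi.single e (n e) : I → ℤ) i
          - ε * (Pi.single θ (n θ) : I → ℤ) i := by
      intro i
      simp only [Pi.sub_apply, Pi.smul_apply, smul_eq_mul]
      have h4 : ∀ a : I, n i * (Pi.single a 1 : I → ℤ) i = (Pi.single a (n a) : I → ℤ) i := by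
        intro a
        by_cases hi : i = a
        · subst hi; simp
        · simp [Pi.single_apply, hi]
      rw [mul_sub, mul_sub, mul_left_comm, h4, h4, mul_left_comm, h4]
    rw [Finset.sum_congr rfl (fun i _ => h3 i), Finset.sum_sub_distrib, Finset.sum_sub_distrib,
      ← Finset.mul_sum, ← Finset.mul_sum] at h2
    simp only [Finset.sum_pi_single', mem_univ, if_true, he, sub_zero] at h2
    have h5 : ε * (ε * n (χ j) - ε * n θ) = 0 := by rw [h2, mul_zero]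
    have h6 : ε * (ε * n (χ j) - ε * n θ) = (ε * ε) * (n (χ j) - n θ) := by ring
    rw [h6, hε, one_mul] at h5
    omega
  have h2 : ∑ i ∈ ({θ, χ 0, χ 1, χ 2, χ 3} : Finset I), n i * n i ≤ ∑ i, n i * n i :=
    Finset.sum_le_sum_of_subset_of_nonneg (subset_univ _) (fun j _ _ => mul_self_nonneg _)
  rw [hn, Finset.sum_insert (by simp [(h.ne 0).symm, (h.ne 1).symm, (h.ne 2).symm, (h.ne 3).symm]),
    Finset.sum_insert (by
      simp [h.inj 0 1 (by decide), h.inj 0 2 (by decide), h.inj 0 3 (by decide)]),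
    Finset.sum_insert (by simp [h.inj 1 2 (by decide), h.inj 1 3 (by decide)]),
    Finset.sum_insert (by simp [h.inj 2 3 (by decide)]), Finset.sum_singleton, h1 0, h1 1, h1 2, h1 3] at h2
  have h3 : n θ * n θ ≤ 0 := by omega
  nlinarith only [h2]

end Cfsg.Agent.LargeExtra.W2.CharKill
end

-- part: LargeExtra/W2/CharKill/Setup
section
/-!
# The character argument: generalised characters of `C = C_G(z)` (helper860)
-/

set_option autoImplicit false
open Cfsg

namespace Cfsg.Agent.LargeExtra.W2.CharKill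

open Cfsg.Agent.Characters.Core Cfsg.Agent.CharactersDeep.IndFun
open scoped ComplexConjugate

universe u

/-- The data: `Φ` maps `C = C_G(z)` onto the group `W` of order 288 with kernel `⟨z⟩`. -/
structure Setup {G : Type u} [Group G] (z : G) (C : Subgroup G) (Φ : C →* S4 × S4) : Prop where
  hC : C = Subgroup.centralizer ({z} : Set G)
  card : Nat.card C = 576
  ord : orderOf z = 2
  sgn : ∀ c, od (Φ c).1 = od (Φ c).2
  surj : ∀ w : S4 × S4, od w.1 = od w.2 → ∃ c, Φ c = w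
  phiz : ∀ c : C, (c : G) = z → Φ c = 1
  inv : ∀ c, TT (Φ c) = true → c * c = 1
  /-- involutions of `Q` -/
  sqV : ∀ c, VV (Φ c) = true → (c * c = 1 ↔ ((Φ c).1 = 1 ↔ (Φ c).2 = 1))
  cls : ∀ t : G, orderOf t = 2 → IsConj z t
  ti : TIset C (fun c => Dw (Φ c) = true)

namespace Setup

variable {G : Type u} [Group G] {z : G} {C : Subgroup G} {Φ : C →* S4 × S4}

theorem z_mem (h : Setup z C Φ) : z ∈ C := by
  rw [h.hC, Subgroup.mem_centralizer_singleton_iff]

open scoped Classical in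
/-- all fibres of `Φ` over `W` have two elements -/
theorem _root_.Cfsg.Agent.LargeExtra.W2.CharKill.card_fiber_aux [Fintype C] (hcard : Nat.card C = 576)
    (hsgn : ∀ c, od (Φ c).1 = od (Φ c).2) (hsurj : ∀ w : S4 × S4, od w.1 = od w.2 → ∃ c, Φ c = w)
    {w : S4 × S4} (hw : w ∈ W) :
    (Finset.univ.filter (fun c : C => Φ c = w)).card = 2 := by
  have h1 : ∀ w ∈ W, (Finset.univ.filter (fun c : C => Φ c = w)).card =
      (Finset.univ.filter (fun c : C => Φ c = 1)).card := by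
    intro w hw
    obtain ⟨c0, hc0⟩ := hsurj w (mem_W.1 hw)
    refine Finset.card_bij' (fun c _ => c0⁻¹ * c) (fun c _ => c0 * c) ?_ ?_ ?_ ?_
    · intro c hc
      have h2 : Φ c = w := (Finset.mem_filter.1 hc).2
      refine Finset.mem_filter.2 ⟨Finset.mem_univ _, ?_⟩
      rw [map_mul, map_inv, h2, hc0, inv_mul_cancel]
    · intro c hc
      have h2 : Φ c = 1 := (Finset.mem_filter.1 hc).2
      refine Finset.mem_filter.2 ⟨Finset.mem_univ _, ?_⟩
      rw [map_mul, h2, hc0, mul_one]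
    · intro c _
      group
    · intro c _
      group
  have h2 : (Finset.univ : Finset C).card = ∑ w ∈ W, (Finset.univ.filter (fun c : C => Φ c = w)).card :=
    Finset.card_eq_sum_card_fiberwise (fun c _ => by
      show Φ c ∈ W
      exact mem_W.2 (hsgn c))
  rw [Finset.sum_congr rfl h1, Finset.sum_const, card_W, Finset.card_univ, ← Nat.card_eq_fintype_card, hcard,
    smul_eq_mul] at h2
  rw [h1 w hw]
  omega

/-- the kernel of `Φ` -/
theorem _root_.Cfsg.Agent.LargeExtra.W2.CharKill.ker_aux [Finite C] (hcard : Nat.card C = 576)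
    (hsgn : ∀ c, od (Φ c).1 = od (Φ c).2) (hsurj : ∀ w : S4 × S4, od w.1 = od w.2 → ∃ c, Φ c = w)
    (hz : z ∈ C) (hz1 : z ≠ 1) (hΦ : Φ ⟨z, hz⟩ = 1) (c : C) : Φ c = 1 ↔ c = 1 ∨ c = ⟨z, hz⟩ := by
  classical
  have := Fintype.ofFinite C
  have h1 := card_fiber_aux hcard hsgn hsurj (w := 1) (mem_W.2 (by decide))
  have h2 : ({1, ⟨z, hz⟩} : Finset C) ⊆ Finset.univ.filter (fun c : C => Φ c = 1) := by
    intro c hc
    rw [Finset.mem_filter]
    refine ⟨Finset.mem_univ _, ?_⟩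
    rcases Finset.mem_insert.1 hc with rfl | hc
    · exact map_one Φ
    · rw [Finset.mem_singleton] at hc
      rw [hc]
      exact hΦ
  have hne1 : (1 : C) ≠ ⟨z, hz⟩ := fun e => hz1 (congrArg Subtype.val e).symm
  have h3 : ({1, ⟨z, hz⟩} : Finset C).card = 2 := Finset.card_pair hne1
  have h4 := Finset.eq_of_subset_of_card_le h2 (by rw [h1, h3])
  have h5 : c ∈ ({1, ⟨z, hz⟩} : Finset C) ↔ c ∈ Finset.univ.filter (fun c : C => Φ c = 1) := by rw [h4]
  simpa only [_root_.Finset.mem_filter, _root_.Finset.mem_univ, _root_.true_and, _root_.Finset.mem_insert, _root_.Finset.mem_singleton] using h5.symm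

open scoped Classical in
/-- all fibres of `Φ` over `W` have two elements -/
theorem card_fiber [Fintype C] (h : Setup z C Φ) {w : S4 × S4} (hw : w ∈ W) :
    (Finset.univ.filter (fun c : C => Φ c = w)).card = 2 :=
  card_fiber_aux h.card h.sgn h.surj hw

theorem z_ne (h : Setup z C Φ) : z ≠ 1 := by
  intro e
  have := h.ord
  rw [e, orderOf_one] at this
  omega

theorem ker [Finite C] (h : Setup z C Φ) (c : C) : Φ c = 1 ↔ c = 1 ∨ c = ⟨z, h.z_mem⟩ :=
  ker_aux h.card h.sgn h.surj h.z_mem h.z_ne (h.phiz _ rfl) c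

/-- number of elements of `C` over a subset of `W` -/
theorem card_comp [Fintype C] (h : Setup z C Φ) (p : S4 × S4 → Bool) :
    (Finset.univ.filter (fun c : C => p (Φ c) = true)).card = 2 * (W.filter (fun w => p w = true)).card := by
  classical
  rw [Finset.card_eq_sum_card_fiberwise (f := fun c : C => Φ c) (t := W.filter (fun w => p w = true))
    (fun c hc => Finset.mem_coe.2 (Finset.mem_filter.2
      ⟨mem_W.2 (h.sgn c), (Finset.mem_filter.1 (Finset.mem_coe.1 hc)).2⟩))]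
  rw [Finset.sum_congr rfl (g := fun _ => 2) (fun w hw => ?_), Finset.sum_const, smul_eq_mul, mul_comm]
  rw [Finset.mem_filter] at hw
  rw [← h.card_fiber hw.1]
  congr 1
  ext c
  simp only [Finset.mem_filter, Finset.mem_univ, true_and]
  constructor
  · exact fun h1 => h1.2
  · intro h1
    exact ⟨by rw [h1]; exact hw.2, h1⟩

/-- summation over `C` of a function of `Φ c` -/
theorem sum_comp [Fintype C] (h : Setup z C Φ) (F : S4 × S4 → ℂ) :
    ∑ c : C, F (Φ c) = 2 * ∑ w ∈ W, F w := by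
  classical
  rw [← Finset.sum_fiberwise_of_maps_to (s := Finset.univ) (t := W) (g := fun c : C => Φ c)
    (fun c _ => mem_W.2 (h.sgn c)), Finset.mul_sum]
  refine Finset.sum_congr rfl fun w hw => ?_
  rw [Finset.sum_congr rfl (g := fun _ => F w) (fun c hc => by rw [(Finset.mem_filter.1 hc).2]), Finset.sum_const,
    h.card_fiber hw, nsmul_eq_mul]
  norm_num

theorem classInner_comp [Fintype C] (h : Setup z C Φ) (f g : S4 × S4 → ℤ) :
    classInner (fun c : C => (f (Φ c) : ℂ)) (fun c : C => (g (Φ c) : ℂ)) = ((∑ w ∈ W, f w * g w : ℤ) : ℂ) / 288 := by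
  unfold classInner
  rw [h.card]
  have h1 := h.sum_comp (fun w => ((f w * g w : ℤ) : ℂ))
  have h2 : ∀ c : C, (f (Φ c) : ℂ) * conj ((g (Φ c) : ℂ)) = ((f (Φ c) * g (Φ c) : ℤ) : ℂ) := by
    intro c
    rw [Complex.conj_eq_iff_im.2 (by simp)]
    push_cast
    rfl
  rw [Finset.sum_congr rfl (fun c _ => h2 c), h1]
  push_cast
  ring

/-! ### characters of `C` -/

/-- the permutation character of an action given by maps -/
theorem isCharacter_of_act (X : Type) [Fintype X] [DecidableEq X] (act : C → X → X) (h1 : ∀ x, act 1 x = x)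
    (hm : ∀ a b x, act (a * b) x = act a (act b x)) :
    IsCharacter C (fun c => (((Finset.univ.filter (fun x => act c x = x)).card : ℕ) : ℂ)) := by
  letI : MulAction C X :=
    { smul := act
      one_smul := h1
      mul_smul := hm }
  have h := Cfsg.Agent.S0157.isCharacter_fixedBy (G := C) X
  convert h using 1
  funext c
  rw [Nat.card_eq_fintype_card]
  congr 1
  rw [Fintype.card_subtype]
  rfl

theorem isCharacter_fix3 (act : C → ZMod 3 → ZMod 3) (h1 : ∀ x, act 1 x = x)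
    (hm : ∀ a b x, act (a * b) x = act a (act b x)) : IsCharacter C (fun c => (fix3 (act c) : ℂ)) := by
  have h := isCharacter_of_act (ZMod 3) act h1 hm
  convert h using 1
  funext c
  have h2 : ∀ f : ZMod 3 → ZMod 3, fix3 f = ((Finset.univ.filter (fun x => f x = x)).card : ℤ) := by
    intro f
    rw [Finset.card_filter]
    have : (Finset.univ : Finset (ZMod 3)) = {0, 1, 2} := by decide
    rw [this, Finset.sum_insert (by decide), Finset.sum_insert (by decide), Finset.sum_singleton]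
    unfold fix3
    push_cast
    ring
  rw [h2]
  push_cast
  rfl

theorem isCharacter_fix (f : C →* S4) : IsCharacter C (fun c => (fix (f c) : ℂ)) := by
  have h := isCharacter_of_act (Fin 4) (fun c x => f c x) (fun x => by simp) (fun a b x => by simp)
  convert h using 1
  funext c
  have h2 : ∀ a : S4, fix a = ((Finset.univ.filter (fun x => a x = x)).card : ℤ) := by
    intro a
    rw [Finset.card_filter]
    have : (Finset.univ : Finset (Fin 4)) = {0, 1, 2, 3} := by decide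
    rw [this, Finset.sum_insert (by decide), Finset.sum_insert (by decide), Finset.sum_insert (by decide),
      Finset.sum_singleton]
    unfold fix
    push_cast
    ring
  rw [h2]
  push_cast
  rfl

theorem isCharacter_e2 (Φ : C →* S4 × S4) : IsCharacter C (fun c => (e2 (Φ c) : ℂ)) := by
  have h := isCharacter_of_act Bool (fun c x => xor (od (Φ c).1) x) (fun x => by
    have : od (1 : S4) = false := by decide
    rw [map_one]
    show xor (od (1 : S4)) x = x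
    rw [this]; simp) (fun a b x => by
    rw [map_mul]
    show xor (od ((Φ a).1 * (Φ b).1)) x = _
    rw [od_mul, Bool.xor_assoc])
  convert h using 1
  funext c
  unfold e2
  cases od (Φ c).1 <;> simp

theorem act3_one (j : Fin 4) (x : ZMod 3) : act3 j (1 : S4 × S4) x = x := by
  revert j x; decide

theorem act3_mul (j : Fin 4) {w w' : S4 × S4} (hw : od w.1 = od w.2) (x : ZMod 3) :
    act3 j (w * w') x = act3 j w (act3 j w' x) := by
  match j with
  | 0 => exact kap_mul _ _ _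
  | 1 => exact kap_mul _ _ _
  | 2 =>
    show kap (w.1 * w'.1) x + kap (w.2 * w'.2) 0 = kap w.1 (kap w'.1 x + kap w'.2 0) + kap w.2 0
    rw [kap_mul, kap_mul, kap_affine w.1 (kap w'.1 x), kap_affine w.1 (kap w'.1 x + kap w'.2 0),
      kap_affine w.2 (kap w'.2 0), ← hw]
    cases od w.1 <;> simp only [_root_.Bool.false_eq_true, ↓ _root_.reduceIte, _root_.neg_add_rev] <;> ring
  | 3 =>
    show kap (w.1 * w'.1) x - kap (w.2 * w'.2) 0 = kap w.1 (kap w'.1 x - kap w'.2 0) - kap w.2 0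
    rw [kap_mul, kap_mul, kap_affine w.1 (kap w'.1 x), kap_affine w.1 (kap w'.1 x - kap w'.2 0),
      kap_affine w.2 (kap w'.2 0), ← hw]
    cases od w.1 <;> simp only [_root_.Bool.false_eq_true, ↓ _root_.reduceIte, _root_.neg_sub] <;> ring

/-- `δ_j` as a function on `C` -/
noncomputable def dl (Φ : C →* S4 × S4) (j : Fin 4) : C → ℂ := fun c => (del j (Φ c) : ℂ)

/-- `f_j` as a function on `C` -/
noncomputable def fl (Φ : C →* S4 × S4) (j : Fin 2) : C → ℂ := fun c => (ff j (Φ c) : ℂ)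

/-- `h` as a function on `C` -/
noncomputable def hl (Φ : C →* S4 × S4) : C → ℂ := fun c => (hh (Φ c) : ℂ)

theorem gen_mul {f g : C → ℂ} (hf : IsGeneralizedCharacter C f) (hg : IsCharacter C g) :
    IsGeneralizedCharacter C (f * g) := by
  obtain ⟨a, b, ha, hb, rfl⟩ := hf
  exact ⟨a * g, b * g, isCharacter_mul ha hg, isCharacter_mul hb hg, sub_mul _ _ _⟩

theorem gen_sub {f g : C → ℂ} (hf : IsGeneralizedCharacter C f) (hg : IsGeneralizedCharacter C g) :
    IsGeneralizedCharacter C (f - g) := by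
  obtain ⟨a, b, ha, hb, rfl⟩ := hf
  obtain ⟨c, d, hc, hd, rfl⟩ := hg
  exact ⟨a + d, b + c, isCharacter_add ha hd, isCharacter_add hb hc, by ring⟩

theorem gen_of {f : C → ℂ} (hf : IsCharacter C f) : IsGeneralizedCharacter C f :=
  ⟨f, 0, hf, isCharacter_zero, by simp⟩

theorem gen_dl (h : Setup z C Φ) (j : Fin 4) : IsGeneralizedCharacter C (dl Φ j) := by
  have h1 := isCharacter_fix3 (fun c => act3 j (Φ c)) (fun x => by rw [map_one]; exact act3_one j x)
    (fun a b x => by rw [map_mul]; exact act3_mul j (h.sgn a) x)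
  have h2 := isCharacter_e2 Φ
  refine ⟨_, _, h1, isCharacter_add isCharacter_one h2, ?_⟩
  funext c
  simp only [dl, del, Pi.sub_apply, Pi.add_apply, Pi.one_apply]
  push_cast
  ring

theorem gen_fl (h : Setup z C Φ) (j : Fin 2) : IsGeneralizedCharacter C (fl Φ j) := by
  have h1 := isCharacter_fix ((MonoidHom.fst S4 S4).comp Φ)
  have h2 := isCharacter_fix ((MonoidHom.snd S4 S4).comp Φ)
  match j with
  | 0 =>
    have h3 := gen_sub (gen_mul (h.gen_dl 0) h2) (h.gen_dl 0)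
    convert h3 using 1
    funext c
    simp only [fl, ff, dl, Pi.sub_apply, Pi.mul_apply, MonoidHom.comp_apply, MonoidHom.coe_snd]
    push_cast
    ring
  | 1 =>
    have h3 := gen_sub (gen_mul (h.gen_dl 1) h1) (h.gen_dl 1)
    convert h3 using 1
    funext c
    simp only [fl, ff, dl, Pi.sub_apply, Pi.mul_apply, MonoidHom.comp_apply, MonoidHom.coe_fst]
    push_cast
    ring

theorem char_hl (Φ : C →* S4 × S4) : IsCharacter C (hl Φ) := by
  have h1 := isCharacter_fix ((MonoidHom.fst S4 S4).comp Φ)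
  have h2 := isCharacter_fix ((MonoidHom.snd S4 S4).comp Φ)
  have h3 := isCharacter_e2 Φ
  have h4 := isCharacter_mul (isCharacter_mul h1 h2) h3
  convert h4 using 1
  funext c
  simp only [hl, hh, Pi.mul_apply, MonoidHom.comp_apply, MonoidHom.coe_fst, MonoidHom.coe_snd]
  push_cast
  ring

theorem dl_supp (h : Setup z C Φ) (j : Fin 4) (c : C) (hc : dl Φ j c ≠ 0) : Dw (Φ c) = true := by
  apply supp_del (h.sgn c) (j := j)
  intro e
  apply hc
  simp [dl, e]

theorem fl_supp (h : Setup z C Φ) (j : Fin 2) (c : C) (hc : fl Φ j c ≠ 0) : Dw (Φ c) = true := by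
  apply supp_ff (h.sgn c) (j := j)
  intro e
  apply hc
  simp [fl, e]

theorem gen_class {f : C → ℂ} (hf : IsGeneralizedCharacter C f) : IsClassFunction C f := by
  obtain ⟨a, b, ha, hb, rfl⟩ := hf
  intro g x
  simp only [Pi.sub_apply]
  rw [isCharacter_isClassFunction ha, isCharacter_isClassFunction hb]

theorem gen_ind [Fintype G] {f : C → ℂ} (hf : IsGeneralizedCharacter C f) :
    IsGeneralizedCharacter G (indFun C f) := by
  obtain ⟨a, b, ha, hb, rfl⟩ := hf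
  exact ⟨_, _, isCharacter_indFun C ha, isCharacter_indFun C hb, indFun_sub C a b⟩

end Setup

end Cfsg.Agent.LargeExtra.W2.CharKill
end

private theorem dce_657764b6dd9f : _root_.True := by
  try have : _root_.True := by simp only [_root_.Cfsg.Agent.LargeExtra.W2.CharKill.ff.eq_2]
  try have : _root_.True := by simp only [_root_.Cfsg.Agent.LargeExtra.W2.CharKill.ff.eq_1]
  try have : _root_.True := by simp only [_root_.Cfsg.Agent.LargeExtra.W2.CharKill.Setup.dl.eq_1]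
  try have : _root_.True := by simp only [_root_.Cfsg.Agent.LargeExtra.W2.CharKill.Setup.hl.eq_1]
  try have : _root_.True := by simp only [_root_.Cfsg.Agent.LargeExtra.W2.CharKill.Setup.fl.eq_1]
  try have : _root_.True := by simp only [_root_.Cfsg.Agent.LargeExtra.W2.ThreeG.Model.km.eq_1]
  try have : _root_.True := by simp only [_root_.Cfsg.Agent.LargeExtra.W2.ThreeC.Sit.R.congr_simp]
  try have : _root_.True := by simp only [_root_.Cfsg.Agent.LargeExtra.W2.CharKill.hh.eq_1]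
  try have : _root_.True := by simp only [_root_.Cfsg.Agent.LargeExtra.W2.ThreeG.Model.F.eq_1]
  try have : _root_.True := by simp only [_root_.Cfsg.Agent.LargeExtra.W2.CharKill.del.eq_1]
  exact _root_.True.intro
end

-- part: LargeExtra/W2/ThreeG/Relation
section
set_option linter.all false
open scoped Cfsg.Agent.FastGrp

/-!
# Case `9c` of S1759 (`G₂(3)`): the relation from the 3-local analysis (helper865)

* `relation`: unless `C_G(x₁) ≤ C_G(z)` and `C_G(x₂) ≤ C_G(z)`, `x₁` commutes with `(x₁)^{gq}`, `(x₂)^{gq}` for some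
  `q ∈ {1, i j, k l, i j k l}`, `g : z → y → z y`.
* `exists_torus₁`, `exists_torus₂`: a subgroup of order nine of `C_G(y) ∩ C_G(x)` inverted by `z`.
* `comm_mod₁`, `comm_mod₂`: `g, h ∈ C_G(x)` of odd order inverted by `z` commute modulo `⟨x⟩`.
-/

set_option autoImplicit false

open scoped commutatorElement

namespace Cfsg.Agent.LargeExtra.W2.ThreeG.Main

open Cfsg Cfsg.Agent.LargeExtra.W2 Cfsg.Agent.LargeExtra.W2.ThreeG.Model
open Cfsg.Agent.SmallExtra438.Frame (L kap kap_of L_0 L_1 L_2 L_3 L_4 L_12 L_15 L_16)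
open Cfsg.Agent.LargeExtra.W2.ThreeG.Dec
open Cfsg.Agent.LargeExtra.W2.ThreeA Cfsg.Agent.LargeExtra.W2.ThreeC Cfsg.Agent.LargeExtra.W2.ThreeD
open Cfsg.Agent.StandardComponent.CentCore

variable {G : Type*} [Group G] {Q : Subgroup G} {z i j k l x₁ x₂ y : G}
variable (h : Case9c Q z i j k l x₁ x₂ y) (hy : y * y = 1)

/-- an element of odd order in `C_G(x)` inverted by `z` lies in the odd core -/
theorem mem_core_of_odd [Finite G] {z τ x y : G} {Q : Subgroup G} (h : Half z τ x y Q) {g : G}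
    (hg : g * x = x * g) (hz : z * g * z⁻¹ = g⁻¹) (hodd : Odd (orderOf g)) : g ∈ centralizerPPrimeCore 2 x := by
  have h1 := h.comm_mem_core hg
  rw [hz] at h1
  -- `g⁻² ∈ K`, `g` is a power of `g⁻²`
  obtain ⟨n, hn⟩ := hodd
  have h2 : g = (g⁻¹ * g⁻¹) ^ n := by
    have h3 : g ^ (2 * n + 1) = 1 := by rw [← hn, pow_orderOf_eq_one]
    have h4 : (g⁻¹ * g⁻¹) ^ n = (g ^ (2 * n))⁻¹ := by
      rw [← mul_inv_rev, ← pow_two, inv_pow, ← pow_mul]
    rw [h4, eq_inv_iff_mul_eq_one, ← pow_succ', h3]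
  rw [h2]
  exact Subgroup.pow_mem _ h1 _

/-- elements of odd order of `C_G(x)` inverted by `z` commute modulo `⟨x⟩` -/
theorem comm_mod [Finite G] {z τ x y : G} {Q : Subgroup G} (h : Half z τ x y Q) {g g' : G}
    (hg : g * x = x * g) (hz : z * g * z⁻¹ = g⁻¹) (hodd : Odd (orderOf g))
    (hg' : g' * x = x * g') (hz' : z * g' * z⁻¹ = g'⁻¹) (hodd' : Odd (orderOf g')) :
    ⁅g, g'⁆ ∈ Subgroup.zpowers x := by
  have h1 := mem_core_of_odd h hg hz hodd
  have h2 := mem_core_of_odd h hg' hz' hodd'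
  obtain ⟨n, hn⟩ := h.core_comm_mod h1 h2
  have hc : Commute x (g' * g) := by
    have e1 : Commute x g := (show Commute g x from hg).symm
    have e2 : Commute x g' := (show Commute g' x from hg').symm
    exact e2.mul_right e1
  have h3 : ⁅g, g'⁆ = x ^ n := by
    rw [commutatorElement_def]
    have e1 : g' * g * x ^ n = x ^ n * (g' * g) := (hc.zpow_left n).eq.symm
    rw [hn, e1]; group
  rw [h3]
  exact Subgroup.zpow_mem_zpowers x n

/-- a subgroup of order nine of `C_G(τ)` inverted by `z` -/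
theorem torus [Finite G] {z τ x y : G} {Q : Subgroup G} (h : Half z τ x y Q)
    (h9 : Nat.card (centralizerPPrimeCore 2 x ⊓ Subgroup.centralizer {τ} : Subgroup G) = 9) :
    ∃ A : Subgroup G, Nat.card A = 9 ∧ (∀ a ∈ A, a * τ = τ * a) ∧ (∀ a ∈ A, a * x = x * a) ∧
      (∀ a ∈ A, z * a * z⁻¹ = a⁻¹) ∧ (∀ a ∈ A, ∀ b ∈ A, a * b = b * a) := by
  refine ⟨_, h9, fun a ha => Subgroup.mem_centralizer_singleton_iff.1 ha.2, fun a ha => core_comm ha.1,
    fun a ha => h.inv_of_τ ha.1 (Subgroup.mem_centralizer_singleton_iff.1 ha.2), ?_⟩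
  intro a ha b hb
  have e1 := h.inv_of_τ ha.1 (Subgroup.mem_centralizer_singleton_iff.1 ha.2)
  have e2 := h.inv_of_τ hb.1 (Subgroup.mem_centralizer_singleton_iff.1 hb.2)
  have hab := Subgroup.mul_mem _ ha hb
  have e3 := h.inv_of_τ hab.1 (Subgroup.mem_centralizer_singleton_iff.1 hab.2)
  have e4 : z * (a * b) * z⁻¹ = (z * a * z⁻¹) * (z * b * z⁻¹) := by group
  rw [e3, e1, e2] at e4
  have e5 : (a * b)⁻¹ = (b * a)⁻¹ := by rw [e4]; group
  exact inv_injective e5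

include h hy in
/-- **(O1)** for `x₁` and `x₂` -/
theorem exists_torus [Finite G] {g : G} (hg1 : g * z * g⁻¹ = y) (hg2 : g * y * g⁻¹ = z * y)
    (hne : ¬ (Subgroup.centralizer {x₁} ≤ Subgroup.centralizer {z} ∧
      Subgroup.centralizer {x₂} ≤ Subgroup.centralizer {z})) (x : G) (hx : x = x₁ ∨ x = x₂) :
    ∃ A : Subgroup G, Nat.card A = 9 ∧ (∀ a ∈ A, a * y = y * a) ∧ (∀ a ∈ A, a * x = x * a) ∧
      (∀ a ∈ A, z * a * z⁻¹ = a⁻¹) ∧ (∀ a ∈ A, ∀ b ∈ A, a * b = b * a) := by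
  have hT := two h hy hg1 hg2
  rcases dichotomy hT with ⟨h1, h2⟩ | ⟨h9, h9'⟩
  · exfalso
    apply hne
    constructor
    · intro c hc
      rw [Subgroup.mem_centralizer_singleton_iff] at hc ⊢
      exact h1 c hc
    · intro c hc
      rw [Subgroup.mem_centralizer_singleton_iff] at hc ⊢
      exact h2 c hc
  rcases hx with rfl | rfl
  · exact torus hT.h₁ h9
  · exact torus hT.h₂ h9'

include h hy in
/-- **(O2)** for `x₁` and `x₂` -/
theorem commutator_mem [Finite G] (x : G) (hx : x = x₁ ∨ x = x₂) {g g' : G}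
    (hg : g * x = x * g) (hz : z * g * z⁻¹ = g⁻¹) (hodd : Odd (orderOf g))
    (hg' : g' * x = x * g') (hz' : z * g' * z⁻¹ = g'⁻¹) (hodd' : Odd (orderOf g')) :
    ⁅g, g'⁆ ∈ Subgroup.zpowers x := by
  rcases hx with rfl | rfl
  · exact comm_mod (half2 h hy) hg hz hodd hg' hz' hodd'
  · exact comm_mod (half1 h hy) hg hz hodd hg' hz' hodd'

end Cfsg.Agent.LargeExtra.W2.ThreeG.Main
end
end
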